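import Cfsg.Agent.H20.CK.S
import Cfsg.Agent.H17.GS23

/-! Solvability when the involutions span a space with a prime number of points. -/

set_option autoImplicit false
set_option linter.unusedSectionVars false

namespace H20.CK
open MulAction Subgroup H17.GS
open scoped commutatorElement

universe u
variable {G : Type u} {V : Type*} [Group G] [Finite G] [AddCommGroup V] [Finite V]

theorem ft (H : Subgroup G) (h : Odd (Nat.card H)) : Group.IsSolvable H := OG.sol (og_iff.2 h)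

theorem sol_ext (N : Subgroup G) [N.Normal] (h1 : Group.IsSolvable N)
    (h2 : Group.IsSolvable (G ⧸ N)) : Group.IsSolvable G :=
  Group.isSolvable_of_ker_le_range N.subtype (QuotientGroup.mk' N) (by simp)

theorem odd_of_pow {H : Subgroup G} {m : ℕ} (hm : Odd m) (h : ∀ x ∈ H, x ^ m = 1) :
    Odd (Nat.card H) := by
  rw [← Nat.not_even_iff_odd, even_iff_two_dvd]
  intro d
  obtain ⟨x, hx⟩ := exists_prime_orderOf_dvd_card' 2 d
  have : orderOf x ∣ m := orderOf_dvd_of_pow_eq_one (Subtype.ext (h x x.2))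
  rw [hx] at this
  exact (Nat.not_even_iff_odd.2 hm) (even_iff_two_dvd.2 this)

def NoO (G : Type*) [Group G] : Prop := ∀ N : Subgroup G, N.Normal → Odd (Nat.card N) → N = ⊥

variable [DistribMulAction G V] {ι : V → G}

theorem Py.csol (h : Py ι) (hp : (Nat.card V - 1).Prime)
    (tr : ∀ u v : V, u ≠ 0 → v ≠ 0 → ∃ g : G, g • u = v) (hO : NoO G) :
    Group.IsSolvable (Cv G V) := by
  haveI := h.Wn
  let π := QuotientGroup.mk' h.W
  let X := (Cv G V).map π
  have Xn : X.Normal := Normal.map inferInstance π (QuotientGroup.mk'_surjective _)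
  have cX : X.comap π = Cv G V := comap_map_eq_self (by simpa [π] using h.WC)
  have πe : ∀ {a b : G}, π a = π b → ∃ v, b = a * ι v := fun {a b} e => by
    obtain ⟨v, hv⟩ := QuotientGroup.eq.1 e
    exact ⟨v, by rw [hv, mul_inv_cancel_left]⟩
  have sqv : ∀ a ∈ Cv G V, ∀ v, a * ι v * (a * ι v) = a * a := fun a ha v => by
    rw [mul_assoc, ← mul_assoc (ι v), ← h.com ha, mul_assoc, h.sq, mul_one]
  by_contra hn
  have hX : ¬ H19.Sol X := fun c => hn (by
    haveI : Group.IsSolvable h.W := Group.isSolvable_of_comm fun ⟨_, a, ha⟩ ⟨_, b, hb⟩ =>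
      Subtype.ext (by simp only [MulMemClass.mk_mul_mk, ← ha, ← hb, ← h.add, add_comm])
    exact Group.isSolvable_of_ker_le_range (inclusion h.WC) (π.subgroupMap _) fun x hx =>
      ⟨⟨x, (QuotientGroup.eq_one_iff _).1 (congrArg Subtype.val hx)⟩, rfl⟩)
  have hab : AbS X := fun P P1 P2 => by
    obtain ⟨T, T0, T1, T2, T3⟩ := exSyl' (P := P.comap π) (H := Cv G V)
      (P1.isPGroup.comap_of_ker_isPGroup π (by rw [QuotientGroup.ker_mk']; exact h.Wp)) (cX ▸ comap_mono P2)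
    refine ⟨⟨fun ⟨a, ha⟩ ⟨b, hb⟩ => Subtype.ext ?_⟩⟩
    obtain ⟨a, rfl⟩ := QuotientGroup.mk'_surjective _ a
    obtain ⟨b, rfl⟩ := QuotientGroup.mk'_surjective _ b
    show π a * π b = π b * π a
    rcases h.tv hp tr T2 T1 T3 (fun v => T0 (by
      rw [mem_comap, show π (ι v) = 1 from (QuotientGroup.eq_one_iff _).2 ⟨v, rfl⟩]
      exact one_mem _)) with c | c
    · rw [← map_mul, c a (T0 ha) b (T0 hb), map_mul]
    · have s : ∀ a ∈ T, π a * π a = 1 := fun a ha => (QuotientGroup.eq_one_iff (a * a)).2 (c a ha)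
      rw [← map_mul, ← inv_eq_of_mul_eq_one_left (s _ (mul_mem (T0 ha) (T0 hb))), map_mul,
        mul_inv_rev, inv_eq_of_mul_eq_one_left (s a (T0 ha)), inv_eq_of_mul_eq_one_left (s b (T0 hb))]
  have h0 : O(X) = ⊥ := by
    have On : O(X).Normal := normalizer_eq_top_iff.1 (top_le_iff.1
      (H19.norms_Oc _ (normalizer_eq_top_iff.2 Xn).ge))
    let Y := O(X).comap π
    have YC : Y ≤ Cv G V := cX ▸ comap_mono (H19.Oc_le _ _)
    have od := og_iff.1 (O_og X)
    have m1 : ∀ y ∈ Y, y ^ Nat.card O(X) ∈ h.W := fun y hy => (QuotientGroup.eq_one_iff _).1 (by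
      show π _ = 1
      rw [map_pow]
      exact congrArg Subtype.val (pow_card_eq_one' (x := (⟨π y, hy⟩ : O(X)))))
    have n1 : Odd (center Y).index := by
      refine od.of_dvd_nat ((index_dvd_of_le (H := h.W.subgroupOf Y) fun x ⟨v, e⟩ =>
        mem_center_iff.2 fun y => Subtype.ext (show (y : G) * x = x * y by
          rw [show (x : G) = ι v from e.symm, h.com (YC y.2) v])).trans ?_)
      have := relIndex_ker Y π
      rw [map_comap_eq_self_of_surjective (QuotientGroup.mk'_surjective _)] at this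
      rw [← this, QuotientGroup.ker_mk']
      rfl
    let K : Subgroup G :=
      { carrier := {y | y ∈ Y ∧ (y ^ (center Y).index) ^ Nat.card O(X) = 1}
        one_mem' := ⟨one_mem _, by simp⟩
        inv_mem' := fun ⟨a, b⟩ => ⟨inv_mem a, by simp [b]⟩
        mul_mem' := fun {a b} ⟨a1, a2⟩ ⟨b1, b2⟩ => ⟨mul_mem a1 b1, by
          have := map_mul (MonoidHom.transferCenterPow Y) ⟨a, a1⟩ ⟨b, b1⟩
          have e := congrArg (fun z : center Y => ((z ^ Nat.card O(X) : center Y) : G)) this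
          beta_reduce at e
          rw [Commute.mul_pow (Subtype.ext (mem_center_iff.1 (Subtype.prop _) _))] at e
          simpa [a2, b2] using e⟩ }
    have K0 := hO K ⟨fun y ⟨a, b⟩ g => ⟨(On.comap π).conj_mem y a g, by simp [b]⟩⟩
      (odd_of_pow (n1.mul od) fun x hx => by rw [pow_mul]; exact hx.2)
    refine (eq_bot_iff_forall _).2 fun y hy => ?_
    obtain ⟨y, rfl⟩ := QuotientGroup.mk'_surjective _ y
    obtain ⟨v, hv⟩ := m1 y hy
    have : y * y ∈ K := ⟨mul_mem hy hy, by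
      rw [← pow_mul, mul_comm, pow_mul, (Commute.refl y).mul_pow, ← hv, h.sq, one_pow]⟩
    rw [K0] at this
    exact (QuotientGroup.eq_one_iff y).2 (h.inv y this)
  let D : Subgroup (G ⧸ h.W) → G → V → Prop := fun J x c =>
    Comp J X ∧ x ∈ Cv G V ∧ π x ∈ J ∧ orderOf (π x) = 2 ∧ ι c = x * x
  have U : ∀ J x y c d, D J x c → D J y d → c = d := by
    rintro J x y c d ⟨a1, a2, a3, a4, a5⟩ ⟨-, b2, b3, b4, b5⟩
    have s := a1.sim h0 hab
    obtain ⟨g, hg, e⟩ := (ab_gt' s (hab.mono a1.le)).conj s a3 b3 a4 b4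
    obtain ⟨k, hk, rfl⟩ := a1.le hg
    obtain ⟨v, rfl⟩ := πe (a := k * x * k⁻¹) e
    refine h.inj ?_
    rw [b5, sqv _ (mul_mem (mul_mem hk a2) (inv_mem hk)), conj_mul, ← a5, h.com hk,
      mul_inv_cancel_right]
  have E : ∀ v, v ≠ 0 → ∃ J x, D J x v := fun v hv => by
    obtain ⟨J, hJ⟩ := hab.exists_comp h0 hX
    obtain ⟨t, t1, t2⟩ := exists_inv (H := J) fun c => (hJ.sim h0 hab).nsol c.sol
    obtain ⟨x, hx, rfl⟩ := hJ.le t1
    obtain ⟨c, hc⟩ := (QuotientGroup.eq_one_iff (x * x)).1 (mul_self_of_ord2 t2)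
    obtain ⟨g, rfl⟩ := tr c v (by
      rintro rfl
      exact ne_one_of_ord2 t2 ((QuotientGroup.eq_one_iff x).2 (h.inv x (by rw [← hc, h.z])))) hv
    refine ⟨_, g * x * g⁻¹, hJ.conj (g := π g) ((normalizer_eq_top_iff.2 Xn).ge trivial),
      Normal.conj_mem inferInstance _ hx g, H19.mem_cj'.2 ⟨_, t1, rfl⟩, ?_, by rw [h.sm, hc, conj_mul]⟩
    rw [← t2]
    exact ((MulAut.conj (π g)).orderOf_eq (π x))
  have M : ∀ J L x y c d, D J x c → D L y d → c ≠ d →
      L ≤ centralizer (J : Set _) ∧ Commute x y := by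
    rintro J L x y c d a b ne
    have k := b.1.cents a.1 (by rintro rfl; exact ne (U _ _ _ _ _ a b))
    refine ⟨k, ?_⟩
    have k2 : ⁅J.comap π, L.comap π⁆ ≤ h.W := commutator_le.2 fun p hp q hq =>
      (QuotientGroup.eq_one_iff _).1 (by
        show π _ = 1
        rw [map_commutatorElement, commutatorElement_eq_one_iff_mul_comm]
        exact k hq _ hp)
    have k3 : ⁅h.W, J.comap π⁆ = ⊥ := commutator_eq_bot_iff_le_centralizer.2 (by
      rintro _ ⟨v, rfl⟩ p hp
      exact h.com (cX ▸ comap_mono a.1.le <| hp) v)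
    have k4 := commutator_commutator_eq_bot_of_rotate (H₁ := J.comap π) (H₂ := J.comap π)
      (H₃ := L.comap π) (le_bot_iff.1 (k3 ▸ commutator_mono k2 le_rfl))
      (le_bot_iff.1 (k3 ▸ commutator_mono (commutator_comm (J.comap π) _ ▸ k2) le_rfl))
    have k5 : π x ∈ ⁅J.comap π, J.comap π⁆.map π := by
      rw [map_commutator, map_comap_eq_self_of_surjective (QuotientGroup.mk'_surjective _),
        qs_perfect a.1.qs]
      exact a.2.2.1
    obtain ⟨z, hz, e⟩ := k5
    obtain ⟨v, rfl⟩ := πe e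
    exact Commute.mul_left (commutator_eq_bot_iff_le_centralizer.1 k4 hz y b.2.2.1).symm
      (h.com b.2.1 v).symm
  have c3 : 2 < Nat.card V := by have := hp.two_le; omega
  letI := Fintype.ofFinite V
  obtain ⟨u, v, hu, hv, huv⟩ : ∃ u v : V, u ≠ 0 ∧ v ≠ 0 ∧ u ≠ v := by
    obtain ⟨a, b, c, h1, h2, h3⟩ := Fintype.two_lt_card_iff.1 (Nat.card_eq_fintype_card (α := V) ▸ c3)
    exact ⟨a - c, b - c, sub_ne_zero.2 h2, sub_ne_zero.2 h3, by simpa using h1⟩
  obtain ⟨J1, x1, d1⟩ := E u hu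
  obtain ⟨J2, x2, d2⟩ := E v hv
  obtain ⟨J3, x3, d3⟩ := E (u + v) (mt (pg h.h2).az.1 huv)
  obtain ⟨a1, a2⟩ := M _ _ _ _ _ _ d1 d2 huv
  obtain ⟨b1, b2⟩ := M _ _ _ _ _ _ d1 d3 (by simpa using hv)
  obtain ⟨-, c2⟩ := M _ _ _ _ _ _ d2 d3 (by simpa using hu)
  have e : π (x1 * x2 * x3) = 1 := (QuotientGroup.eq_one_iff _).2 (h.inv (x1 * x2 * x3) (by
    rw [← sq, (b2.mul_left c2).mul_pow, a2.mul_pow, sq, sq, sq, ← d1.2.2.2.2, ← d2.2.2.2.2,
      ← d3.2.2.2.2, ← h.add, h.sq]))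
  have e2 : π x1 = (π x2 * π x3)⁻¹ := eq_inv_of_mul_eq_one_left (by rw [← mul_assoc]; exact e)
  have : π x1 ∈ J1 ⊓ centralizer (J1 : Set _) :=
    mem_inf.2 ⟨d1.2.2.1, e2 ▸ inv_mem (mul_mem (a1 d2.2.2.1) (b1 d3.2.2.1))⟩
  rw [(d1.1.sim h0 hab).center] at this
  exact ne_one_of_ord2 d1.2.2.2.1 this

theorem Py.mers (h : Py ι) (hp : (Nat.card V - 1).Prime)
    (tr : ∀ u v : V, u ≠ 0 → v ≠ 0 → ∃ g : G, g • u = v) (hO : NoO G) : Group.IsSolvable G := by
  refine sol_ext (Cv G V) (h.csol hp tr hO) ?_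
  letI : MulAction (G ⧸ Cv G V) V := MulAction.compHom V (QuotientGroup.kerLift (toPermHom G V))
  letI : DistribMulAction (G ⧸ Cv G V) V :=
    { smul_zero := fun q => QuotientGroup.induction_on q fun g => smul_zero g
      smul_add := fun q => QuotientGroup.induction_on q fun g => smul_add g }
  obtain ⟨n, hn⟩ := (pg h.h2).card_pow
  rcases mersenne_cases (G := G ⧸ Cv G V) h.h2 (fun q => QuotientGroup.induction_on q fun g e =>
    (QuotientGroup.eq_one_iff g).2 (mem_Cv.2 e)) hn (hn ▸ hp)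
    (fun u v hu hv => (tr u v hu hv).elim fun g e => ⟨g, trivial, e⟩) with c | c
  · refine (noFull hp _ G ι rfl h.toPy0 fun e => ?_).elim
    obtain ⟨q, hq⟩ := c e
    obtain ⟨g, rfl⟩ := QuotientGroup.mk_surjective q
    exact ⟨g, fun v => by rw [← hq, ← h.sm]; rfl⟩
  · exact c.1

end H20.CK
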