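import Mathlib

/-! Perfect pairings of elementary abelian 2-groups, Fourier orbit lemma, index lemmas. -/

set_option autoImplicit false
set_option linter.unusedSectionVars false

namespace H20.CK

theorem z01 (x : ZMod 2) : x = 0 ∨ x = 1 := by revert x; decide
theorem zne0 {x : ZMod 2} : x ≠ 0 ↔ x = 1 := by revert x; decide
theorem zne1 {x : ZMod 2} : x ≠ 1 ↔ x = 0 := by revert x; decide
theorem zaa (x : ZMod 2) : x + x = 0 := by revert x; decide
theorem z10 : (1 : ZMod 2) ≠ 0 := by decide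
theorem z11 : (1 : ZMod 2) + 1 = 0 := by decide

structure Pg (V V' : Type*) [AddCommGroup V] [AddCommGroup V'] where
  β : V → V' → ZMod 2
  addl : ∀ u v φ, β (u + v) φ = β u φ + β v φ
  addr : ∀ v φ ψ, β v (φ + ψ) = β v φ + β v ψ
  ndl : ∀ v, (∀ φ, β v φ = 0) → v = 0
  ndr : ∀ φ, (∀ v, β v φ = 0) → φ = 0

namespace Pg

variable {V V' : Type*} [AddCommGroup V] [AddCommGroup V'] (s : Pg V V')

def dual : Pg V' V where
  β φ v := s.β v φ
  addl φ ψ v := s.addr v φ ψ
  addr φ u v := s.addl u v φ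
  ndl := s.ndr
  ndr := s.ndl

@[simp] theorem dual_β (φ : V') (v : V) : s.dual.β φ v = s.β v φ := rfl
theorem dual_dual : s.dual.dual = s := rfl

@[simp] theorem zl (φ : V') : s.β 0 φ = 0 := by
  have := s.addl 0 0 φ
  rw [add_zero, zaa] at this; exact this
@[simp] theorem zr (v : V) : s.β v 0 = 0 := s.dual.zl v

include s in
theorem aa (v : V) : v + v = 0 := s.ndl _ fun φ => by rw [s.addl, zaa]
include s in
theorem neg (v : V) : -v = v := neg_eq_of_add_eq_zero_left (s.aa v)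
include s in
theorem aac (u v : V) : u + (u + v) = v := by rw [← add_assoc, s.aa, zero_add]
include s in
theorem acc (u v : V) : u + v + v = u := by rw [add_assoc, s.aa, add_zero]
include s in
theorem az {u v : V} : u + v = 0 ↔ u = v := by
  constructor
  · intro h; rw [← s.acc u v, h, zero_add]
  · rintro rfl; exact s.aa u

theorem ex1 {v : V} (hv : v ≠ 0) : ∃ φ, s.β v φ = 1 := by
  by_contra h
  push Not at h
  exact hv (s.ndl v fun φ => zne1.1 (h φ))

/-- subgroup from a set closed under addition -/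
def mk' (A : Set V) (h0 : (0 : V) ∈ A) (ha : ∀ u ∈ A, ∀ v ∈ A, u + v ∈ A) : AddSubgroup V where
  carrier := A
  zero_mem' := h0
  add_mem' hu hv := ha _ hu _ hv
  neg_mem' {x} hx := by rw [s.neg]; exact hx

@[simp] theorem mem_mk' {A : Set V} {h0 ha} {v : V} : v ∈ s.mk' A h0 ha ↔ v ∈ A := Iff.rfl

def ann (A : Set V) : AddSubgroup V' :=
  s.dual.mk' {φ | ∀ v ∈ A, s.β v φ = 0} (fun v _ => s.zr v)
    fun φ hφ ψ hψ v hv => by rw [s.addr, hφ v hv, hψ v hv, add_zero]

theorem mem_ann {A : Set V} {φ : V'} : φ ∈ s.ann A ↔ ∀ v ∈ A, s.β v φ = 0 := Iff.rfl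

/-- the kernel of a vector -/
def ker (v : V) : AddSubgroup V' :=
  s.dual.mk' {φ | s.β v φ = 0} (s.zr v)
    fun φ hφ ψ hψ => by
      show s.β v (φ + ψ) = 0
      rw [s.addr, hφ, hψ, add_zero]

@[simp] theorem mem_ker {v : V} {φ : V'} : φ ∈ s.ker v ↔ s.β v φ = 0 := Iff.rfl

def sp1 (z : V) : AddSubgroup V :=
  s.mk' {u | u = 0 ∨ u = z} (Or.inl rfl) (by
    rintro u (rfl | rfl) v (rfl | rfl) <;> simp [s.aa])

theorem mem_sp1 {z u : V} : u ∈ s.sp1 z ↔ u = 0 ∨ u = z := Iff.rfl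

def sp2 (z y : V) : AddSubgroup V :=
  s.mk' {u | u = 0 ∨ u = z ∨ u = y ∨ u = z + y} (Or.inl rfl) (by
    have h1 := s.aac z y
    have h2 := s.acc z y
    have h3 : y + (z + y) = z := by rw [add_comm z, s.aac]
    have h4 : z + y + z = y := by rw [add_comm, s.aac]
    have h5 := add_comm y z
    rintro u (h | h | h | h) v (h' | h' | h' | h') <;> rw [h, h'] <;>
      simp only [Set.mem_ofPred_eq, s.aa, h1, h2, h3, h4, h5, zero_add, add_zero, true_or, or_true])

theorem mem_sp2 {z y u : V} : u ∈ s.sp2 z y ↔ u = 0 ∨ u = z ∨ u = y ∨ u = z + y := Iff.rfl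

theorem card_sp1 {z : V} (hz : z ≠ 0) : Nat.card (s.sp1 z) = 2 := by
  have : ((s.sp1 z : AddSubgroup V) : Set V) = {0, z} := by ext; simp [mem_sp1]
  rw [← SetLike.coe_sort_coe, this, Nat.card_coe_set_eq, Set.ncard_pair hz.symm]

theorem card_sp2 {z y : V} (hz : z ≠ 0) (hy : y ≠ 0) (hzy : y ≠ z) :
    Nat.card (s.sp2 z y) = 4 := by
  have : ((s.sp2 z y : AddSubgroup V) : Set V) = {0, z, y, z + y} := by ext; simp [mem_sp2]
  have h1 : z + y ≠ 0 := fun h => hzy (s.az.1 h).symm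
  rw [← SetLike.coe_sort_coe, this, Nat.card_coe_set_eq,
    Set.ncard_insert_of_notMem (by simp [hz.symm, hy.symm, h1.symm]),
    Set.ncard_insert_of_notMem (by simp [hzy.symm, hy]),
    Set.ncard_pair (by simp [hz])]

/-- the character -/
noncomputable def χ (u : V) (ψ : V') : ℤ := if s.β u ψ = 0 then 1 else -1

open scoped Classical in
theorem sumχ [Fintype V] (A : AddSubgroup V) (ψ : V') :
    ∑ u : V, (if u ∈ A then s.χ u ψ else 0) = if ψ ∈ s.ann A then (Nat.card A : ℤ) else 0 := by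
  split_ifs with h
  · rw [← Finset.sum_filter, Finset.sum_congr rfl (g := fun _ => (1 : ℤ))]
    · simp [Nat.card_eq_fintype_card, Fintype.card_subtype]
    · intro u hu
      simp only [Finset.mem_filter, Finset.mem_univ, true_and] at hu
      simp [χ, h u hu]
  · rw [mem_ann] at h
    push Not at h
    obtain ⟨u0, hu0, h1⟩ := h
    rw [zne0] at h1
    refine Finset.sum_involution (fun u _ => u + u0) ?_ ?_ (fun _ _ => Finset.mem_univ _) ?_
    · intro u _
      by_cases hu : u ∈ A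
      · have : u + u0 ∈ A := A.add_mem hu hu0
        simp only [hu, this, if_true, χ, s.addl, h1]
        rcases z01 (s.β u ψ) with h | h <;> simp [h, z11]
      · have : u + u0 ∉ A := fun h => hu (by simpa [s.acc] using A.add_mem h hu0)
        simp [hu, this]
    · intro u _ _ h
      have : u0 = 0 := by simpa using h
      rw [this, zl] at h1; exact z10 h1.symm
    · intro u _; exact s.acc u u0

theorem ann_top : s.ann ((⊤ : AddSubgroup V) : Set V) = ⊥ := by
  rw [eq_bot_iff]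
  intro φ h
  exact s.ndr φ fun v => h v trivial

open scoped Classical in
theorem sumχ_top [Fintype V] (ψ : V') :
    ∑ u : V, s.χ u ψ = if ψ = 0 then (Nat.card V : ℤ) else 0 := by
  have := s.sumχ ⊤ ψ
  rw [ann_top] at this
  simpa using this

theorem card_ann [Finite V] [Finite V'] (A : AddSubgroup V) :
    Nat.card A * Nat.card (s.ann A) = Nat.card V' := by
  classical
  have := Fintype.ofFinite V
  have := Fintype.ofFinite V'
  have h1 : ∑ ψ : V', ∑ u : V, (if u ∈ A then s.χ u ψ else 0) = Nat.card V' := by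
    rw [Finset.sum_comm]
    have : ∀ u : V, ∑ ψ : V', (if u ∈ A then s.χ u ψ else 0)
        = if u = 0 then (Nat.card V' : ℤ) else 0 := by
      intro u
      have h := s.dual.sumχ_top u
      by_cases hu : u ∈ A
      · simp only [hu, if_true]; exact h
      · have : u ≠ 0 := fun h => hu (h ▸ A.zero_mem)
        simp [hu, this]
    simp [this]
  simp only [sumχ] at h1
  rw [← Finset.sum_filter, Finset.sum_const, nsmul_eq_mul] at h1
  have h2 : (Finset.univ.filter (fun ψ => ψ ∈ s.ann A)).card = Nat.card (s.ann A) := by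
    simp [Nat.card_eq_fintype_card, Fintype.card_subtype]
  rw [h2] at h1
  rw [mul_comm]; exact_mod_cast h1

include s in
theorem card_eq [Finite V] [Finite V'] : Nat.card V' = Nat.card V := by
  have := s.card_ann ⊤
  rw [ann_top] at this
  simpa using this.symm

theorem ann_ann [Finite V] [Finite V'] (A : AddSubgroup V) : s.dual.ann (s.ann A) = A := by
  symm
  apply AddSubgroup.eq_of_le_of_card_ge
  · intro v hv φ hφ; exact hφ v hv
  · have h1 := s.card_ann A
    have h2 := s.dual.card_ann (s.ann A)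
    rw [s.card_eq, ← h2, mul_comm] at h1
    exact (Nat.eq_of_mul_eq_mul_left Nat.card_pos h1).ge

theorem sep [Finite V] [Finite V'] {A : AddSubgroup V} {x : V} (hx : x ∉ A) :
    ∃ φ ∈ s.ann A, s.β x φ = 1 := by
  by_contra h
  push Not at h
  apply hx
  rw [← s.ann_ann A]
  intro φ hφ
  exact zne1.1 (h φ hφ)

theorem sep1 [Finite V] [Finite V'] {z x : V} (h0 : x ≠ 0) (hz : x ≠ z) :
    ∃ φ, s.β z φ = 0 ∧ s.β x φ = 1 := by
  obtain ⟨φ, h1, h2⟩ := s.sep (A := s.sp1 z) (x := x) (by simp [mem_sp1, h0, hz])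
  exact ⟨φ, h1 z (Or.inr rfl), h2⟩

theorem sep2 [Finite V] [Finite V'] {z y x : V} (hx : x ∉ s.sp2 z y) :
    ∃ φ, s.β z φ = 0 ∧ s.β y φ = 0 ∧ s.β x φ = 1 := by
  obtain ⟨φ, h1, h2⟩ := s.sep hx
  exact ⟨φ, h1 z (Or.inr (Or.inl rfl)), h1 y (Or.inr (Or.inr (Or.inl rfl))), h2⟩

theorem ann_sp1 (z : V) : s.ann (s.sp1 z) = s.ker z := by
  ext φ
  refine ⟨fun h => h z (Or.inr rfl), ?_⟩
  rintro h v (rfl | rfl)
  · simp
  · exact h

theorem ann_sp2 (z y : V) : s.ann (s.sp2 z y) = s.ker z ⊓ s.ker y := by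
  ext φ
  refine ⟨fun h => ⟨h z (Or.inr (Or.inl rfl)), h y (Or.inr (Or.inr (Or.inl rfl)))⟩, ?_⟩
  rintro ⟨h1, h2⟩ v (rfl | rfl | rfl | rfl)
  · simp
  · exact h1
  · exact h2
  · rw [s.addl, h1, h2, add_zero]

theorem card_ker [Finite V] [Finite V'] {z : V} (hz : z ≠ 0) :
    2 * Nat.card (s.ker z) = Nat.card V := by
  rw [← ann_sp1, ← s.card_sp1 hz, card_ann, s.card_eq]

theorem card_ker2 [Finite V] [Finite V'] {z y : V} (hz : z ≠ 0) (hy : y ≠ 0) (hzy : y ≠ z) :
    4 * Nat.card (s.ker z ⊓ s.ker y : AddSubgroup V') = Nat.card V := by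
  rw [← ann_sp2, ← s.card_sp2 hz hy hzy, card_ann, s.card_eq]

theorem ann_ker [Finite V] [Finite V'] (z : V) : s.dual.ann (s.ker z) = s.sp1 z := by
  rw [← ann_sp1, ann_ann]

include s in
theorem card_pow [Finite V] : ∃ n, Nat.card V = 2 ^ n := by
  have : IsPGroup 2 (Multiplicative V) := fun g => ⟨1, by
    rw [pow_one, pow_two]; exact congrArg Multiplicative.ofAdd (s.aa g.toAdd)⟩
  exact (IsPGroup.iff_card (p := 2) (G := Multiplicative V)).1 this

include s in
theorem card_sub_pow [Finite V] (A : AddSubgroup V) : ∃ n, Nat.card A = 2 ^ n := by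
  obtain ⟨n, hn⟩ := s.card_pow
  have := AddSubgroup.card_addSubgroup_dvd_card A
  rw [hn] at this
  obtain ⟨k, -, hk⟩ := (Nat.dvd_prime_pow Nat.prime_two).1 this
  exact ⟨k, hk⟩

/-- two affine hyperplanes inside a subgroup meet -/
theorem both {A : AddSubgroup V'} {u v : V} (h1 : ∃ φ ∈ A, s.β u φ = 1) (h2 : ∃ φ ∈ A, s.β v φ = 1) :
    ∃ φ ∈ A, s.β u φ = 1 ∧ s.β v φ = 1 := by
  obtain ⟨φ, hφ, h1⟩ := h1
  obtain ⟨ψ, hψ, h2⟩ := h2
  rcases z01 (s.β v φ) with h3 | h3
  · rcases z01 (s.β u ψ) with h4 | h4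
    · exact ⟨φ + ψ, A.add_mem hφ hψ, by rw [s.addr, h1, h4, add_zero],
        by rw [s.addr, h2, h3, zero_add]⟩
    · exact ⟨ψ, hψ, h4, h2⟩
  · exact ⟨φ, hφ, h1, h3⟩

variable (G : Type*) [Group G] [DistribMulAction G V] [DistribMulAction G V']

def Inv : Prop := ∀ (g : G) v φ, s.β (g • v) (g • φ) = s.β v φ

variable {s G}

theorem Inv.dual (hi : s.Inv G) : s.dual.Inv G := fun g φ v => hi g v φ

theorem Inv.l (hi : s.Inv G) {g : G} {φ : V'} (h : g • φ = φ) (v : V) :
    s.β (g • v) φ = s.β v φ := by rw [← hi g v φ, h]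

theorem Inv.r (hi : s.Inv G) {g : G} {v : V} (h : g • v = v) (φ : V') :
    s.β v (g • φ) = s.β v φ := by rw [← hi g v φ, h]

theorem FL [Fintype V'] [Finite V] (hi : s.Inv G) (H : Subgroup G) (w w' : V)
    (hF : ∀ F : V' → ℤ, (∀ h ∈ H, ∀ ψ, F (h • ψ) = F ψ) →
      ∑ ψ, F ψ * (s.χ w ψ - s.χ w' ψ) = 0) : ∃ h ∈ H, h • w = w' := by
  classical
  have := Fintype.ofFinite V
  by_contra hn
  let O : Finset V := Finset.univ.filter fun u => ∃ h ∈ H, h • w = u
  have key : ∀ x : V, ∑ ψ, (∑ u ∈ O, s.χ u ψ) * s.χ x ψ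
      = if x ∈ O then (Nat.card V' : ℤ) else 0 := by
    intro x
    simp only [Finset.sum_mul]
    rw [Finset.sum_comm]
    have : ∀ u : V, ∑ ψ, s.χ u ψ * s.χ x ψ = if u = x then (Nat.card V' : ℤ) else 0 := by
      intro u
      have h := s.dual.sumχ_top (u + x)
      rw [s.az] at h
      rw [← h]
      refine Finset.sum_congr rfl fun ψ _ => ?_
      simp only [χ, dual_β, s.addl]
      rcases z01 (s.β u ψ) with h | h <;> rcases z01 (s.β x ψ) with h' | h' <;> simp [h, h', z11]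
    simp [this]
  have h := hF (fun ψ => ∑ u ∈ O, s.χ u ψ) (by
    intro h hh ψ
    symm
    refine Finset.sum_bij (fun u _ => h • u) ?_ ?_ ?_ ?_
    · intro u hu
      simp only [O, Finset.mem_filter, Finset.mem_univ, true_and] at hu ⊢
      obtain ⟨k, hk, rfl⟩ := hu
      exact ⟨h * k, H.mul_mem hh hk, mul_smul _ _ _⟩
    · intro a _ b _ hab; exact smul_left_cancel h hab
    · intro u hu
      simp only [O, Finset.mem_filter, Finset.mem_univ, true_and] at hu ⊢
      obtain ⟨k, hk, rfl⟩ := hu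
      exact ⟨(h⁻¹ * k) • w, ⟨h⁻¹ * k, H.mul_mem (H.inv_mem hh) hk, rfl⟩, by
        rw [← mul_smul, mul_inv_cancel_left]⟩
    · intro u _; simp only [χ, hi h u ψ])
  simp only [mul_sub, Finset.sum_sub_distrib, key] at h
  have h1 : w ∈ O := by simp only [O, Finset.mem_filter, Finset.mem_univ, true_and]
                        exact ⟨1, H.one_mem, one_smul _ _⟩
  have h2 : w' ∉ O := by simpa only [O, Finset.mem_filter, Finset.mem_univ, true_and] using hn
  simp only [h1, h2, if_true, if_false, sub_zero] at h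
  have : 0 < Nat.card V' := Nat.card_pos
  omega

theorem exc {α : Type*} (S : Set α) (F : α → ℤ) (h : ∀ x ∈ S, ∀ y ∈ S, F x = F y) :
    ∃ c, ∀ x ∈ S, F x = c := by
  rcases S.eq_empty_or_nonempty with rfl | ⟨x, hx⟩
  · exact ⟨0, by simp⟩
  · exact ⟨F x, fun y hy => h y hy x hx⟩

open scoped Classical in
theorem sumD [Fintype V'] (A : AddSubgroup V') {w w' : V}
    (h : w ∈ s.dual.ann A ↔ w' ∈ s.dual.ann A) :
    ∑ ψ, (if ψ ∈ A then s.χ w ψ - s.χ w' ψ else 0) = 0 := by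
  have h1 := s.dual.sumχ A w
  have h2 := s.dual.sumχ A w'
  have : ∀ ψ, (if ψ ∈ A then s.χ w ψ - s.χ w' ψ else 0)
      = (if ψ ∈ A then s.dual.χ ψ w else 0) - (if ψ ∈ A then s.dual.χ ψ w' else 0) := by
    intro ψ; split_ifs
    · rfl
    · simp
  simp only [this, Finset.sum_sub_distrib, h1, h2, h, sub_self]

/-- the chain form of the Fourier lemma -/
theorem FLc [Finite V'] [Finite V] (hi : s.Inv G) (H : Subgroup G) (A0 A1 : AddSubgroup V')
    (h1 : ∀ ψ ∈ A1, ψ ∉ A0 → ∀ ψ' ∈ A1, ψ' ∉ A0 → ∃ h ∈ H, h • ψ = ψ')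
    (h2 : ∀ ψ ∉ A1, ∀ ψ' ∉ A1, ∃ h ∈ H, h • ψ = ψ') {w w' : V}
    (hw0 : ∀ ψ ∈ A0, s.β w ψ = s.β w' ψ) (hw1 : w ∈ s.dual.ann A1 ↔ w' ∈ s.dual.ann A1)
    (hw : w = 0 ↔ w' = 0) : ∃ h ∈ H, h • w = w' := by
  classical
  have := Fintype.ofFinite V'
  refine FL hi H w w' fun F hF => ?_
  obtain ⟨c1, hc1⟩ := exc {ψ | ψ ∈ A1 ∧ ψ ∉ A0} F (by
    rintro x ⟨a, b⟩ y ⟨c, d⟩
    obtain ⟨h, hh, rfl⟩ := h1 x a b y c d
    exact (hF h hh x).symm)
  obtain ⟨c2, hc2⟩ := exc {ψ | ψ ∉ A1} F (by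
    intro x a y c
    obtain ⟨h, hh, rfl⟩ := h2 x a y c
    exact (hF h hh x).symm)
  have e1 := sumD (s := s) A1 hw1
  have e2 := sumD (s := s) ⊤ (w := w) (w' := w') (by rw [s.dual.ann_top]; simpa using hw)
  have : ∀ ψ, F ψ * (s.χ w ψ - s.χ w' ψ) =
      (c1 - c2) * (if ψ ∈ A1 then s.χ w ψ - s.χ w' ψ else 0) +
      c2 * (if ψ ∈ (⊤ : AddSubgroup V') then s.χ w ψ - s.χ w' ψ else 0) := by
    intro ψ
    by_cases a0 : ψ ∈ A0
    · simp [χ, hw0 ψ a0]
    · by_cases a1 : ψ ∈ A1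
      · rw [hc1 ψ ⟨a1, a0⟩]; simp only [a1, AddSubgroup.mem_top, if_true]; ring
      · rw [hc2 ψ a1]; simp [a1]
  simp only [this, Finset.sum_add_distrib, ← Finset.mul_sum, e1, e2, mul_zero, add_zero]

end Pg

section orb
variable {G X : Type*} [Group G] [MulAction G X]

def orb (H : Subgroup G) (x : X) : Set X := {y | ∃ h ∈ H, h • x = y}

theorem relIndex_stab (H : Subgroup G) (x : X) :
    (H ⊓ MulAction.stabilizer G x).relIndex H = (orb H x).ncard := by
  have h1 : (H ⊓ MulAction.stabilizer G x).subgroupOf H = MulAction.stabilizer H x := by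
    ext g; simp [Subgroup.mem_subgroupOf, Subgroup.smul_def]
  have h2 : MulAction.orbit H x = orb H x := by
    ext y; simp [orb, MulAction.mem_orbit_iff, Subgroup.smul_def]
  rw [Subgroup.relIndex, h1, MulAction.index_stabilizer, h2]

theorem orb_dvd {J H : Subgroup G} (hJ : J ≤ H) (x : X) :
    (orb H x).ncard ∣ (orb J x).ncard * J.relIndex H := by
  rw [← relIndex_stab, ← relIndex_stab, Subgroup.relIndex_mul_relIndex _ _ _ inf_le_left hJ,
    ← Subgroup.relIndex_mul_relIndex (J ⊓ MulAction.stabilizer G x) (H ⊓ MulAction.stabilizer G x) H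
      (inf_le_inf_right _ hJ) inf_le_left]
  exact Dvd.intro_left _ rfl

theorem orb_eq {H : Subgroup G} {x : X} {Y : Set X} (h1 : ∀ h ∈ H, h • x ∈ Y)
    (h2 : ∀ y ∈ Y, ∃ h ∈ H, h • x = y) : orb H x = Y := by
  ext y
  exact ⟨by rintro ⟨h, hh, rfl⟩; exact h1 h hh, h2 y⟩

/-- transitivity of a subgroup of suitable index -/
theorem TL [Finite X] {J H : Subgroup G} (hJ : J ≤ H) {x : X} {Y : Set X} {d m : ℕ}
    (hd : (orb H x).ncard = Y.ncard * d) (hd0 : 0 < d) (hm : J.relIndex H = d * m)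
    (hco : Nat.Coprime Y.ncard m) (hY : ∀ h ∈ J, h • x ∈ Y) : ∀ y ∈ Y, ∃ h ∈ J, h • x = y := by
  have h1 := orb_dvd hJ x
  rw [hd, hm, mul_comm d, ← mul_assoc] at h1
  have h2 := hco.dvd_of_dvd_mul_right (Nat.dvd_of_mul_dvd_mul_right hd0 h1)
  have h3 : orb J x ⊆ Y := by rintro y ⟨h, hh, rfl⟩; exact hY h hh
  have h4 : 0 < (orb J x).ncard := (Set.ncard_pos (Set.toFinite _)).2 ⟨x, 1, J.one_mem, one_smul _ _⟩
  have h5 := Set.eq_of_subset_of_ncard_le h3 (Nat.le_of_dvd h4 h2)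
  intro y hy
  rw [← h5] at hy; exact hy

end orb

theorem dc {α β : Type*} [Finite α] [Finite β] (X : Set α) (Y : Set β) (r : α → β → Prop) {m n : ℕ}
    (hm : ∀ x ∈ X, {y | y ∈ Y ∧ r x y}.ncard = m) (hn : ∀ y ∈ Y, {x | x ∈ X ∧ r x y}.ncard = n) :
    X.ncard * m = Y.ncard * n := by
  classical
  rw [Set.ncard_eq_toFinset_card X, Set.ncard_eq_toFinset_card Y]
  refine Finset.card_mul_eq_card_mul r ?_ ?_
  · intro x hx
    rw [← hm x (by simpa using hx), Set.ncard_eq_toFinset_card]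
    congr 1; ext; simp [Finset.mem_bipartiteAbove]
  · intro y hy
    rw [← hn y (by simpa using hy), Set.ncard_eq_toFinset_card]
    congr 1; ext; simp [Finset.mem_bipartiteBelow]

theorem dcle {α β : Type*} [Finite α] [Finite β] (X : Set α) (Y : Set β) (r : α → β → Prop) {m n : ℕ}
    (hm : ∀ x ∈ X, m ≤ {y | y ∈ Y ∧ r x y}.ncard) (hn : ∀ y ∈ Y, {x | x ∈ X ∧ r x y}.ncard ≤ n) :
    X.ncard * m ≤ Y.ncard * n := by
  classical
  rw [Set.ncard_eq_toFinset_card X, Set.ncard_eq_toFinset_card Y]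
  refine Finset.card_mul_le_card_mul r ?_ ?_
  · intro x hx
    refine (hm x (by simpa using hx)).trans (le_of_eq ?_)
    rw [Set.ncard_eq_toFinset_card]
    congr 1; ext; simp [Finset.mem_bipartiteAbove]
  · intro y hy
    refine (le_of_eq ?_).trans (hn y (by simpa using hy))
    rw [Set.ncard_eq_toFinset_card]
    congr 1; ext; simp [Finset.mem_bipartiteBelow]

section sub
variable {V : Type*} [AddCommGroup V] [Finite V]

theorem ncard_sub (A : AddSubgroup V) : (A : Set V).ncard = Nat.card A := rfl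

theorem ncard_diff {A B : AddSubgroup V} (h : B ≤ A) :
    {v | v ∈ A ∧ v ∉ B}.ncard = Nat.card A - Nat.card B :=
  Set.ncard_sdiff (s := (B : Set V)) (t := (A : Set V)) h

theorem card_sup_inf (A B : AddSubgroup V) :
    Nat.card (A ⊔ B : AddSubgroup V) * Nat.card (A ⊓ B : AddSubgroup V) = Nat.card A * Nat.card B := by
  have h1 : ∀ {C D : AddSubgroup V}, C ≤ D → Nat.card C * C.relIndex D = Nat.card D := by
    intro C D h
    rw [AddSubgroup.relIndex, ← AddSubgroup.card_mul_index (C.addSubgroupOf D),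
      Nat.card_congr (AddSubgroup.addSubgroupOfEquivOfLe h).toEquiv]
  rw [← h1 (le_sup_right : B ≤ A ⊔ B), ← h1 (inf_le_left : A ⊓ B ≤ A),
    AddSubgroup.relIndex_sup_right, AddSubgroup.inf_relIndex_left]
  ring

/-- a subgroup of index two is maximal -/
theorem idx2 {A B R : AddSubgroup V} (h1 : A ≤ B) (h2 : B ≤ R) (h : Nat.card R = 2 * Nat.card A) :
    B = A ∨ B = R := by
  obtain ⟨k, hk⟩ := AddSubgroup.card_dvd_of_le h1
  obtain ⟨l, hl⟩ := AddSubgroup.card_dvd_of_le h2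
  have hA : 0 < Nat.card A := Nat.card_pos
  have : k * l = 2 := by
    apply Nat.eq_of_mul_eq_mul_left hA
    rw [← mul_assoc, ← hk, ← hl, h, mul_comm]
  rcases (Nat.dvd_prime Nat.prime_two).1 (Dvd.intro _ this) with rfl | rfl
  · left; exact (AddSubgroup.eq_of_le_of_card_ge h1 (by omega)).symm
  · right; exact AddSubgroup.eq_of_le_of_card_ge h2 (by omega)

end sub

end H20.CK
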