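import Cfsg.Agent.H20.CK.A

/-! Basic consequences of double transitivity on non-zero vectors. -/

set_option autoImplicit false
set_option linter.unusedSectionVars false

namespace H20.CK
open MulAction

def Two (G V : Type*) [Group G] [AddCommGroup V] [DistribMulAction G V] : Prop :=
  ∀ u v u' v' : V, u ≠ 0 → v ≠ 0 → v ≠ u → u' ≠ 0 → v' ≠ 0 → v' ≠ u' →
    ∃ g : G, g • u = u' ∧ g • v = v'

@[simp] theorem sz {G V : Type*} [Group G] [AddCommGroup V] [DistribMulAction G V] {g : G} {v : V} :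
    g • v = 0 ↔ v = 0 := smul_eq_zero_iff_eq g

theorem exn {V : Type*} [AddCommGroup V] [Finite V] {A B : AddSubgroup V}
    (h : Nat.card A < Nat.card B) : ∃ x ∈ B, x ∉ A := by
  by_contra hn
  push Not at hn
  exact absurd (AddSubgroup.card_le_of_le hn) (by omega)

variable {V V' : Type*} [AddCommGroup V] [AddCommGroup V'] [Finite V] [Finite V']

structure Hy (s : Pg V V') (G : Type*) [Group G] [DistribMulAction G V] [DistribMulAction G V'] :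
    Prop where
  inv : s.Inv G
  two : Two G V
  h8 : 8 ≤ Nat.card V

namespace Hy
variable {s : Pg V V'} {G : Type*} [Group G] [DistribMulAction G V] [DistribMulAction G V']
  (h : Hy s G)
include h

theorem ex2 {z : V} (hz : z ≠ 0) : ∃ y, y ≠ 0 ∧ y ≠ z := by
  obtain ⟨y, -, hy⟩ := exn (A := s.sp1 z) (B := ⊤) (by
    rw [s.card_sp1 hz, AddSubgroup.card_top]; have := h.h8; omega)
  exact ⟨y, by simpa [Pg.mem_sp1] using hy⟩

theorem ex0 : ∃ z : V, z ≠ 0 := by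
  obtain ⟨y, -, hy⟩ := exn (A := (⊥ : AddSubgroup V)) (B := ⊤) (by
    rw [AddSubgroup.card_bot, AddSubgroup.card_top]; have := h.h8; omega)
  exact ⟨y, by simpa using hy⟩

theorem one {u u' : V} (hu : u ≠ 0) (hu' : u' ≠ 0) : ∃ g : G, g • u = u' := by
  obtain ⟨v, h1, h2⟩ := h.ex2 hu
  obtain ⟨v', h1', h2'⟩ := h.ex2 hu'
  obtain ⟨g, hg, -⟩ := h.two u v u' v' hu h1 h2 hu' h1' h2'
  exact ⟨g, hg⟩

theorem fl1 {z : V} (hz : z ≠ 0) {φ φ' : V'} (h1 : s.β z φ = s.β z φ') (h0 : φ = 0 ↔ φ' = 0) :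
    ∃ g : G, g • z = z ∧ g • φ = φ' := by
  have := Pg.FLc h.inv.dual (stabilizer G z) ⊥ (s.sp1 z) (w := φ) (w' := φ') ?_ ?_ ?_ ?_ h0
  · simpa using this
  · rintro ψ (a | a) h1 ψ' (b | b) h2
    · simp [a] at h1
    · simp [a] at h1
    · simp [b] at h2
    · exact ⟨1, by simp [a, b]⟩
  · intro ψ h1 ψ' h2
    simp only [Pg.mem_sp1, not_or] at h1 h2
    obtain ⟨g, h3, h4⟩ := h.two z ψ z ψ' hz h1.1 h1.2 hz h2.1 h2.2
    exact ⟨g, h3, h4⟩
  · intro ψ hψ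
    rw [AddSubgroup.mem_bot] at hψ
    simp [hψ]
  · rw [Pg.dual_dual, Pg.ann_sp1]; simp [h1]

theorem fl {z z' : V} (hz : z ≠ 0) (hz' : z' ≠ 0) {φ φ' : V'} (hφ : φ ≠ 0) (hφ' : φ' ≠ 0)
    (h1 : s.β z φ = s.β z' φ') : ∃ g : G, g • z = z' ∧ g • φ = φ' := by
  obtain ⟨g, hg⟩ := h.one hz hz'
  obtain ⟨k, h2, h3⟩ := h.fl1 hz' (φ := g • φ) (φ' := φ') (by rw [← h1, ← h.inv g z φ, hg])
    (by simp [hφ, hφ'])
  exact ⟨k * g, by rw [mul_smul, hg, h2], by rw [mul_smul, h3]⟩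

theorem dual : Hy s.dual G := by
  refine ⟨h.inv.dual, ?_, by rw [s.card_eq]; exact h.h8⟩
  have key : ∀ φ ψ ψ' : V', φ ≠ 0 → ψ ≠ 0 → ψ ≠ φ → ψ' ≠ 0 → ψ' ≠ φ →
      ∃ g : G, g • φ = φ ∧ g • ψ = ψ' := by
    intro φ ψ ψ' h1 h2 h3 h4 h5
    have := Pg.FLc h.inv.dual (stabilizer G φ) ⊥ (s.dual.ker φ) (w := ψ) (w' := ψ') ?_ ?_ ?_ ?_
      (by simp [h2, h4])
    · simpa using this
    · intro u a b u' c d
      obtain ⟨g, e, f⟩ := h.fl (z := u) (z' := u') (by simpa using b) (by simpa using d) h1 h1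
        (a.trans c.symm)
      exact ⟨g, f, e⟩
    · intro u a u' c
      have a' : s.β u φ = 1 := zne0.1 a
      have c' : s.β u' φ = 1 := zne0.1 c
      obtain ⟨g, e, f⟩ := h.fl (z := u) (z' := u') (by rintro rfl; simp at a)
        (by rintro rfl; simp at c) h1 h1 (a'.trans c'.symm)
      exact ⟨g, f, e⟩
    · intro u hu
      rw [AddSubgroup.mem_bot] at hu
      simp [hu]
    · rw [s.dual.ann_ker]; simp [Pg.mem_sp1, h2, h3, h4, h5]
  intro φ ψ φ' ψ' h1 h2 h3 h4 h5 h6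
  obtain ⟨z, hz⟩ := s.dual.ex1 h1
  obtain ⟨z', hz'⟩ := s.dual.ex1 h4
  obtain ⟨g, -, hg⟩ := h.fl (z := z) (z' := z') (by rintro rfl; simp at hz)
    (by rintro rfl; simp at hz') h1 h4 (hz.trans hz'.symm)
  obtain ⟨k, h7, h8⟩ := key φ' (g • ψ) ψ' h4 (by simpa using h2)
    (by rw [← hg]; simpa using h3) h5 h6
  exact ⟨k * g, by rw [mul_smul, hg, h7], by rw [mul_smul, h8]⟩

theorem orb_z {z y : V} (hz : z ≠ 0) (hy : y ≠ 0) (hyz : y ≠ z) :
    (orb (stabilizer G z) y).ncard = Nat.card V - 2 := by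
  rw [← s.card_sp1 hz, ← AddSubgroup.card_top (G := V), ← ncard_diff le_top]
  congr 1
  apply orb_eq
  · intro g hg
    simp only [Set.mem_ofPred_eq, AddSubgroup.mem_top, true_and, Pg.mem_sp1, not_or]
    refine ⟨by simpa using hy, fun h' => hyz ?_⟩
    rw [← mem_stabilizer_iff.1 hg] at h'
    exact smul_left_cancel g h'
  · intro y' hy'
    simp only [Set.mem_ofPred_eq, AddSubgroup.mem_top, true_and, Pg.mem_sp1, not_or] at hy'
    exact h.two z y z y' hz hy hyz hz hy'.1 hy'.2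

theorem orb_top {z : V} (hz : z ≠ 0) : (orb (⊤ : Subgroup G) z).ncard = Nat.card V - 1 := by
  rw [← AddSubgroup.card_bot (G := V), ← AddSubgroup.card_top (G := V), ← ncard_diff le_top]
  congr 1
  apply orb_eq
  · intro g _; simpa using hz
  · intro y hy
    obtain ⟨g, hg⟩ := h.one hz (u' := y) (by simpa using hy)
    exact ⟨g, trivial, hg⟩

theorem orb1 {z : V} (hz : z ≠ 0) {φ : V'} (h1 : s.β z φ = 1) :
    orb (stabilizer G z) φ = {ψ | s.β z ψ = 1} := by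
  apply orb_eq
  · intro g hg; exact (h.inv.r hg φ).trans h1
  · intro ψ hψ
    exact h.fl1 hz (h1.trans (Eq.symm hψ)) (by
      constructor
      · rintro rfl; simp at h1
      · rintro rfl; simp at hψ)

omit h in
theorem card1 {z : V} (hz : z ≠ 0) : 2 * {ψ | s.β z ψ = 1}.ncard = Nat.card V := by
  have h1 := ncard_diff (le_top (a := s.ker z))
  have h2 := s.card_ker hz
  rw [AddSubgroup.card_top, s.card_eq] at h1
  have : {ψ | s.β z ψ = 1} = {v | v ∈ (⊤ : AddSubgroup V') ∧ v ∉ s.ker z} := by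
    ext; simp [← zne0]
  rw [this, h1]; omega

omit h in
theorem card10 {z y : V} (hz : z ≠ 0) (hy : y ≠ 0) (hyz : y ≠ z) :
    4 * {ψ | s.β z ψ = 1 ∧ s.β y ψ = 0}.ncard = Nat.card V := by
  have h1 := ncard_diff (inf_le_right (a := s.ker z) (b := s.ker y))
  have h2 := s.card_ker hy
  have h3 := s.card_ker2 hz hy hyz
  have : {ψ | s.β z ψ = 1 ∧ s.β y ψ = 0} = {v | v ∈ s.ker y ∧ v ∉ s.ker z ⊓ s.ker y} := by
    ext; simp only [← zne0, Set.mem_ofPred_eq, AddSubgroup.mem_inf, Pg.mem_ker]; tauto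
  rw [this, h1]; omega

theorem pw : ∃ k, Nat.card V = 8 * 2 ^ k := by
  obtain ⟨n, hn⟩ := s.card_pow
  have := h.h8
  have h3 : 3 ≤ n := by
    by_contra hc
    have : n ≤ 2 := by omega
    interval_cases n <;> omega
  obtain ⟨k, rfl⟩ := Nat.exists_eq_add_of_le h3
  exact ⟨k, by rw [hn, pow_add]; norm_num⟩

omit h in
theorem cop {k m : ℕ} (hm : m % 2 = 1) : Nat.Coprime (2 ^ k) m :=
  Nat.Coprime.pow_left _ (Nat.coprime_two_left.2 (Nat.odd_iff.2 hm))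

theorem e0 {z y : V} (hz : z ≠ 0) (hy : y ≠ 0) (hyz : y ≠ z) {φ φ' : V'}
    (h1 : s.β z φ = 1) (h2 : s.β y φ = 0) (h3 : s.β z φ' = 1) (h4 : s.β y φ' = 0) :
    ∃ g : G, g • z = z ∧ g • y = y ∧ g • φ = φ' := by
  obtain ⟨k, hk⟩ := h.pw
  have c1 := card1 (s := s) hz
  have c2 := card10 (s := s) hz hy hyz
  obtain ⟨g, hg, e⟩ := TL (J := stabilizer G z ⊓ stabilizer G y) (H := stabilizer G z) inf_le_left
    (x := φ) (Y := {ψ | s.β z ψ = 1 ∧ s.β y ψ = 0}) (d := 2) (m := 4 * 2 ^ k - 1)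
    (by rw [h.orb1 hz h1]; omega) (by norm_num)
    (by rw [relIndex_stab, h.orb_z hz hy hyz]; omega)
    (by
      have : {ψ | s.β z ψ = 1 ∧ s.β y ψ = 0}.ncard = 2 ^ (k + 1) := by rw [pow_succ]; omega
      rw [this]; apply cop
      have : 0 < 2 ^ k := by positivity
      omega)
    (fun g hg => ⟨(h.inv.r hg.1 φ).trans h1, (h.inv.r hg.2 φ).trans h2⟩) φ' ⟨h3, h4⟩
  exact ⟨g, hg.1, hg.2, e⟩

/-- the plane lemma -/
theorem PL {p q x l : V} (hp : p ≠ 0) (hq : q ≠ 0) (hqp : q ≠ p) (hx : x ∉ s.sp2 p q)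
    (hl : l ∈ s.sp2 p q) : ∃ g : G, g • p = p ∧ g • q = q ∧ g • x = x + l := by
  classical
  have := Fintype.ofFinite V'
  have hx' : x + l ∉ s.sp2 p q := fun h' => hx (by simpa [s.acc] using add_mem h' hl)
  have hpq : p + q ≠ 0 := fun h' => hqp (s.az.1 h').symm
  obtain ⟨g, hg, e⟩ := Pg.FL h.inv (stabilizer G p ⊓ stabilizer G q) x (x + l) (by
    intro F hF
    obtain ⟨c1, hc1⟩ := Pg.exc {ψ | s.β p ψ = 1 ∧ s.β q ψ = 0} F (by
      rintro a ⟨a1, a2⟩ b ⟨b1, b2⟩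
      obtain ⟨g, g1, g2, rfl⟩ := h.e0 hp hq hqp a1 a2 b1 b2
      exact (hF g ⟨g1, g2⟩ a).symm)
    obtain ⟨c2, hc2⟩ := Pg.exc {ψ | s.β q ψ = 1 ∧ s.β p ψ = 0} F (by
      rintro a ⟨a1, a2⟩ b ⟨b1, b2⟩
      obtain ⟨g, g1, g2, rfl⟩ := h.e0 hq hp hqp.symm a1 a2 b1 b2
      exact (hF g ⟨g2, g1⟩ a).symm)
    obtain ⟨c3, hc3⟩ := Pg.exc {ψ | s.β p ψ = 1 ∧ s.β (p + q) ψ = 0} F (by
      rintro a ⟨a1, a2⟩ b ⟨b1, b2⟩
      obtain ⟨g, g1, g2, rfl⟩ := h.e0 hp hpq (by simpa using hq) a1 a2 b1 b2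
      rw [smul_add, g1, add_right_inj] at g2
      exact (hF g ⟨g1, g2⟩ a).symm)
    have hs : ∀ r ∈ s.sp2 p q, ∑ ψ, (if ψ ∈ s.ker r then s.χ x ψ - s.χ (x + l) ψ else 0) = 0 := by
      intro r hr
      apply Pg.sumD
      rw [s.ann_ker]
      refine iff_of_false ?_ ?_
      · rintro (rfl | rfl)
        · exact hx (zero_mem _)
        · exact hx hr
      · rintro (h' | h')
        · exact hx' (h' ▸ zero_mem _)
        · exact hx' (h' ▸ hr)
    have e1 := hs q (by simp [Pg.mem_sp2])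
    have e2 := hs p (by simp [Pg.mem_sp2])
    have e3 := hs (p + q) (by simp [Pg.mem_sp2])
    have : ∀ ψ, F ψ * (s.χ x ψ - s.χ (x + l) ψ) =
        c1 * (if ψ ∈ s.ker q then s.χ x ψ - s.χ (x + l) ψ else 0) +
        c2 * (if ψ ∈ s.ker p then s.χ x ψ - s.χ (x + l) ψ else 0) +
        c3 * (if ψ ∈ s.ker (p + q) then s.χ x ψ - s.χ (x + l) ψ else 0) := by
      intro ψ
      rcases z01 (s.β p ψ) with a | a <;> rcases z01 (s.β q ψ) with b | b
      · have : s.β l ψ = 0 := by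
          have : ψ ∈ s.ann (s.sp2 p q) := by rw [s.ann_sp2]; exact ⟨a, b⟩
          exact this l hl
        simp [Pg.χ, s.addl, this]
      · rw [hc2 ψ ⟨b, a⟩]; simp [a, b, s.addl]
      · rw [hc1 ψ ⟨a, b⟩]; simp [a, b, s.addl]
      · rw [hc3 ψ ⟨a, by rw [s.addl, a, b, z11]⟩]; simp [a, b, s.addl, z11]
    simp only [this, Finset.sum_add_distrib, ← Finset.mul_sum, e1, e2, e3, mul_zero, add_zero])
  exact ⟨g, hg.1, hg.2, e⟩

/-- swap two points fixing a third one -/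
theorem swap {z y u : V} (hz : z ≠ 0) (hy : y ≠ 0) (hyz : y ≠ z) (hu : u ∉ s.sp2 z y) :
    ∃ g : G, g • z = y ∧ g • y = z ∧ g • u = u := by
  simp only [Pg.mem_sp2, not_or] at hu
  obtain ⟨h1, h2, h3, h4⟩ := hu
  have hzy : z + y ≠ 0 := fun h' => hyz (s.az.1 h').symm
  obtain ⟨g, g1, g2, g3⟩ := h.PL (p := z + y) (q := u) (x := z) (l := z + y) hzy h1 h4 (by
    simp only [Pg.mem_sp2, not_or]
    refine ⟨hz, by simpa using hy, Ne.symm h2, fun h' => h3 ?_⟩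
    rw [add_assoc, left_eq_add, s.az] at h'; exact h'.symm) (by simp [Pg.mem_sp2])
  rw [s.aac] at g3
  refine ⟨g, g3, ?_, g2⟩
  rw [smul_add, g3] at g1
  rw [← s.aac y (g • y), g1, add_comm z, s.aac]

/-- fix `z` and `u`, move `y` to `y + z` -/
theorem shift {z y u : V} (hz : z ≠ 0) (hy : y ≠ 0) (hyz : y ≠ z) (hu : u ∉ s.sp2 z y) :
    ∃ g : G, g • z = z ∧ g • y = y + z ∧ g • u = u := by
  simp only [Pg.mem_sp2, not_or] at hu
  obtain ⟨h1, h2, h3, h4⟩ := hu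
  obtain ⟨g, g1, g2, g3⟩ := h.PL (p := z) (q := u) (x := y) (l := z) hz h1 h2 (by
    simp only [Pg.mem_sp2, not_or]
    refine ⟨hy, hyz, Ne.symm h3, fun h' => h4 ?_⟩
    rw [h', s.aac]) (by simp [Pg.mem_sp2])
  exact ⟨g, g1, g3, g2⟩

end Hy

end H20.CK
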