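import Cfsg.Agent.H20.CK.B

/-! The special triples. -/

set_option autoImplicit false
set_option linter.unusedSectionVars false

namespace H20.CK
open MulAction

theorem exodd {G X : Type*} [Group G] [MulAction G X] [Finite X] (H : Subgroup G) (p : ℕ) :
    ∀ (n : ℕ) (Y : Set X), Y.ncard = n → (∀ h ∈ H, ∀ y ∈ Y, h • y ∈ Y) → ¬ p ∣ n →
      ∃ y ∈ Y, ¬ p ∣ (orb H y).ncard := by
  intro n
  induction n using Nat.strong_induction_on with
  | _ n ih =>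
    intro Y hn hY hp
    rcases Y.eq_empty_or_nonempty with rfl | ⟨y, hy⟩
    · exact absurd (by simp [← hn]) hp
    by_cases h1 : p ∣ (orb H y).ncard
    swap
    · exact ⟨y, hy, h1⟩
    have hs : orb H y ⊆ Y := by rintro _ ⟨h, hh, rfl⟩; exact hY h hh y hy
    have h2 := Set.ncard_sdiff hs
    have h3 := Set.ncard_le_ncard hs
    have h4 : 0 < (orb H y).ncard :=
      (Set.ncard_pos (Set.toFinite _)).2 ⟨y, 1, H.one_mem, one_smul _ _⟩
    obtain ⟨x, hx, h5⟩ := ih _ (by omega) (Y \ orb H y) rfl (by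
      rintro h hh x ⟨a, b⟩
      refine ⟨hY h hh x a, ?_⟩
      rintro ⟨k, hk, e⟩
      exact b ⟨h⁻¹ * k, H.mul_mem (H.inv_mem hh) hk, by rw [mul_smul, e, inv_smul_smul]⟩) (by
      intro h6
      apply hp
      have : n = (Y \ orb H y).ncard + (orb H y).ncard := by omega
      rw [this]; exact dvd_add h6 h1)
    exact ⟨x, hx.1, h5⟩

variable {V V' : Type*} [AddCommGroup V] [AddCommGroup V'] [Finite V] [Finite V']

structure Geo (s : Pg V V') (G : Type*) [Group G] [DistribMulAction G V]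
    [DistribMulAction G V'] where
  Sp : V → V → V' → Prop
  inv : ∀ (g : G) {z y φ}, Sp z y φ → Sp (g • z) (g • y) (g • φ)
  tr : ∀ {z y φ z' y' φ'}, Sp z y φ → Sp z' y' φ' → ∃ g : G, g • z = z' ∧ g • y = y' ∧ g • φ = φ'
  nd : ∀ {z y φ}, Sp z y φ → z ≠ 0 ∧ y ≠ 0 ∧ y ≠ z ∧ φ ≠ 0 ∧ s.β z φ = 0 ∧ s.β y φ = 0
  ex : ∃ z y φ, Sp z y φ
  sh : ∀ {z y φ}, Sp z y φ → Sp z (y + z) φ
  T1 : ∀ {z y φ u u'}, Sp z y φ → s.β u φ = 1 → s.β u' φ = 1 →
    ∃ g : G, g • z = z ∧ (g • y = y ∨ g • y = y + z) ∧ g • u = u'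
  T2 : ∀ {z y φ ψ ψ'}, Sp z y φ → s.β y ψ = 1 → s.β z ψ = 0 → s.β y ψ' = 1 → s.β z ψ' = 0 →
    ∃ g : G, g • z = z ∧ g • φ = φ ∧ g • ψ = ψ'

namespace Hy
variable {s : Pg V V'} {G : Type*} [Group G] [DistribMulAction G V] [DistribMulAction G V']
  (h : Hy s G)
include h

theorem idx1 {z : V} (hz : z ≠ 0) : (stabilizer G z).index = Nat.card V - 1 := by
  rw [← h.orb_top hz, ← relIndex_stab]; simp

theorem idx2 {z y : V} (hz : z ≠ 0) (hy : y ≠ 0) (hyz : y ≠ z) :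
    (stabilizer G z ⊓ stabilizer G y).index = (Nat.card V - 2) * (Nat.card V - 1) := by
  rw [← Subgroup.relIndex_mul_index (inf_le_left (a := stabilizer G z)), relIndex_stab,
    h.orb_z hz hy hyz, h.idx1 hz]

theorem orb0 {z : V} (hz : z ≠ 0) {φ : V'} (hφ : φ ≠ 0) (h1 : s.β z φ = 0) :
    2 * (orb (stabilizer G z) φ).ncard = Nat.card V - 2 := by
  have h2 := ncard_diff (bot_le (a := s.ker z))
  have h3 := s.card_ker hz
  rw [AddSubgroup.card_bot] at h2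
  rw [orb_eq (Y := {v | v ∈ s.ker z ∧ v ∉ (⊥ : AddSubgroup V')}), h2]
  · omega
  · intro g hg
    exact ⟨(h.inv.r hg φ).trans h1, by simpa using hφ⟩
  · rintro ψ ⟨a, b⟩
    exact h.fl1 hz (h1.trans (Eq.symm a)) (by simpa [hφ] using b)

theorem idxf {z : V} (hz : z ≠ 0) {φ : V'} (hφ : φ ≠ 0) (h1 : s.β z φ = 0) :
    2 * (stabilizer G z ⊓ stabilizer G φ).index = (Nat.card V - 2) * (Nat.card V - 1) := by
  rw [← Subgroup.relIndex_mul_index (inf_le_left (a := stabilizer G z)), relIndex_stab,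
    ← h.orb0 hz hφ h1, h.idx1 hz, mul_assoc]

theorem T3 {z : V} (hz : z ≠ 0) {φ ψ ψ' : V'} (hφ : φ ≠ 0) (h1 : s.β z φ = 0)
    (h2 : s.β z ψ = 1) (h3 : s.β z ψ' = 1) : ∃ g : G, g • z = z ∧ g • φ = φ ∧ g • ψ = ψ' := by
  obtain ⟨k, hk⟩ := h.pw
  have c1 := card1 (s := s) hz
  have c2 := h.orb0 hz hφ h1
  obtain ⟨g, hg, e⟩ := TL (J := stabilizer G z ⊓ stabilizer G φ) (H := stabilizer G z) inf_le_left
    (x := ψ) (Y := {ψ | s.β z ψ = 1}) (d := 1) (m := 4 * 2 ^ k - 1)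
    (by rw [h.orb1 hz h2]; omega) (by norm_num)
    (by rw [relIndex_stab]; omega)
    (by
      have : {ψ | s.β z ψ = 1}.ncard = 2 ^ (k + 2) := by rw [pow_succ, pow_succ]; omega
      rw [this]; apply cop
      have : 0 < 2 ^ k := by positivity
      omega)
    (fun g hg => (h.inv.r hg.1 ψ).trans h2) ψ' h3
  exact ⟨g, hg.1, hg.2, e⟩

omit h in
/-- stabilizer of a point and a line through it -/
def stL (s : Pg V V') (G : Type*) [Group G] [DistribMulAction G V] (z y : V) : Subgroup G where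
  carrier := {g | g • z = z ∧ (g • y = y ∨ g • y = y + z)}
  one_mem' := by simp
  mul_mem' := by
    rintro a b ⟨a1, a2 | a2⟩ ⟨b1, b2 | b2⟩ <;>
      simp [mul_smul, a1, a2, b1, b2, s.acc]
  inv_mem' := by
    rintro a ⟨a1, a2 | a2⟩
    · exact ⟨by rw [inv_smul_eq_iff, a1], Or.inl (by rw [inv_smul_eq_iff, a2])⟩
    · exact ⟨by rw [inv_smul_eq_iff, a1], Or.inr (by rw [inv_smul_eq_iff, smul_add, a1, a2, s.acc])⟩

theorem geo : Nonempty (Geo s G) := by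
  obtain ⟨k, hk⟩ := h.pw
  have k0 : 0 < 2 ^ k := by positivity
  obtain ⟨z, hz⟩ := h.ex0
  obtain ⟨y, hy, hyz⟩ := h.ex2 hz
  have hyz' : y + z ≠ 0 := fun h' => hyz (s.az.1 h')
  have i2 := h.idx2 hz hy hyz
  have iL : (stL s G z y).index % 2 = 1 := by
    have e1 : stL s G z y ⊓ stabilizer G y = stabilizer G z ⊓ stabilizer G y := by
      ext g
      exact ⟨fun hg => ⟨hg.1.1, hg.2⟩, fun hg => ⟨⟨hg.1, Or.inl hg.2⟩, hg.2⟩⟩
    have e2 : orb (stL s G z y) y = {y, y + z} := by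
      apply orb_eq
      · intro g hg; exact hg.2
      · rintro _ (rfl | rfl)
        · exact ⟨1, one_mem _, one_smul _ _⟩
        · obtain ⟨g, g1, g2⟩ := h.two z y z (y + z) hz hy hyz hz hyz' (by simpa using hy)
          exact ⟨g, ⟨g1, Or.inr g2⟩, g2⟩
    have e3 := Subgroup.relIndex_mul_index (inf_le_left (a := stL s G z y) (b := stabilizer G y))
    rw [relIndex_stab, e2, Set.ncard_pair (by simpa using hz), e1, i2, hk] at e3
    have e4 : (stL s G z y).index = (4 * 2 ^ k - 1) * (8 * 2 ^ k - 1) := by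
      apply Nat.eq_of_mul_eq_mul_left (show 0 < 2 by norm_num)
      rw [e3, ← mul_assoc]; congr 1; omega
    rw [e4, Nat.mul_mod, show (4 * 2 ^ k - 1) % 2 = 1 by omega,
      show (8 * 2 ^ k - 1) % 2 = 1 by omega]
  have βL : ∀ g ∈ stL s G z y, ∀ ψ, s.β z ψ = 0 → s.β y (g • ψ) = s.β y ψ := by
    intro g hg ψ hψ
    have hg' := (stL s G z y).inv_mem hg
    rw [← h.inv g⁻¹, inv_smul_smul]
    rcases hg'.2 with e | e <;> rw [e]
    rw [s.addl, hψ, add_zero]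
  have c0 := ncard_diff (bot_le (a := s.ker z ⊓ s.ker y))
  have c0' := s.card_ker2 hz hy hyz
  rw [AddSubgroup.card_bot] at c0
  obtain ⟨φ, ⟨⟨φ1, φ2⟩, φ0⟩, hodd⟩ := exodd (stL s G z y) 2 _
    {v | v ∈ s.ker z ⊓ s.ker y ∧ v ∉ (⊥ : AddSubgroup V')} rfl (by
      rintro g hg ψ ⟨⟨a, b⟩, c⟩
      exact ⟨⟨(h.inv.r hg.1 ψ).trans a, (βL g hg ψ a).trans b⟩, by simpa using c⟩) (by omega)
  replace φ0 : φ ≠ 0 := by simpa using φ0
  set J := stL s G z y ⊓ stabilizer G φ with hJ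
  have iJ : J.index % 2 = 1 := by
    rw [← Subgroup.relIndex_mul_index (inf_le_left : J ≤ stL s G z y), relIndex_stab, Nat.mul_mod,
      iL, show (orb (stL s G z y) φ).ncard % 2 = 1 by omega]
  have iH : ∀ H : Subgroup G, J ≤ H → J.relIndex H % 2 = 1 := by
    intro H hH
    have := Subgroup.relIndex_dvd_index_of_le hH
    by_contra hc
    have h2 : 2 ∣ J.index := dvd_trans (by omega) this
    omega
  have sw : ∃ g ∈ J, g • y = y + z := by
    by_contra hn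
    push Not at hn
    have : J ≤ stabilizer G z ⊓ stabilizer G y := fun g hg =>
      ⟨hg.1.1, hg.1.2.resolve_right (hn g hg)⟩
    have h1 := Subgroup.index_dvd_of_le this
    rw [i2] at h1
    have h2 : 2 ∣ J.index := dvd_trans (Dvd.dvd.mul_right (by omega) _) h1
    omega
  have t1 : ∀ u u', s.β u φ = 1 → s.β u' φ = 1 → ∃ g ∈ J, g • u = u' := by
    intro u u' hu hu'
    have c1 := card1 (s := s.dual) φ0
    rw [s.card_eq] at c1
    exact TL (J := J) (H := stabilizer G φ) inf_le_right (x := u) (Y := {u | s.dual.β φ u = 1})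
      (d := 1) (m := J.relIndex (stabilizer G φ)) (by rw [h.dual.orb1 φ0 hu]; omega) (by norm_num)
      (by omega) (by
        have : {u | s.dual.β φ u = 1}.ncard = 2 ^ (k + 2) := by rw [pow_succ, pow_succ]; omega
        rw [this]; exact cop (iH _ inf_le_right))
      (fun g hg => (h.inv.l hg.2 u).trans hu) u' hu'
  have t2 : ∀ ψ ψ', s.β y ψ = 1 → s.β z ψ = 0 → s.β y ψ' = 1 → s.β z ψ' = 0 →
      ∃ g ∈ J, g • ψ = ψ' := by
    intro ψ ψ' a b c d
    have c1 := card10 (s := s) hy hz hyz.symm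
    have hY : ∀ g ∈ stL s G z y, g • ψ ∈ {ψ | s.β y ψ = 1 ∧ s.β z ψ = 0} := fun g hg =>
      ⟨(βL g hg ψ b).trans a, (h.inv.r hg.1 ψ).trans b⟩
    exact TL (J := J) (H := stL s G z y) inf_le_left (x := ψ)
      (Y := {ψ | s.β y ψ = 1 ∧ s.β z ψ = 0})
      (d := 1) (m := J.relIndex (stL s G z y)) (by
        rw [orb_eq hY, mul_one]
        rintro ψ' ⟨c, d⟩
        obtain ⟨g, g1, g2, g3⟩ := h.e0 hy hz hyz.symm a b c d
        exact ⟨g, ⟨g2, Or.inl g1⟩, g3⟩) (by norm_num)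
      (by omega) (by
        have : {ψ | s.β y ψ = 1 ∧ s.β z ψ = 0}.ncard = 2 ^ (k + 1) := by rw [pow_succ]; omega
        rw [this]; exact cop (iH _ inf_le_left))
      (fun g hg => hY g hg.1) ψ' ⟨c, d⟩
  refine ⟨⟨fun z' y' φ' => ∃ g : G, g • z = z' ∧ g • y = y' ∧ g • φ = φ', ?_, ?_, ?_,
    ⟨z, y, φ, 1, by simp⟩, ?_, ?_, ?_⟩⟩
  · rintro g _ _ _ ⟨k, rfl, rfl, rfl⟩
    exact ⟨g * k, by simp [mul_smul]⟩
  · rintro _ _ _ _ _ _ ⟨k, rfl, rfl, rfl⟩ ⟨l, rfl, rfl, rfl⟩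
    exact ⟨l * k⁻¹, by simp [mul_smul]⟩
  · rintro _ _ _ ⟨k, rfl, rfl, rfl⟩
    exact ⟨by simpa using hz, by simpa using hy, by simpa using hyz, by simpa using φ0,
      (h.inv k _ _).trans φ1, (h.inv k _ _).trans φ2⟩
  · rintro _ _ _ ⟨k, rfl, rfl, rfl⟩
    obtain ⟨g, hg, e⟩ := sw
    exact ⟨k * g, by rw [mul_smul, hg.1.1], by rw [mul_smul, e, smul_add], by
      rw [mul_smul, mem_stabilizer_iff.1 hg.2]⟩
  · rintro _ _ _ u u' ⟨k, rfl, rfl, rfl⟩ a b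
    obtain ⟨g, hg, e⟩ := t1 (k⁻¹ • u) (k⁻¹ • u') (by rw [← h.inv k, smul_inv_smul, a])
      (by rw [← h.inv k, smul_inv_smul, b])
    refine ⟨k * g * k⁻¹, by simp [mul_smul, hg.1.1], ?_, by simp [mul_smul, e]⟩
    rcases hg.1.2 with e | e <;> simp [mul_smul, e]
  · rintro _ _ _ ψ ψ' ⟨k, rfl, rfl, rfl⟩ a b c d
    obtain ⟨g, hg, e⟩ := t2 (k⁻¹ • ψ) (k⁻¹ • ψ') (by rw [← h.inv k, smul_inv_smul, a])
      (by rw [← h.inv k, smul_inv_smul, b]) (by rw [← h.inv k, smul_inv_smul, c])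
      (by rw [← h.inv k, smul_inv_smul, d])
    exact ⟨k * g * k⁻¹, by simp [mul_smul, hg.1.1], by
      simp [mul_smul, mem_stabilizer_iff.1 hg.2], by simp [mul_smul, e]⟩

end Hy

end H20.CK
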