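import Cfsg.Agent.H20.CK.C

/-! The subspaces `M`, `f`, `R`. -/

set_option autoImplicit false
set_option linter.unusedSectionVars false

namespace H20.CK
open MulAction

theorem ncard_smul {G X : Type*} [Group G] [MulAction G X] (g : G) {A B : Set X}
    (h : ∀ v, v ∈ A ↔ g • v ∈ B) : A.ncard = B.ncard := by
  refine Set.ncard_congr (fun a _ => g • a) (fun a ha => (h a).1 ha)
    (fun a b _ _ e => smul_left_cancel g e) fun b hb => ⟨g⁻¹ • b, (h _).2 (by simpa using hb), by simp⟩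

variable {V V' : Type*} [AddCommGroup V] [AddCommGroup V'] [Finite V] [Finite V']

namespace Geo
variable {s : Pg V V'} {G : Type*} [Group G] [DistribMulAction G V] [DistribMulAction G V']
  (X : Geo s G)

def M (z y : V) : AddSubgroup V := s.dual.ann {φ | X.Sp z y φ}
def f (z y : V) : AddSubgroup V' := s.ann (X.M z y)
def R (z : V) (φ : V') : AddSubgroup V := s.dual.ann (s.ann {y | y = z ∨ X.Sp z y φ})

theorem mem_M {z y u : V} : u ∈ X.M z y ↔ ∀ φ, X.Sp z y φ → s.β u φ = 0 := Iff.rfl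

variable {X}

theorem inv_iff (g : G) {z y φ} : X.Sp (g • z) (g • y) (g • φ) ↔ X.Sp z y φ :=
  ⟨fun h => by simpa using X.inv g⁻¹ h, X.inv g⟩

theorem invr {g : G} {z y φ z' y' φ'} (h : X.Sp z y φ) (h1 : g • z = z') (h2 : g • y = y')
    (h3 : g • φ = φ') : X.Sp z' y' φ' := h1 ▸ h2 ▸ h3 ▸ X.inv g h

theorem nM {z y u : V} (hu : u ∉ X.M z y) : ∃ φ, X.Sp z y φ ∧ s.β u φ = 1 := by
  simpa [mem_M, zne0] using hu

theorem sp2_le (z y : V) : s.sp2 z y ≤ X.M z y := by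
  rintro u (rfl | rfl | rfl | rfl) φ hφ
  · simp
  · exact (X.nd hφ).2.2.2.2.1
  · exact (X.nd hφ).2.2.2.2.2
  · show s.β _ φ = 0
    rw [s.addl, (X.nd hφ).2.2.2.2.1, (X.nd hφ).2.2.2.2.2, add_zero]

theorem zM (z y : V) : z ∈ X.M z y := sp2_le z y (by simp [Pg.mem_sp2])
theorem yM (z y : V) : y ∈ X.M z y := sp2_le z y (by simp [Pg.mem_sp2])

theorem annf (z y : V) : s.dual.ann (X.f z y) = X.M z y := s.ann_ann _

theorem M_inv (hi : s.Inv G) (g : G) {z y u : V} : u ∈ X.M z y ↔ g • u ∈ X.M (g • z) (g • y) := by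
  constructor
  · intro h φ hφ
    have := h (g⁻¹ • φ) (by simpa using X.inv g⁻¹ hφ)
    rw [Pg.dual_β, ← hi g, smul_inv_smul] at this
    exact this
  · intro h φ hφ
    exact (hi g u φ).symm.trans (h _ (X.inv g hφ))

variable (h : Hy s G)
include h

theorem exSp {z y : V} (hz : z ≠ 0) (hy : y ≠ 0) (hyz : y ≠ z) : ∃ φ, X.Sp z y φ := by
  obtain ⟨z0, y0, φ, h0⟩ := X.ex
  obtain ⟨a, b, c, -⟩ := X.nd h0
  obtain ⟨g, rfl, rfl⟩ := h.two z0 y0 z y a b c hz hy hyz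
  exact ⟨_, X.inv g h0⟩

theorem exSp' {z : V} {φ : V'} (hz : z ≠ 0) (hφ : φ ≠ 0) (h1 : s.β z φ = 0) : ∃ y, X.Sp z y φ := by
  obtain ⟨z0, y0, φ0, h0⟩ := X.ex
  obtain ⟨a, -, -, b, c, -⟩ := X.nd h0
  obtain ⟨g, rfl, rfl⟩ := h.fl a hz b hφ (c.trans h1.symm)
  exact ⟨_, X.inv g h0⟩

theorem trM {z y u u' : V} (hu : u ∉ X.M z y) (hu' : u' ∉ X.M z y) :
    ∃ g : G, g • z = z ∧ g • y = y ∧ g • u = u' := by
  obtain ⟨φ, a, b⟩ := nM hu
  obtain ⟨φ', c, d⟩ := nM hu'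
  obtain ⟨hz, hy, hyz, -⟩ := X.nd a
  obtain ⟨v, -, e1, e2⟩ := s.dual.both (A := ⊤) ⟨u, trivial, b⟩ ⟨u', trivial, d⟩
  obtain ⟨g1, p1, p2, p3⟩ := X.T1 a b e1
  obtain ⟨g2, q1, q2, q3⟩ := X.T1 c e2 d
  have hg : g2 * g1 ∈ Hy.stL s G z y :=
    (Hy.stL s G z y).mul_mem (show g2 ∈ Hy.stL s G z y from ⟨q1, q2⟩) ⟨p1, p2⟩
  have hgu : (g2 * g1) • u = u' := by rw [mul_smul, p3, q3]
  rcases hg.2 with e | e
  · exact ⟨_, hg.1, e, hgu⟩
  · obtain ⟨k, k1, k2, k3⟩ := h.shift hz hy hyz (u := u') fun h' => hu' (sp2_le z y h')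
    exact ⟨k * (g2 * g1), by rw [mul_smul, hg.1, k1], by rw [mul_smul, e, smul_add, k1, k2, s.acc],
      by rw [mul_smul, hgu, k3]⟩

theorem mem_f {z y : V} {φ : V'} : φ ∈ X.f z y ↔ φ = 0 ∨ X.Sp z y φ := by
  constructor
  · intro hφ
    by_cases h0 : φ = 0
    · exact Or.inl h0
    right
    obtain ⟨u, hu⟩ := s.dual.ex1 h0
    have hu' : u ∉ X.M z y := fun h' => z10 (hu.symm.trans (hφ u h'))
    obtain ⟨φ0, a, -⟩ := nM hu'
    obtain ⟨g, hg, e⟩ := Pg.FLc h.inv.dual (stabilizer G z ⊓ stabilizer G y) (X.M z y) (X.M z y)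
      (w := φ0) (w' := φ) (fun _ a b => absurd a b) (by
        intro u a u' b
        obtain ⟨g, g1, g2, g3⟩ := trM h a b
        exact ⟨g, ⟨g1, g2⟩, g3⟩)
      (fun v hv => (hv φ0 a).trans (hφ v hv).symm)
      (iff_of_true (fun v hv => hv φ0 a) hφ) (by simp [h0, (X.nd a).2.2.2.1])
    exact invr a hg.1 hg.2 e
  · rintro (rfl | hφ)
    · exact zero_mem _
    · exact fun v hv => hv φ hφ

theorem Sp.f {z y : V} {φ : V'} (a : X.Sp z y φ) : φ ∈ X.f z y := (mem_f h).2 (Or.inr a)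

theorem of_f {z y : V} {φ : V'} (a : φ ∈ X.f z y) (h0 : φ ≠ 0) : X.Sp z y φ :=
  ((mem_f h).1 a).resolve_left h0

theorem M_comm (z y : V) : X.M z y = X.M y z := by
  have key : ∀ z y : V, X.M y z ≤ X.M z y := by
    intro z y u hu
    by_contra hn
    obtain ⟨φ, a, b⟩ := nM hn
    obtain ⟨hz, hy, hyz, -⟩ := X.nd a
    obtain ⟨g, g1, g2, g3⟩ := h.swap hz hy hyz (u := u) fun h' => hn (sp2_le z y h')
    exact z10 (((h.inv.r g3 φ).trans b).symm.trans (hu _ (invr a g1 g2 rfl)))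
  exact le_antisymm (key y z) (key z y)

theorem f_comm (z y : V) : X.f z y = X.f y z := by rw [f, M_comm h, f]

theorem symm {z y : V} {φ : V'} (a : X.Sp z y φ) : X.Sp y z φ :=
  of_f h (f_comm h z y ▸ Sp.f h a) (X.nd a).2.2.2.1

theorem M_symm {z y u : V} (hu0 : u ≠ 0) (huz : u ≠ z) (hu : y ∈ X.M z u) : u ∈ X.M z y := by
  by_contra hn
  obtain ⟨φ, a, b⟩ := nM hn
  obtain ⟨hz, hy, hyz, -⟩ := X.nd a
  have h1 : u ∉ s.sp2 z y := fun h' => hn (sp2_le z y h')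
  simp only [Pg.mem_sp2, not_or] at h1
  obtain ⟨g, g1, g2, g3⟩ := h.swap hy hu0 h1.2.2.1 (u := z) (by
    simp only [Pg.mem_sp2, not_or]
    refine ⟨hz, hyz.symm, huz.symm, fun h' => h1.2.2.2 ?_⟩
    rw [h', add_comm, s.aac])
  have := hu _ (invr a g3 g1 rfl)
  rw [Pg.dual_β, ← g2, h.inv, b] at this
  exact z10 this

omit h in
theorem annR (z : V) (φ : V') : s.ann (X.R z φ) = s.ann {y | y = z ∨ X.Sp z y φ} :=
  s.dual.ann_ann _

omit h in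
theorem zR (z : V) (φ : V') : z ∈ X.R z φ := fun _ hψ => hψ z (Or.inl rfl)

omit h in
theorem Sp.R {z y : V} {φ : V'} (a : X.Sp z y φ) : y ∈ X.R z φ := fun _ hψ => hψ y (Or.inr a)

omit h in
theorem trR {z : V} {φ ψ ψ' : V'} (h1 : s.β z ψ = 0) (h2 : ψ ∉ s.ann (X.R z φ))
    (h3 : s.β z ψ' = 0) (h4 : ψ' ∉ s.ann (X.R z φ)) :
    ∃ g : G, g • z = z ∧ g • φ = φ ∧ g • ψ = ψ' := by
  rw [annR] at h2 h4
  have key : ∀ ψ, s.β z ψ = 0 → ψ ∉ s.ann {y | y = z ∨ X.Sp z y φ} →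
      ∃ y, X.Sp z y φ ∧ s.β y ψ = 1 := by
    intro ψ a b
    simpa [Pg.mem_ann, a, zne0] using b
  obtain ⟨y, a, b⟩ := key ψ h1 h2
  obtain ⟨y', c, d⟩ := key ψ' h3 h4
  obtain ⟨χ, e, e1, e2⟩ := s.both (A := s.ker z) ⟨ψ, h1, b⟩ ⟨ψ', h3, d⟩
  obtain ⟨g1, p1, p2, p3⟩ := X.T2 a b h1 e1 e
  obtain ⟨g2, q1, q2, q3⟩ := X.T2 c e2 e d h3
  exact ⟨g2 * g1, by rw [mul_smul, p1, q1], by rw [mul_smul, p2, q2], by rw [mul_smul, p3, q3]⟩

theorem of_R {z y : V} {φ : V'} (hz : z ≠ 0) (hφ : φ ≠ 0) (h1 : s.β z φ = 0) (hy : y ∈ X.R z φ)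
    (h0 : y ≠ 0) (hyz : y ≠ z) : X.Sp z y φ := by
  obtain ⟨y0, a⟩ := exSp' (X := X) h hz hφ h1
  obtain ⟨g, hg, e⟩ := Pg.FLc h.inv (stabilizer G z ⊓ stabilizer G φ) (s.ann (X.R z φ)) (s.ker z)
    (w := y0) (w' := y) (by
      intro ψ a b ψ' c d
      obtain ⟨g, g1, g2, g3⟩ := trR a b c d
      exact ⟨g, ⟨g1, g2⟩, g3⟩) (by
      intro ψ a ψ' b
      obtain ⟨g, g1, g2, g3⟩ := h.T3 hz hφ h1 (zne0.1 a) (zne0.1 b)
      exact ⟨g, ⟨g1, g2⟩, g3⟩)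
    (fun ψ hψ => (hψ y0 (Sp.R a)).trans (hψ y hy).symm)
    (by rw [s.ann_ker]; simp [Pg.mem_sp1, h0, hyz, (X.nd a).2.1, (X.nd a).2.2.1])
    (by simp [h0, (X.nd a).2.1])
  exact invr a hg.1 e hg.2

theorem mem_R {z y : V} {φ : V'} (hz : z ≠ 0) (hφ : φ ≠ 0) (h1 : s.β z φ = 0) :
    y ∈ X.R z φ ↔ y = 0 ∨ y = z ∨ X.Sp z y φ := by
  constructor
  · intro hy
    by_cases h0 : y = 0
    · exact Or.inl h0
    by_cases h2 : y = z
    · exact Or.inr (Or.inl h2)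
    exact Or.inr (Or.inr (of_R h hz hφ h1 hy h0 h2))
  · rintro (rfl | rfl | a)
    · exact zero_mem _
    · exact zR _ _
    · exact Sp.R a

theorem R_ker {z y : V} {φ : V'} (h1 : s.β z φ = 0) (hy : y ∈ X.R z φ) : s.β y φ = 0 := by
  refine hy φ ?_
  rintro v (rfl | a)
  · exact h1
  · exact (X.nd a).2.2.2.2.2

theorem R_inv (g : G) {z y : V} {φ : V'} : y ∈ X.R z φ ↔ g • y ∈ X.R (g • z) (g • φ) := by
  have key : ∀ (g : G) {z y : V} {φ : V'}, y ∈ X.R z φ → g • y ∈ X.R (g • z) (g • φ) := by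
    intro g z y φ hy ψ hψ
    have := hy (g⁻¹ • ψ) (by
      intro v hv
      rw [← h.inv g, smul_inv_smul]
      apply hψ
      rcases hv with rfl | a
      · exact Or.inl rfl
      · exact Or.inr (X.inv g a))
    rw [Pg.dual_β, ← h.inv g, smul_inv_smul] at this
    exact this
  exact ⟨key g, fun a => by simpa using key g⁻¹ a⟩

theorem f_inv (g : G) {z y : V} {φ : V'} : φ ∈ X.f z y ↔ g • φ ∈ X.f (g • z) (g • y) := by
  simp only [mem_f h, inv_iff, sz]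

omit h in
theorem ann_inv {s : Pg V V'} (hi : s.Inv G) (g : G) {A B : AddSubgroup V} (hA : ∀ v, v ∈ A ↔ g • v ∈ B)
    {φ : V'} : φ ∈ s.ann A ↔ g • φ ∈ s.ann B := by
  constructor
  · intro a v hv
    rw [← hi g⁻¹, inv_smul_smul]
    exact a _ ((hA _).2 (by simpa using hv))
  · intro a v hv
    rw [← hi g]; exact a _ ((hA v).1 hv)

omit h in
variable (X) in
noncomputable def a : ℕ := Nat.card (X.f X.ex.choose X.ex.choose_spec.choose)

theorem card_f {z y : V} (hz : z ≠ 0) (hy : y ≠ 0) (hyz : y ≠ z) : Nat.card (X.f z y) = X.a := by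
  obtain ⟨a, b, c, -⟩ := X.nd X.ex.choose_spec.choose_spec.choose_spec
  obtain ⟨g, g1, g2⟩ := h.two _ _ z y a b c hz hy hyz
  symm
  refine ncard_smul g fun φ => ?_
  rw [← g1, ← g2]; exact f_inv h g

theorem card_M {z y : V} (hz : z ≠ 0) (hy : y ≠ 0) (hyz : y ≠ z) :
    X.a * Nat.card (X.M z y) = Nat.card V := by
  rw [← card_f h hz hy hyz, ← annf, s.dual.card_ann]

theorem a_pow : ∃ k, X.a = 2 * 2 ^ k := by
  obtain ⟨z, y, φ, h0⟩ := X.ex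
  obtain ⟨a, b, c, d, -⟩ := X.nd h0
  obtain ⟨k, hk⟩ := s.dual.card_sub_pow (X.f z y)
  have : s.dual.sp1 φ ≤ X.f z y := by
    rintro _ (rfl | rfl)
    · exact zero_mem _
    · exact Sp.f h h0
  have h2 := AddSubgroup.card_le_of_le this
  rw [s.dual.card_sp1 d, hk] at h2
  rw [card_f h a b c] at hk
  cases k with
  | zero => omega
  | succ k => exact ⟨k, by rw [hk, pow_succ, mul_comm]⟩

theorem ncard_Sp {z y : V} (hz : z ≠ 0) (hy : y ≠ 0) (hyz : y ≠ z) :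
    {φ | X.Sp z y φ}.ncard = X.a - 1 := by
  rw [← card_f h hz hy hyz, ← AddSubgroup.card_bot (G := V'), ← ncard_diff bot_le]
  congr 1; ext φ
  simp only [Set.mem_ofPred_eq, AddSubgroup.mem_bot]
  exact ⟨fun a => ⟨Sp.f h a, (X.nd a).2.2.2.1⟩, fun a => of_f h a.1 a.2⟩

theorem ncard_Sp' {z : V} {φ : V'} (hz : z ≠ 0) (hφ : φ ≠ 0) (h1 : s.β z φ = 0) :
    {y | X.Sp z y φ}.ncard = Nat.card (X.R z φ) - 2 := by
  rw [← s.card_sp1 hz, ← ncard_diff (B := s.sp1 z) (by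
    rintro _ (rfl | rfl)
    · exact zero_mem _
    · exact zR _ _)]
  congr 1; ext y
  simp only [Set.mem_ofPred_eq, Pg.mem_sp1, not_or]
  exact ⟨fun a => ⟨Sp.R a, (X.nd a).2.1, (X.nd a).2.2.1⟩, fun a => of_R h hz hφ h1 a.1 a.2.1 a.2.2⟩

theorem card_R {z : V} {φ : V'} (hz : z ≠ 0) (hφ : φ ≠ 0) (h1 : s.β z φ = 0) :
    Nat.card (X.R z φ) = 2 * X.a := by
  have e := dc {y | y ∈ (⊤ : AddSubgroup V) ∧ y ∉ s.sp1 z}
    {ψ | ψ ∈ s.ker z ∧ ψ ∉ (⊥ : AddSubgroup V')} (fun y ψ => X.Sp z y ψ) (m := X.a - 1)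
    (n := Nat.card (X.R z φ) - 2) (by
      rintro y ⟨-, hy⟩
      simp only [Pg.mem_sp1, not_or] at hy
      rw [← ncard_Sp h hz hy.1 hy.2]
      congr 1; ext ψ
      simp only [Set.mem_ofPred_eq, Pg.mem_ker, AddSubgroup.mem_bot]
      exact ⟨fun a => a.2, fun a => ⟨⟨(X.nd a).2.2.2.2.1, (X.nd a).2.2.2.1⟩, a⟩⟩) (by
      rintro ψ ⟨a, b⟩
      rw [AddSubgroup.mem_bot] at b
      obtain ⟨g, g1, g2⟩ := h.fl1 hz (φ := ψ) (φ' := φ) (a.trans h1.symm) (by simp [b, hφ])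
      rw [← ncard_Sp' h hz hφ h1]
      refine ncard_smul g fun y => ?_
      simp only [Set.mem_ofPred_eq, AddSubgroup.mem_top, Pg.mem_sp1, true_and, not_or]
      constructor
      · intro c; exact invr c.2 g1 rfl g2
      · intro c
        rw [← g1, ← g2, inv_iff] at c
        exact ⟨⟨(X.nd c).2.1, (X.nd c).2.2.1⟩, c⟩)
  rw [ncard_diff le_top, ncard_diff bot_le, AddSubgroup.card_top, s.card_sp1 hz,
    AddSubgroup.card_bot] at e
  have c := s.card_ker hz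
  have h8 := h.h8
  obtain ⟨k, hk⟩ := a_pow (X := X) h
  have k0 : 0 < 2 ^ k := by positivity
  have : 2 * (X.a - 1) = Nat.card (X.R z φ) - 2 := by
    apply Nat.eq_of_mul_eq_mul_left (show 0 < Nat.card (s.ker z) - 1 by omega)
    rw [← e, ← mul_assoc]; congr 1; omega
  omega

end Geo

end H20.CK
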