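import Cfsg.Agent.H20.CK.D

/-! The basic count relating the geometry and its dual. -/

set_option autoImplicit false
set_option linter.unusedSectionVars false

namespace H20.CK
open MulAction

theorem pow_odd {p q o1 o2 : ℕ} (h1 : o1 % 2 = 1) (h2 : o2 % 2 = 1) (h : 2 ^ p * o1 = 2 ^ q * o2) :
    2 ^ p = 2 ^ q ∧ o1 = o2 := by
  have a : 2 ^ p ∣ 2 ^ q := (Hy.cop h2).dvd_of_dvd_mul_right ⟨o1, h.symm⟩
  have b : 2 ^ q ∣ 2 ^ p := (Hy.cop h1).dvd_of_dvd_mul_right ⟨o2, h⟩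
  have c := Nat.dvd_antisymm a b
  rw [c] at h
  exact ⟨c, Nat.eq_of_mul_eq_mul_left (by positivity) h⟩

theorem numlem {a b m e σ T i j k l : ℕ} (ha : a = 2 * 2 ^ i) (hb : b = 2 * 2 ^ j) (he : e = 2 ^ k)
    (hσ : σ = 2 ^ l) (hT : 0 < T) (hN : a * (m * e) = 2 * b * T)
    (h : (2 * a - 2) * (m * e - m) = (b * T - T) * (2 * σ - 2)) :
    e = 1 ∨ a = 2 ∨ (a = b ∧ e = 2 ∧ σ = 2) := by
  have i0 : 0 < 2 ^ i := by positivity
  have j0 : 0 < 2 ^ j := by positivity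
  have l0 : 0 < 2 ^ l := by positivity
  cases k with
  | zero => left; simpa using he
  | succ k =>
  right
  have k0 : 0 < 2 ^ k := by positivity
  rw [pow_succ] at he
  obtain ⟨a', rfl⟩ : ∃ a', a = a' + 1 := ⟨a - 1, by omega⟩
  obtain ⟨b', rfl⟩ : ∃ b', b = b' + 1 := ⟨b - 1, by omega⟩
  obtain ⟨e', rfl⟩ : ∃ e', e = e' + 1 := ⟨e - 1, by omega⟩
  obtain ⟨σ', rfl⟩ : ∃ σ', σ = σ' + 1 := ⟨σ - 1, by omega⟩
  have e1 : 2 * (a' + 1) - 2 = 2 * a' := by omega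
  have e2 : m * (e' + 1) - m = m * e' := by rw [mul_add]; omega
  have e3 : (b' + 1) * T - T = b' * T := by rw [add_mul]; omega
  have e4 : 2 * (σ' + 1) - 2 = 2 * σ' := by omega
  rw [e1, e2, e3, e4] at h
  have h2 : 2 * (b' + 1) * (a' * e') = (a' + 1) * (e' + 1) * (b' * σ') := by
    apply Nat.eq_of_mul_eq_mul_left (show 0 < 2 * T by omega)
    calc 2 * T * (2 * (b' + 1) * (a' * e')) = 2 * a' * e' * (2 * (b' + 1) * T) := by ring
      _ = (a' + 1) * (e' + 1) * (2 * a' * (m * e')) := by rw [← hN]; ring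
      _ = _ := by rw [h]; ring
  have oa : a' % 2 = 1 := by omega
  have ob : b' % 2 = 1 := by omega
  have oe : e' % 2 = 1 := by omega
  have s0 : σ' ≠ 0 := by
    rintro rfl
    have : 0 < 2 * (b' + 1) * (a' * e') := by
      have : 0 < a' := by omega
      have : 0 < e' := by omega
      positivity
    simp at h2; omega
  cases l with
  | zero => simp at hσ; exact absurd hσ s0
  | succ l =>
  rw [pow_succ] at hσ
  have os : σ' % 2 = 1 := by omega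
  have p1 : 2 * (b' + 1) = 2 ^ (j + 2) := by rw [hb]; ring
  have p2 : (a' + 1) * (e' + 1) = 2 ^ (i + k + 2) := by rw [ha, he]; ring
  obtain ⟨q1, q2⟩ := pow_odd (p := j + 2) (q := i + k + 2) (o1 := a' * e') (o2 := b' * σ')
    (by rw [Nat.mul_mod, oa, oe]) (by rw [Nat.mul_mod, ob, os]) (by rw [← p1, ← p2, h2])
  rw [← p1, ← p2] at q1
  have hs : σ' = 1 := by
    by_contra hc
    have : 3 ≤ σ' := by omega
    have : b' * 3 ≤ b' * σ' := Nat.mul_le_mul_left _ this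
    nlinarith
  subst hs
  have : (a' - 1) * (e' - 1) = 0 := by
    obtain ⟨a'', rfl⟩ : ∃ c, a' = c + 1 := ⟨a' - 1, by omega⟩
    obtain ⟨e'', rfl⟩ : ∃ c, e' = c + 1 := ⟨e' - 1, by omega⟩
    simp only [Nat.add_sub_cancel]; nlinarith
  rcases Nat.mul_eq_zero.1 this with c | c
  · left; omega
  · right
    have : e' = 1 := by omega
    subst this
    omega

variable {V V' : Type*} [AddCommGroup V] [AddCommGroup V'] [Finite V] [Finite V']

namespace Geo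
variable {s : Pg V V'} {G : Type*} [Group G] [DistribMulAction G V] [DistribMulAction G V']
  {X : Geo s G} (Y : Geo s.dual G)

def T (z : V) (φ : V') : AddSubgroup V := s.dual.ann (Y.R φ z)

variable {Y} (h : Hy s G)
include h

theorem card_T {z : V} {φ : V'} (hz : z ≠ 0) (hφ : φ ≠ 0) (h1 : s.β z φ = 0) :
    2 * Y.a * Nat.card (Y.T z φ) = Nat.card V := by
  rw [← card_R h.dual hφ hz h1, T, s.dual.card_ann]

omit h in
theorem T_ker {z u : V} {φ : V'} (hu : u ∈ Y.T z φ) : s.β u φ = 0 := hu φ (zR φ z)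

theorem zT {z : V} {φ : V'} (h1 : s.β z φ = 0) : z ∈ Y.T z φ := fun _ hψ => R_ker h.dual h1 hψ

omit h in
theorem trT {z u u' : V} {φ : V'} (h1 : s.β u φ = 0) (h2 : u ∉ Y.T z φ) (h3 : s.β u' φ = 0)
    (h4 : u' ∉ Y.T z φ) : ∃ g : G, g • z = z ∧ g • φ = φ ∧ g • u = u' := by
  obtain ⟨g, a, b, c⟩ := trR (X := Y) h1 h2 h3 h4
  exact ⟨g, b, a, c⟩

theorem T_inv (g : G) {z u : V} {φ : V'} : u ∈ Y.T z φ ↔ g • u ∈ Y.T (g • z) (g • φ) :=
  ann_inv h.inv.dual g fun _ => R_inv h.dual g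

theorem R_le_T (hβ : 4 * X.a ≠ Nat.card V) {z : V} {φ : V'} (hz : z ≠ 0) (hφ : φ ≠ 0)
    (h1 : s.β z φ = 0) : X.R z φ ≤ Y.T z φ := by
  intro x hx
  by_contra hn
  have k1 : ∀ u, s.β u φ = 0 → u ∉ Y.T z φ → u ∈ X.R z φ := by
    intro u a b
    obtain ⟨g, g1, g2, rfl⟩ := trT (R_ker h h1 hx) hn a b
    have := (R_inv h g).1 hx
    rwa [g1, g2] at this
  have k2 : s.dual.ker φ ≤ X.R z φ := by
    intro u hu
    by_cases hT : u ∈ Y.T z φ
    · have := k1 (x + u) (by rw [s.addl, R_ker h h1 hx, T_ker hT, add_zero])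
        fun h' => hn (by simpa [s.acc] using add_mem h' hT)
      simpa [s.aac] using add_mem hx this
    · exact k1 u hu hT
  have k3 : X.R z φ = s.dual.ker φ := le_antisymm (fun u hu => R_ker h h1 hu) k2
  have c1 := card_R (X := X) h hz hφ h1
  have c2 := s.dual.card_ker hφ
  rw [k3] at c1
  rw [s.card_eq] at c2
  omega

theorem ab4 (hβ : 4 * X.a ≠ Nat.card V) : 4 * X.a * Y.a ≤ Nat.card V := by
  obtain ⟨z, y, φ, h0⟩ := X.ex
  obtain ⟨hz, -, -, hφ, h1, -⟩ := X.nd h0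
  have := AddSubgroup.card_le_of_le (R_le_T (Y := Y) h hβ hz hφ h1)
  rw [card_R h hz hφ h1] at this
  rw [← card_T (Y := Y) h hz hφ h1]
  nlinarith

theorem M_ker {z y u : V} {φ : V'} (a : X.Sp z y φ) (hu : u ∈ X.M z y) : s.β u φ = 0 := hu φ a

theorem count {z : V} {φ : V'} (hz : z ≠ 0) (hφ : φ ≠ 0) (h1 : s.β z φ = 0) :
    2 * Y.a ≤ X.a ∨ X.a = 2 ∨ (X.a = Y.a ∧ (∀ y, X.Sp z y φ → Y.T z φ ≤ X.M z y) ∧
      ∀ u, s.β u φ = 0 → u ∉ Y.T z φ → Nat.card (X.R z φ ⊓ X.M z u : AddSubgroup V) = 4) := by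
  obtain ⟨y0, h0⟩ := exSp' (X := X) h hz hφ h1
  obtain ⟨i, hi⟩ := a_pow (X := X) h
  obtain ⟨j, hj⟩ := a_pow (X := Y) h.dual
  have cT := card_T (Y := Y) h hz hφ h1
  have cW := s.dual.card_ker hφ
  rw [s.card_eq] at cW
  have cM := card_M (X := X) h hz (X.nd h0).2.1 (X.nd h0).2.2.1
  have cR := card_R (X := X) h hz hφ h1
  have T0 : 0 < Nat.card (Y.T z φ) := Nat.card_pos
  have cW' : Nat.card (s.dual.ker φ) = Y.a * Nat.card (Y.T z φ) := by nlinarith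
  obtain ⟨u0, hu0, hu0'⟩ := exn (A := Y.T z φ) (B := s.dual.ker φ) (by
    have : 0 < 2 ^ j := by positivity
    rw [cW', hj]; nlinarith)
  have hMT : ∀ y, X.Sp z y φ → Nat.card (X.M z y ⊓ Y.T z φ : AddSubgroup V)
      = Nat.card (X.M z y0 ⊓ Y.T z φ : AddSubgroup V) := by
    intro y a
    obtain ⟨g, g1, g2, g3⟩ := X.tr a h0
    refine ncard_smul g fun v => ?_
    simp only [SetLike.mem_coe, AddSubgroup.mem_inf]
    rw [M_inv h.inv g, T_inv h g, g1, g2, g3]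
  have hRM : ∀ u, s.β u φ = 0 → u ∉ Y.T z φ → Nat.card (X.R z φ ⊓ X.M z u : AddSubgroup V)
      = Nat.card (X.R z φ ⊓ X.M z u0 : AddSubgroup V) := by
    intro u a b
    obtain ⟨g, g1, g2, g3⟩ := trT a b hu0 hu0'
    refine ncard_smul g fun v => ?_
    simp only [SetLike.mem_coe, AddSubgroup.mem_inf]
    rw [M_inv h.inv g, R_inv h g, g1, g2, g3]
  have hsp : ∀ u, s.sp1 z ≤ X.R z φ ⊓ X.M z u := by
    rintro u _ (rfl | rfl)
    · exact zero_mem _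
    · exact ⟨zR _ _, zM _ _⟩
  have e := dc {y | X.Sp z y φ} {u | u ∈ s.dual.ker φ ∧ u ∉ Y.T z φ} (fun y u => u ∈ X.M z y)
    (m := Nat.card (X.M z y0) - Nat.card (X.M z y0 ⊓ Y.T z φ : AddSubgroup V))
    (n := Nat.card (X.R z φ ⊓ X.M z u0 : AddSubgroup V) - 2) (by
      intro y a
      have c := card_M (X := X) h hz (X.nd a).2.1 (X.nd a).2.2.1
      have : Nat.card (X.M z y0) = Nat.card (X.M z y) :=
        Nat.eq_of_mul_eq_mul_left (show 0 < X.a by rw [hi]; positivity) (cM.trans c.symm)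
      rw [← hMT y a, this, ← ncard_diff inf_le_left]
      congr 1; ext u
      simp only [Set.mem_ofPred_eq, AddSubgroup.mem_inf, Pg.mem_ker]
      exact ⟨fun b => ⟨b.2, fun c => b.1.2 c.2⟩, fun b => ⟨⟨b.1 φ a, fun c => b.2 ⟨b.1, c⟩⟩, b.1⟩⟩)
    (by
      rintro u ⟨a, b⟩
      have u0 : u ≠ 0 := by rintro rfl; exact b (zero_mem _)
      have uz : u ≠ z := by rintro rfl; exact b (zT h h1)
      rw [← hRM u a b, ← s.card_sp1 hz, ← ncard_diff (hsp u)]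
      congr 1; ext y
      simp only [Set.mem_ofPred_eq, AddSubgroup.mem_inf, Pg.mem_sp1, not_or]
      constructor
      · rintro ⟨c, d⟩
        obtain ⟨-, y0, yz, -⟩ := X.nd c
        exact ⟨⟨Sp.R c, M_symm h y0 yz d⟩, y0, yz⟩
      · rintro ⟨⟨c, d⟩, y0, yz⟩
        exact ⟨of_R h hz hφ h1 c y0 yz, M_symm h u0 uz d⟩)
  rw [ncard_Sp' h hz hφ h1, ncard_diff (fun u hu => T_ker hu), cR, cW'] at e
  obtain ⟨e0, he0⟩ := AddSubgroup.card_dvd_of_le (inf_le_left : X.M z y0 ⊓ Y.T z φ ≤ X.M z y0)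
  obtain ⟨σ, hσ⟩ := AddSubgroup.card_dvd_of_le (hsp u0)
  rw [s.card_sp1 hz] at hσ
  obtain ⟨k, hk⟩ : ∃ k, e0 = 2 ^ k := by
    obtain ⟨n, hn⟩ := s.card_sub_pow (X.M z y0)
    obtain ⟨k, -, hk⟩ := (Nat.dvd_prime_pow Nat.prime_two).1 (hn ▸ Dvd.intro_left _ he0.symm)
    exact ⟨k, hk⟩
  obtain ⟨l, hl⟩ : ∃ k, σ = 2 ^ k := by
    obtain ⟨n, hn⟩ := s.card_sub_pow (X.R z φ ⊓ X.M z u0)
    obtain ⟨k, -, hk⟩ := (Nat.dvd_prime_pow Nat.prime_two).1 (hn ▸ Dvd.intro_left _ hσ.symm)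
    exact ⟨k, hk⟩
  rw [he0, hσ] at e
  rcases numlem hi hj hk hl T0 (by rw [← he0, cM, cT]) e with c | c | ⟨c1, c2, c3⟩
  · left
    have := AddSubgroup.card_le_of_le (inf_le_right : X.M z y0 ⊓ Y.T z φ ≤ Y.T z φ)
    rw [c, mul_one] at he0
    rw [← he0] at this
    apply Nat.le_of_mul_le_mul_right _ T0
    rw [cT, ← cM]; exact Nat.mul_le_mul_left _ this
  · exact Or.inr (Or.inl c)
  · refine Or.inr (Or.inr ⟨c1, fun y a => ?_, fun u a b => by rw [hRM u a b, hσ, c3]⟩)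
    rw [← inf_eq_right]
    apply AddSubgroup.eq_of_le_of_card_ge inf_le_right
    rw [hMT y a]
    apply Nat.le_of_mul_le_mul_left _ (show 0 < 2 * Y.a by rw [hj]; positivity)
    rw [cT, ← cM, he0, c2, c1]; apply le_of_eq; ring

end Geo

structure K0 {s : Pg V V'} {G : Type*} [Group G] [DistribMulAction G V] [DistribMulAction G V']
    (X : Geo s G) (Y : Geo s.dual G) : Prop where
  ab : X.a = Y.a
  a4 : 4 ≤ X.a
  N4 : 4 * X.a * X.a ≤ Nat.card V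
  K1 : ∀ {z y φ}, X.Sp z y φ → X.f z y ≤ Y.R φ z
  K2 : ∀ {z y y'}, z ≠ 0 → y ≠ 0 → y ≠ z → y' ≠ 0 → y' ≠ z → X.f z y = X.f z y' →
    y' = y ∨ y' = z + y
  RT : ∀ {z φ}, z ≠ 0 → φ ≠ 0 → s.β z φ = 0 → X.R z φ ≤ Y.T z φ

namespace Geo
variable {s : Pg V V'} {G : Type*} [Group G] [DistribMulAction G V] [DistribMulAction G V']
  {X : Geo s G} {Y : Geo s.dual G} (h : Hy s G)
include h

theorem k0 (hβ : 4 * X.a ≠ Nat.card V) (h1 : ¬ 2 * Y.a ≤ X.a) (h2 : X.a ≠ 2) : K0 X Y := by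
  have key := fun z φ hz hφ h3 =>
    ((count (X := X) (Y := Y) h (z := z) (φ := φ) hz hφ h3).resolve_left h1).resolve_left h2
  obtain ⟨z0, y0, φ0, h0⟩ := X.ex
  have ab := (key z0 φ0 (X.nd h0).1 (X.nd h0).2.2.2.1 (X.nd h0).2.2.2.2.1).1
  obtain ⟨i, hi⟩ := a_pow (X := X) h
  have a4 : 4 ≤ X.a := by
    cases i with
    | zero => omega
    | succ i => have : 0 < 2 ^ i := by positivity
                rw [pow_succ] at hi; omega
  refine ⟨ab, a4, by have := ab4 (Y := Y) h hβ; rwa [← ab] at this, ?_, ?_,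
    fun a b c => R_le_T h hβ a b c⟩
  · intro z y φ a ψ hψ
    obtain ⟨hz, -, -, hφ, h3, -⟩ := X.nd a
    rw [← s.dual.ann_ann (Y.R φ z)]
    exact fun v hv => hψ v ((key z φ hz hφ h3).2.1 y a hv)
  · intro z y y' hz hy hyz hy' hyz' e
    obtain ⟨φ, a⟩ := exSp (X := X) h hz hy hyz
    obtain ⟨-, -, -, hφ, h3, -⟩ := X.nd a
    have a' : X.Sp z y' φ := of_f h (e ▸ Sp.f h a) hφ
    have eM : X.M z y = X.M z y' := by rw [← annf, e, annf]
    have cT := card_T (Y := Y) h hz hφ h3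
    have cM := card_M (X := X) h hz hy hyz
    obtain ⟨u, hu, hu'⟩ := exn (A := Y.T z φ) (B := X.M z y) (by
      have T0 : 0 < Nat.card (Y.T z φ) := Nat.card_pos
      rw [← ab, ← cM] at cT
      nlinarith)
    have c := (key z φ hz hφ h3).2.2 u (hu φ a) hu'
    have h4 : s.sp2 z y ≤ X.R z φ ⊓ X.M z u := by
      have p1 : z ∈ X.R z φ ⊓ X.M z u := ⟨zR _ _, zM _ _⟩
      have p2 : y ∈ X.R z φ ⊓ X.M z u := ⟨Sp.R a, M_symm h hy hyz hu⟩
      rintro _ (rfl | rfl | rfl | rfl)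
      · exact zero_mem _
      · exact p1
      · exact p2
      · exact add_mem p1 p2
    have h5 := AddSubgroup.eq_of_le_of_card_ge h4 (by rw [c, s.card_sp2 hz hy hyz])
    have h6 : y' ∈ s.sp2 z y := h5 ▸ ⟨Sp.R a', M_symm h hy' hyz' (eM ▸ hu)⟩
    simpa [Pg.mem_sp2, hy', hyz'] using h6

/-- the trichotomy -/
theorem tri (hβ : 4 * X.a ≠ Nat.card V) : X.a = 2 ∨ Y.a = 2 ∨ (K0 X Y ∧ K0 Y X) := by
  by_cases h1 : X.a = 2
  · exact Or.inl h1
  by_cases h2 : Y.a = 2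
  · exact Or.inr (Or.inl h2)
  right; right
  obtain ⟨i, hi⟩ := a_pow (X := X) h
  obtain ⟨j, hj⟩ := a_pow (X := Y) h.dual
  have i0 : 0 < 2 ^ i := by positivity
  have j0 : 0 < 2 ^ j := by positivity
  have hβ' : 4 * Y.a ≠ Nat.card V' := by
    have := ab4 (Y := Y) h hβ
    rw [s.card_eq]; nlinarith
  by_cases h3 : 2 * Y.a ≤ X.a
  · have k := k0 (X := Y) (Y := X) h.dual hβ' (show ¬ 2 * X.a ≤ Y.a by omega) h2
    have : Y.a = X.a := k.ab
    omega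
  · have k := k0 h hβ h3 h1
    exact ⟨k, k0 (X := Y) (Y := X) h.dual hβ' (show ¬ 2 * X.a ≤ Y.a by have := k.ab; omega) h2⟩

end Geo

end H20.CK
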