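import Cfsg.Agent.H20.CK.E

/-! The case `a = 2`: nonsingular alternating trilinear forms. -/

set_option autoImplicit false
set_option linter.unusedSectionVars false

namespace H20.CK
open MvPolynomial Matrix

theorem cross {σ : Type} [Fintype σ] [DecidableEq σ] (t : σ → σ → σ → ZMod 2)
    (s1 : ∀ i j k, t i j k = t k j i) (s2 : ∀ i j k, t i j k = t i k j) (s3 : ∀ i j, t i j i = 0)
    (hn : 4 ≤ Fintype.card σ)
    (h : ∀ x : σ → ZMod 2, x ≠ 0 → ∀ v, (Matrix.of fun j k => ∑ i, x i * t i j k) *ᵥ v = 0 →
      v = 0 ∨ v = x) : False := by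
  let P : Matrix σ σ (MvPolynomial σ (ZMod 2)) := Matrix.of fun j k => ∑ i, X i * C (t i j k)
  have two : ∀ p : MvPolynomial σ (ZMod 2), p + p = 0 := fun p => CharTwo.add_self_eq_zero p
  have hP : ∀ j, ∑ k, P j k * X k = 0 := by
    intro j
    simp only [P, Matrix.of_apply, Finset.sum_mul]
    rw [← Finset.sum_product']
    refine Finset.sum_involution (fun p _ => (p.2, p.1)) ?_ ?_ (fun _ _ => by simp) (fun _ _ => rfl)
    · rintro ⟨k, i⟩ -
      simp only
      rw [s1 k j i, mul_right_comm, mul_right_comm (X k), mul_comm (X k)]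
      exact two _
    · rintro ⟨k, i⟩ - h1 h2
      simp only [Prod.mk.injEq] at h1 h2
      apply h1; rw [h2.1, s3]; simp
  have hPt : Pᵀ = P := by
    ext1 j k
    simp only [P, transpose_apply, Matrix.of_apply, s2 _ k j]
  have hs : ∀ j k, P.adjugate j k = P.adjugate k j := by
    intro j k
    rw [← transpose_apply P.adjugate k j, adjugate_transpose, hPt]
  obtain ⟨i0, i1, h01⟩ := Fintype.exists_pair_of_one_lt_card (α := σ) (by omega)
  have id1 : ∀ i j k, X k * P.adjugate i j = X i * P.adjugate k j := by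
    intro i j k
    have : (P.updateRow j ((X k : MvPolynomial σ (ZMod 2)) • Pi.single i 1 +
        (X i : MvPolynomial σ (ZMod 2)) • Pi.single k 1)).det = 0 := by
      rw [← exists_mulVec_eq_zero_iff]
      refine ⟨fun i => X i, fun h' => X_ne_zero i0 (congrFun h' i0), ?_⟩
      funext r
      by_cases hr : r = j
      · subst hr
        simp only [mulVec, updateRow_self, add_dotProduct, smul_dotProduct, single_dotProduct,
          one_mul, smul_eq_mul, Pi.zero_apply]
        rw [mul_comm]; exact two _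
      · simp only [mulVec, updateRow_ne hr, Pi.zero_apply]; exact hP r
    rw [det_updateRow_add, det_updateRow_smul, det_updateRow_smul, ← adjugate_apply,
      ← adjugate_apply] at this
    exact CharTwo.add_eq_zero.1 this
  have nd : ¬ (X i0 : MvPolynomial σ (ZMod 2)) ∣ X i1 := by rw [X_dvd_X]; exact h01
  have x0 : (X i0 : MvPolynomial σ (ZMod 2)) ≠ 0 := X_ne_zero _
  have d1 : ∀ j, X i0 ∣ P.adjugate i0 j := fun j =>
    (X_prime.dvd_or_dvd (Dvd.intro _ (id1 i0 j i1).symm)).resolve_left nd
  choose r hr using d1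
  have d2 : ∀ k j, P.adjugate k j = X k * r j := by
    intro k j
    apply mul_left_cancel₀ x0
    rw [id1, hr]; ring
  obtain ⟨q, hq⟩ : X i0 ∣ r i0 := (X_prime.dvd_or_dvd (Dvd.intro (r i1) (by
    rw [← d2, hs, d2]))).resolve_left nd
  have d3 : ∀ j, P.adjugate j j = X j * (X j * q) := by
    intro j
    rw [d2]; congr 1
    apply mul_left_cancel₀ x0
    rw [← d2, hs, d2, hq]; ring
  have ev : ∀ x : σ → ZMod 2, x ≠ 0 → eval x q ≠ 0 := by
    intro x hx hq0
    obtain ⟨i, hi⟩ := Function.ne_iff.1 hx
    have hi1 : x i = 1 := zne0.1 hi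
    let B : Matrix σ σ (ZMod 2) := Matrix.of fun j k => ∑ i, x i * t i j k
    have hB : (eval x).mapMatrix P = B := by
      ext j k; simp [P, B]
    have e1 : B.adjugate i i = 0 := by
      rw [← hB, ← RingHom.map_adjugate]
      simp [d3, hq0]
    rw [adjugate_apply, ← exists_mulVec_eq_zero_iff] at e1
    obtain ⟨v, v0, hv⟩ := e1
    have vi : v i = 0 := by
      have := congrFun hv i
      simpa [mulVec] using this
    have vj : ∀ j, j ≠ i → (B *ᵥ v) j = 0 := by
      intro j hj
      have := congrFun hv j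
      simpa [mulVec, updateRow_ne hj] using this
    have hx0 : ∀ k, ∑ j, x j * B j k = 0 := by
      intro k
      have := congrArg (eval x) (hP k)
      simp only [map_sum, map_mul, eval_X, map_zero] at this
      rw [← this]
      refine Finset.sum_congr rfl fun j _ => ?_
      rw [mul_comm, ← hB, RingHom.mapMatrix_apply, Matrix.map_apply, ← transpose_apply P, hPt]
    have vi' : (B *ᵥ v) i = 0 := by
      have : ∑ j, x j * (B *ᵥ v) j = 0 := by
        simp only [mulVec, dotProduct, Finset.mul_sum]
        rw [Finset.sum_comm]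
        simp only [← mul_assoc, ← Finset.sum_mul, hx0, zero_mul, Finset.sum_const_zero]
      rw [Finset.sum_eq_single i (fun j _ hj => by rw [vj j hj, mul_zero]) (by simp), hi1,
        one_mul] at this
      exact this
    rcases h x hx v (by
      funext j
      by_cases hj : j = i
      · rw [hj]; exact vi'
      · exact vj j hj) with e | e
    · exact v0 e
    · rw [e, hi1] at vi; exact z10 vi
  have hom : (P.adjugate i0 i0).IsHomogeneous (Fintype.card σ - 1) := by
    rw [adjugate_apply, det_apply']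
    refine IsHomogeneous.sum _ _ _ fun π _ => ?_
    have e : ∑ c, (if π c = i0 then 0 else 1) = Fintype.card σ - 1 := by
      rw [Equiv.sum_comp π (fun c => if c = i0 then 0 else 1)]
      simp [Finset.sum_ite, Finset.filter_ne', Finset.card_univ]
    rw [← e, ← map_intCast (C : ZMod 2 →+* MvPolynomial σ (ZMod 2))]
    refine IsHomogeneous.C_mul (IsHomogeneous.prod _ _ _ fun c _ => ?_) _
    by_cases hc : π c = i0
    · rw [hc, updateRow_self, if_pos rfl, Pi.single_apply]
      split_ifs
      · exact isHomogeneous_one _ _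
      · exact isHomogeneous_zero _ _ _
    · rw [updateRow_ne hc, if_neg hc]
      refine IsHomogeneous.sum _ _ _ fun i _ => ?_
      rw [mul_comm]; exact isHomogeneous_C_mul_X _ _
  have q0 : eval 0 q = 0 := by
    have := hom.coeff_eq_zero (d := Finsupp.single i0 1 + (Finsupp.single i0 1 + 0)) (by
      simp; omega)
    rw [d3, coeff_X_mul, coeff_X_mul] at this
    simpa [eval_zero', constantCoeff_eq] using this
  have qn : q ≠ 0 := by
    intro h'
    exact ev (Pi.single i0 1) (by simp) (by simp [h'])
  have dq : q.totalDegree < Fintype.card σ := by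
    have h1 := hom.totalDegree_le
    have h2 := totalDegree_le_of_dvd_of_isDomain (f := q) (g := P.adjugate i0 i0)
      (by rw [d3]; exact Dvd.intro_left (X i0 * X i0) (by ring))
      (by rw [d3]; exact mul_ne_zero x0 (mul_ne_zero x0 qn))
    omega
  have := char_dvd_card_solutions 2 dq
  rw [Fintype.card_eq_one_iff.2 ⟨⟨0, q0⟩, fun ⟨x, hx⟩ => Subtype.ext (by
    by_contra h'; exact ev x h' hx)⟩] at this
  omega

theorem cross' {V : Type*} [AddCommGroup V] [Finite V] (h2 : ∀ v : V, v + v = 0)
    (τ : V → V → V → ZMod 2) (ad : ∀ x y u v, τ x y (u + v) = τ x y u + τ x y v)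
    (s1 : ∀ x y u, τ x y u = τ y x u) (s2 : ∀ x y u, τ x y u = τ x u y) (s3 : ∀ x y, τ x y x = 0)
    (hn : 8 < Nat.card V) (h : ∀ x v, x ≠ 0 → (∀ u, τ x v u = 0) → v = 0 ∨ v = x) : False := by
  classical
  letI : Module (ZMod 2) V := AddCommGroup.zmodModule (fun x => by rw [two_nsmul, h2])
  let b := Module.finBasis (ZMod 2) V
  have lin : ∀ x y (c : Fin (Module.finrank (ZMod 2) V) → ZMod 2),
      τ x y (∑ i, c i • b i) = ∑ i, c i * τ x y (b i) := by
    intro x y c
    let f : V →ₗ[ZMod 2] ZMod 2 := (AddMonoidHom.mk' (τ x y) (ad x y)).toZModLinearMap 2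
    have : f (∑ i, c i • b i) = ∑ i, c i * f (b i) := by simp only [map_sum, map_smul, smul_eq_mul]
    exact this
  have s4 : ∀ x y u, τ x y u = τ u y x := fun x y u => by rw [s1, s2, s1, s2, s1]
  refine cross (fun i j k => τ (b i) (b j) (b k)) (fun _ _ _ => s4 _ _ _) (fun _ _ _ => s2 _ _ _)
    (fun _ _ => s3 _ _) ?_ ?_
  · have := Module.natCard_eq_pow_finrank (K := ZMod 2) (V := V)
    rw [Nat.card_zmod] at this
    rw [Fintype.card_fin]
    by_contra hc
    have h3 : 2 ^ Module.finrank (ZMod 2) V ≤ 2 ^ 3 := Nat.pow_le_pow_right (by norm_num) (by omega)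
    omega
  · intro x hx v hv
    have e : ∀ c, ∑ i, c i • b i = b.equivFun.symm c := fun c => (b.equivFun_symm_apply c).symm
    have := h (∑ i, x i • b i) (∑ i, v i • b i) (by
      rw [e]; exact (map_ne_zero_iff _ b.equivFun.symm.injective).2 hx) (by
      intro u
      rw [← b.sum_repr u, lin]
      refine Finset.sum_eq_zero fun j _ => ?_
      have := congrFun hv j
      simp only [mulVec, dotProduct, Matrix.of_apply, Pi.zero_apply] at this
      rw [s2, lin]
      apply mul_eq_zero_of_right
      rw [← this]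
      refine Finset.sum_congr rfl fun k _ => ?_
      rw [s4, lin, mul_comm]
      congr 1
      exact Finset.sum_congr rfl fun i _ => by rw [s4])
    rw [e, e] at this
    rcases this with c | c
    · exact Or.inl ((map_eq_zero_iff _ b.equivFun.symm.injective).1 c)
    · exact Or.inr (b.equivFun.symm.injective c)

variable {V V' : Type*} [AddCommGroup V] [AddCommGroup V'] [Finite V] [Finite V']

namespace Geo
variable {s : Pg V V'} {G : Type*} [Group G] [DistribMulAction G V] [DistribMulAction G V']
  {X : Geo s G} (h : Hy s G)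
include h

theorem M_top {z y : V} (h1 : z = 0 ∨ y = 0 ∨ y = z) (u : V) : u ∈ X.M z y := by
  intro φ a
  have := X.nd a
  tauto

theorem a2 (hβ : 4 * X.a ≠ Nat.card V) : X.a ≠ 2 := by
  classical
  intro ha
  have key : ∀ x y, ∃ φ, ∀ u, (if u ∈ X.M x y then (0 : ZMod 2) else 1) = s.β u φ := by
    intro x y
    by_cases h1 : x = 0 ∨ y = 0 ∨ y = x
    · exact ⟨0, fun u => by simp [M_top h h1]⟩
    push Not at h1
    obtain ⟨φ, a⟩ := exSp (X := X) h h1.1 h1.2.1 h1.2.2
    have e : s.dual.sp1 φ = X.f x y := by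
      apply AddSubgroup.eq_of_le_of_card_ge
      · rintro _ (rfl | rfl)
        · exact zero_mem _
        · exact Sp.f h a
      · rw [card_f h h1.1 h1.2.1 h1.2.2, ha, s.dual.card_sp1 (X.nd a).2.2.2.1]
    refine ⟨φ, fun u => ?_⟩
    rw [← annf, ← e, s.dual.ann_sp1]
    rcases z01 (s.β u φ) with b | b <;> simp [b]
  have sy : ∀ x y u, u ∈ X.M x y → y ∈ X.M x u := by
    intro x y u hu
    by_cases h1 : y = 0
    · rw [h1]; exact zero_mem _
    by_cases h2 : y = x
    · rw [h2]; exact zM _ _
    exact M_symm h h1 h2 hu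
  refine cross' s.aa (fun x y u => if u ∈ X.M x y then 0 else 1) ?_ ?_ ?_ ?_ ?_ ?_
  · intro x y u v
    obtain ⟨φ, e⟩ := key x y
    simp only [e, s.addl]
  · intro x y u; simp only [M_comm h x y]
  · intro x y u; simp only [show u ∈ X.M x y ↔ y ∈ X.M x u from ⟨sy _ _ _, sy _ _ _⟩]
  · intro x y; simp [zM]
  · have := h.h8; omega
  · intro x v hx hv
    by_contra hc
    push Not at hc
    obtain ⟨φ, a⟩ := exSp (X := X) h hx hc.1 hc.2
    apply (X.nd a).2.2.2.1
    refine s.ndr φ fun u => ?_
    have := hv u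
    by_cases hu : u ∈ X.M x v
    · exact hu φ a
    · simp [hu] at this

end Geo

end H20.CK
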