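import Cfsg.Agent.H20.CK.B

/-! Normal spreads of rank at least three are Desarguesian. -/

set_option autoImplicit false
set_option linter.unusedSectionVars false

namespace H20.CK

theorem fieldlem {K : Type*} [Field K] [Finite K] (h2 : (1 : K) + 1 = 0)
    (h : ∀ a b : K, a ≠ 0 → a ≠ 1 → b ≠ 0 → b ≠ 1 → ∃ θ : K →+* K, θ a = b) : Nat.card K ≤ 4 := by
  obtain ⟨ζ, hζ⟩ := IsCyclic.exists_generator (α := Kˣ)
  have hc : Nat.card Kˣ = orderOf ζ := (orderOf_eq_card_of_forall_mem_zpowers hζ).symm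
  rw [Nat.card_units] at hc
  suffices ζ ^ 3 = 1 by
    have := Nat.le_of_dvd (by norm_num) (orderOf_dvd_of_pow_eq_one this)
    omega
  by_cases h1 : ζ = 1
  · simp [h1]
  have h1' : (ζ : K) ≠ 1 := fun h => h1 (Units.ext h)
  obtain ⟨θ, hθ⟩ := h ζ (ζ : K)⁻¹ ζ.ne_zero h1' (inv_ne_zero ζ.ne_zero) (by simpa using h1)
  have h3 : (ζ : K) + 1 ≠ 0 := by
    intro h'
    apply h1'
    linear_combination h' - h2
  obtain ⟨n, hn⟩ := hζ (Units.mk0 _ h3)
  have h4 : (ζ : K) ^ n = ζ + 1 := by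
    have := congrArg Units.val hn
    simpa using this
  have h5 : θ ((ζ : K) + 1) = ((ζ : K) + 1)⁻¹ := by rw [← h4, map_zpow₀, hθ, inv_zpow]
  rw [map_add, map_one, hθ] at h5
  have z0 := ζ.ne_zero
  field_simp at h5
  apply Units.ext
  simp only [Units.val_pow_eq_pow_val, Units.val_one]
  linear_combination ((ζ : K) + 1) * h5 - ((ζ : K) ^ 2 + ζ + 1) * h2

structure Spr {A : Type*} [AddCommGroup A] (U : AddSubgroup A) (b : A → AddSubgroup A) (q : ℕ) :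
    Prop where
  h2 : ∀ v : A, v + v = 0
  b1 : ∀ u ∈ U, u ∈ b u
  bU : ∀ u ∈ U, u ≠ 0 → b u ≤ U
  b2 : ∀ u ∈ U, u ≠ 0 → ∀ v ∈ b u, v ≠ 0 → b v = b u
  hc : ∀ u ∈ U, u ≠ 0 → Nat.card (b u) = q
  hs : ∀ u ∈ U, u ≠ 0 → ∀ v ∈ U, v ≠ 0 → ∀ w ∈ b u ⊔ b v, w ≠ 0 → b w ≤ b u ⊔ b v
  hU : q * q < Nat.card U

namespace Spr
variable {A : Type*} [AddCommGroup A] [Finite A] {U : AddSubgroup A} {b : A → AddSubgroup A} {q : ℕ}
  (S : Spr U b q)
include S

theorem aac (u v : A) : u + (u + v) = v := by rw [← add_assoc, S.h2, zero_add]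
theorem acc (u v : A) : u + v + v = u := by rw [add_assoc, S.h2, add_zero]
theorem az {u v : A} (h : u + v = 0) : u = v := by rw [← S.acc u v, h, zero_add]

theorem dis {u v t : A} (hu : u ∈ U) (u0 : u ≠ 0) (hv : v ∈ U) (h : v ∉ b u) (h1 : t ∈ b u)
    (h2 : t ∈ b v) : t = 0 := by
  by_contra h0
  have v0 : v ≠ 0 := by rintro rfl; exact h (zero_mem _)
  apply h
  rw [← S.b2 u hu u0 t h1 h0, S.b2 v hv v0 t h2 h0]
  exact S.b1 v hv

theorem csup {u v : A} (hu : u ∈ U) (u0 : u ≠ 0) (hv : v ∈ U) (h : v ∉ b u) :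
    Nat.card (b u ⊔ b v : AddSubgroup A) = q * q := by
  have v0 : v ≠ 0 := by rintro rfl; exact h (zero_mem _)
  have := card_sup_inf (b u) (b v)
  rwa [show b u ⊓ b v = ⊥ from eq_bot_iff.2 fun t ht => S.dis hu u0 hv h ht.1 ht.2,
    AddSubgroup.card_bot, mul_one, S.hc u hu u0, S.hc v hv v0] at this

theorem sum {u v : A} (hu : u ∈ U) (u0 : u ≠ 0) (hv : v ∈ U) (h : v ∉ b u) :
    b u ⊔ b (u + v) = b u ⊔ b v := by
  have v0 : v ≠ 0 := by rintro rfl; exact h (zero_mem _)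
  have h1 : u + v ∉ b u := fun h' => h (by simpa [S.aac] using add_mem (S.b1 u hu) h')
  apply AddSubgroup.eq_of_le_of_card_ge
  · refine sup_le le_sup_left (S.hs u hu u0 v hv v0 _
      (AddSubgroup.add_mem_sup (S.b1 u hu) (S.b1 v hv)) ?_)
    intro h'; exact h1 (h' ▸ zero_mem _)
  · rw [S.csup hu u0 hv h, S.csup hu u0 (add_mem hu hv) h1]

variable {x e : A} (hx : x ∈ U) (x0 : x ≠ 0) (he : e ∈ U) (hex : e ∉ b x)
include hx x0 he hex

theorem e0 : e ≠ 0 := by rintro rfl; exact hex (zero_mem _)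

theorem WU : b x ⊔ b e ≤ U := sup_le (S.bU x hx x0) (S.bU e he (S.e0 hx x0 he hex))

theorem bW {w : A} (hw : w ∈ b x ⊔ b e) (w0 : w ≠ 0) : b w ≤ b x ⊔ b e :=
  S.hs x hx x0 e he (S.e0 hx x0 he hex) w hw w0

theorem out {u : A} (hu : u ∈ U) (u0 : u ≠ 0) : ∃ w ∈ b x ⊔ b e, w ∉ b u := by
  by_cases h : x ∈ b u
  · refine ⟨e, AddSubgroup.mem_sup_right (S.b1 e he), fun h' => hex ?_⟩
    rw [S.b2 u hu u0 x h x0]; exact h'
  · exact ⟨x, AddSubgroup.mem_sup_left (S.b1 x hx), h⟩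

theorem disW {c t : A} (hc : c ∈ U) (hc' : c ∉ b x ⊔ b e) (h1 : t ∈ b c) (h2 : t ∈ b x ⊔ b e) :
    t = 0 := by
  by_contra h0
  have c0 : c ≠ 0 := by rintro rfl; exact hc' (zero_mem _)
  apply hc'
  apply S.bW hx x0 he hex h2 h0
  rw [S.b2 c hc c0 t h1 h0]; exact S.b1 c hc

theorem des {y : A} (hy : y ∈ b e) : ∃ k : AddMonoid.End (b x ⊔ b e : AddSubgroup A),
    (∀ u : (b x ⊔ b e : AddSubgroup A), (k u : A) ∈ b u) ∧ (k ⟨e, AddSubgroup.mem_sup_right (S.b1 e he)⟩ : A) = y := by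
  have e0 := S.e0 hx x0 he hex
  have WU := S.WU hx x0 he hex
  obtain ⟨c, hc, hc'⟩ := exn (A := b x ⊔ b e) (B := U) (by rw [S.csup hx x0 he hex]; exact S.hU)
  have c0 : c ≠ 0 := by rintro rfl; exact hc' (zero_mem _)
  have eW : e ∈ b x ⊔ b e := AddSubgroup.mem_sup_right (S.b1 e he)
  have nW : ∀ u ∈ b x ⊔ b e, u + c ∉ b x ⊔ b e := fun u hu h' =>
    hc' (by simpa [S.aac] using add_mem hu h')
  obtain ⟨d, hd, hd'⟩ : ∃ d ∈ b c, y + d ∈ b (e + c) := by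
    have h1 : y ∈ b c ⊔ b (c + e) := by
      rw [S.sum hc c0 he fun h' => e0 (S.disW hx x0 he hex hc hc' h' eW)]
      exact AddSubgroup.mem_sup_right hy
    obtain ⟨d, hd, t, ht, rfl⟩ := AddSubgroup.mem_sup.1 h1
    exact ⟨d, hd, by rw [add_comm (d + t), S.aac, add_comm e]; exact ht⟩
  have ex : ∀ u : (b x ⊔ b e : AddSubgroup A), ∃ u' : (b x ⊔ b e : AddSubgroup A),
      (u' : A) ∈ b u ∧ u' + d ∈ b (u + c) := by
    intro u
    by_cases u0 : (u : A) = 0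
    · exact ⟨0, zero_mem _, by simpa [u0] using hd⟩
    have h1 : d ∈ b u ⊔ b (u + c) := by
      rw [S.sum (WU u.2) u0 hc fun h' => hc' (S.bW hx x0 he hex u.2 u0 h')]
      exact AddSubgroup.mem_sup_right hd
    obtain ⟨u', hu', t, ht, rfl⟩ := AddSubgroup.mem_sup.1 h1
    exact ⟨⟨u', S.bW hx x0 he hex u.2 u0 hu'⟩, hu', by rw [S.aac]; exact ht⟩
  choose k hk1 hk2 using ex
  have un : ∀ (u : (b x ⊔ b e : AddSubgroup A)) (t : A), t ∈ b x ⊔ b e → t + d ∈ b (u + c) →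
      (k u : A) = t := by
    intro u t ht h1
    apply S.az
    refine S.disW hx x0 he hex (add_mem (WU u.2) hc) (nW u u.2) ?_ (add_mem (k u).2 ht)
    have := add_mem (hk2 u) h1
    rwa [add_add_add_comm, S.h2, add_zero] at this
  have k0 : k 0 = 0 := Subtype.ext (un 0 0 (zero_mem _) (by simpa using hd))
  have half : ∀ u v : (b x ⊔ b e : AddSubgroup A), (u : A) ≠ 0 → (k (u + v) : A) + k v ∈ b u := by
    intro u v u0
    have hv : (v : A) + c ∈ U := add_mem (WU v.2) hc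
    have v0 : (v : A) + c ≠ 0 := fun h' => nW v v.2 (h' ▸ zero_mem _)
    have h1 := S.hs u (WU u.2) u0 _ hv v0 ((u + v : (b x ⊔ b e : AddSubgroup A)) + c) (by
      rw [AddSubgroup.coe_add, add_assoc]
      exact AddSubgroup.add_mem_sup (S.b1 u (WU u.2)) (S.b1 _ hv))
      (fun h' => nW _ (u + v).2 (h' ▸ zero_mem _)) (hk2 (u + v))
    obtain ⟨t, ht, r, hr, h2⟩ := AddSubgroup.mem_sup.1 h1
    have h3 := un v (t + k (u + v)) (add_mem (S.bW hx x0 he hex u.2 u0 ht) (k _).2)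
      (by rw [add_assoc, ← h2, S.aac]; exact hr)
    rw [h3, add_comm t, S.aac]; exact ht
  have ad1 : ∀ u v : (b x ⊔ b e : AddSubgroup A), (u : A) ≠ 0 → (v : A) ∉ b u →
      k (u + v) = k u + k v := by
    intro u v u0 huv
    have v0 : (v : A) ≠ 0 := fun h' => huv (h' ▸ zero_mem _)
    have h1 := add_mem (half u v u0) (hk1 u)
    have h2 := add_mem (half v u v0) (hk1 v)
    rw [add_comm v u, add_right_comm] at h2
    have h3 := S.dis (WU u.2) u0 (WU v.2) huv h1 h2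
    rw [add_assoc] at h3
    apply Subtype.ext
    rw [S.az h3, add_comm]; rfl
  have ad : ∀ u v, k (u + v) = k u + k v := by
    intro u v
    by_cases u0 : (u : A) = 0
    · have : u = 0 := Subtype.ext u0
      simp [this, k0]
    by_cases huv : (v : A) ∈ b u
    swap
    · exact ad1 u v u0 huv
    by_cases v0 : (v : A) = 0
    · have : v = 0 := Subtype.ext v0
      simp [this, k0]
    have h2 : ∀ w : (b x ⊔ b e : AddSubgroup A), w + w = 0 := fun w => Subtype.ext (S.h2 w)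
    by_cases huv' : u = v
    · rw [huv', h2, h2, k0]
    obtain ⟨w, hw, hw'⟩ := S.out hx x0 he hex (WU u.2) u0
    have h3 : (u : A) + w ∉ b u := fun h' => hw' (by simpa [S.aac] using add_mem (S.b1 u (WU u.2)) h')
    have h4 : u + v = (u + ⟨w, hw⟩) + (v + ⟨w, hw⟩) := by rw [add_add_add_comm, h2, add_zero]
    rw [h4, ad1 _ _ (fun h' => h3 (by
      rw [AddSubgroup.coe_add] at h'; rw [h']; exact zero_mem _)), ad1 u _ u0 hw',
      ad1 v _ v0 (by rw [S.b2 u (WU u.2) u0 v huv v0]; exact hw'), add_add_add_comm, h2, add_zero]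
    intro h5
    apply huv'
    apply Subtype.ext
    apply S.az
    refine S.dis (WU u.2) u0 (add_mem (WU u.2) (WU hw)) h3 (add_mem (S.b1 u (WU u.2)) huv) ?_
    have := add_mem (S.b1 _ (add_mem (WU u.2) (WU hw))) h5
    rwa [AddSubgroup.coe_add, add_add_add_comm, S.h2, add_zero] at this
  exact ⟨AddMonoidHom.mk' k ad, hk1, un _ y (AddSubgroup.mem_sup_right hy) hd'⟩

def K : Subring (AddMonoid.End (b x ⊔ b e : AddSubgroup A)) where
  carrier := {k | ∀ u : (b x ⊔ b e : AddSubgroup A), (k u : A) ∈ b u}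
  zero_mem' u := zero_mem _
  one_mem' u := S.b1 u (S.WU hx x0 he hex u.2)
  add_mem' h1 h2 u := add_mem (h1 u) (h2 u)
  neg_mem' h u := neg_mem (h u)
  mul_mem' {k l} h1 h2 u := by
    show (k (l u) : A) ∈ b u
    by_cases h : l u = 0
    · rw [h, map_zero]; exact zero_mem _
    have u0 : (u : A) ≠ 0 := fun h' => h (by rw [show u = 0 from Subtype.ext h', map_zero])
    rw [← S.b2 u (S.WU hx x0 he hex u.2) u0 _ (h2 u) fun h' => h (Subtype.ext h')]
    exact h1 _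

theorem inj {k : AddMonoid.End (b x ⊔ b e : AddSubgroup A)} (hk : k ∈ S.K hx x0 he hex)
    {u : (b x ⊔ b e : AddSubgroup A)} (u0 : (u : A) ≠ 0) (h : k u = 0) : k = 0 := by
  have WU := S.WU hx x0 he hex
  have key : ∀ v : (b x ⊔ b e : AddSubgroup A), (v : A) ∉ b u → k v = 0 := by
    intro v hv
    have v0 : (v : A) ≠ 0 := fun h' => hv (h' ▸ zero_mem _)
    apply Subtype.ext
    refine S.dis (WU v.2) v0 (WU (u + v).2) (fun h' => hv ?_) (hk v) ?_
    · have h1 : (u : A) ∈ b v := by simpa [S.acc] using add_mem h' (S.b1 v (WU v.2))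
      rw [S.b2 v (WU v.2) v0 u h1 u0]; exact S.b1 v (WU v.2)
    · have := hk (u + v)
      rwa [map_add, h, zero_add] at this
  refine DFunLike.ext _ _ fun v => ?_
  by_cases hv : (v : A) ∈ b u
  swap
  · exact key v hv
  obtain ⟨w, hw, hw'⟩ := S.out hx x0 he hex (WU u.2) u0
  have := key (v + ⟨w, hw⟩) fun h' => hw' (by simpa [S.aac] using add_mem hv h')
  rwa [map_add, key ⟨w, hw⟩ hw', add_zero] at this

theorem main {G : Type*} [Group G] [DistribMulAction G A] (H : Subgroup G)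
    (g1 : ∀ g ∈ H, g • e = e) (g2 : ∀ g ∈ H, g • x ∈ b x)
    (g3 : ∀ g ∈ H, ∀ u ∈ U, u ≠ 0 → ∀ v ∈ b u, g • v ∈ b (g • u))
    (g4 : ∀ y ∈ b e, y ≠ 0 → y ≠ e → ∀ y' ∈ b e, y' ≠ 0 → y' ≠ e → ∃ g ∈ H, g • y = y') :
    q ≤ 4 := by
  have e0 := S.e0 hx x0 he hex
  have WU := S.WU hx x0 he hex
  let e' : (b x ⊔ b e : AddSubgroup A) := ⟨e, AddSubgroup.mem_sup_right (S.b1 e he)⟩
  have ev : ∀ k l : S.K hx x0 he hex, (k.1 e' : A) = l.1 e' → k = l := by
    intro k l h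
    rw [← sub_eq_zero]
    apply Subtype.ext
    refine S.inj hx x0 he hex (k - l).2 (u := e') e0 (Subtype.ext ?_)
    show (k.1 e' : A) - l.1 e' = 0
    rw [h, sub_self]
  have : Nontrivial (S.K hx x0 he hex) := ⟨1, 0, fun h => e0 (congrArg (fun k => (k.1 e' : A)) h)⟩
  have : NoZeroDivisors (S.K hx x0 he hex) := ⟨fun {k l} h => by
    by_cases hl : l = 0
    · exact Or.inr hl
    left
    apply Subtype.ext
    refine S.inj hx x0 he hex k.2 (u := l.1 e') (fun h' => hl (ev l 0 h')) ?_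
    exact congrArg (fun k => k.1 e') h⟩
  have : IsDomain (S.K hx x0 he hex) := NoZeroDivisors.to_isDomain _
  have : Finite (AddMonoid.End (b x ⊔ b e : AddSubgroup A)) := DFunLike.finite _
  letI := (Finite.isDomain_to_isField (S.K hx x0 he hex)).toField
  have gW : ∀ g ∈ H, ∀ w ∈ b x ⊔ b e, g • w ∈ b x ⊔ b e := by
    intro g hg w hw
    obtain ⟨p, hp, r, hr, rfl⟩ := AddSubgroup.mem_sup.1 hw
    rw [smul_add]
    refine AddSubgroup.add_mem_sup ?_ ?_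
    · rw [← S.b2 x hx x0 _ (g2 g hg) (by simpa using x0)]; exact g3 g hg x hx x0 p hp
    · have := g3 g hg e he e0 r hr
      rwa [g1 g hg] at this
  let ρ : ∀ g ∈ H, AddMonoid.End (b x ⊔ b e : AddSubgroup A) := fun g hg =>
    AddMonoidHom.mk' (fun u => ⟨g • (u : A), gW g hg u u.2⟩) fun u v => Subtype.ext (smul_add _ _ _)
  have hρ : ∀ g hg u, (ρ g hg u : A) = g • (u : A) := fun _ _ _ => rfl
  have hK : Nat.card (S.K hx x0 he hex) ≤ 4 := by
    refine fieldlem (ev _ _ (S.h2 e)) fun a c a0 a1 c0 c1 => ?_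
    obtain ⟨g, hg, hg'⟩ := g4 _ (a.2 e') (fun h => a0 (ev a 0 h)) (fun h => a1 (ev a 1 h))
      _ (c.2 e') (fun h => c0 (ev c 0 h)) (fun h => c1 (ev c 1 h))
    have i1 : ρ g⁻¹ (H.inv_mem hg) * ρ g hg = 1 :=
      DFunLike.ext _ _ fun u : (b x ⊔ b e : AddSubgroup A) => Subtype.ext (inv_smul_smul g (u : A))
    have i2 : ρ g hg * ρ g⁻¹ (H.inv_mem hg) = 1 :=
      DFunLike.ext _ _ fun u : (b x ⊔ b e : AddSubgroup A) => Subtype.ext (smul_inv_smul g (u : A))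
    refine ⟨{ toFun := fun k => ⟨ρ g hg * k.1 * ρ g⁻¹ (H.inv_mem hg), fun u => ?_⟩
              map_one' := Subtype.ext ?_
              map_mul' := fun k l => Subtype.ext ?_
              map_zero' := Subtype.ext ?_
              map_add' := fun k l => Subtype.ext ?_ }, ev _ _ ?_⟩
    · show g • (k.1 (ρ g⁻¹ (H.inv_mem hg) u) : A) ∈ b u
      by_cases u0 : (u : A) = 0
      · rw [show u = 0 from Subtype.ext u0]; simp
      have := g3 g hg _ (WU (ρ g⁻¹ (H.inv_mem hg) u).2) (by simpa [hρ] using u0) _ (k.2 _)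
      rwa [hρ g⁻¹ (H.inv_mem hg), smul_inv_smul] at this
    · show ρ g hg * 1 * ρ g⁻¹ (H.inv_mem hg) = 1
      rw [mul_one, i2]
    · show ρ g hg * (k.1 * l.1) * ρ g⁻¹ (H.inv_mem hg) = ρ g hg * k.1 * ρ g⁻¹ (H.inv_mem hg) * (ρ g hg * l.1 * ρ g⁻¹ (H.inv_mem hg))
      simp only [mul_assoc]
      rw [← mul_assoc (ρ g⁻¹ (H.inv_mem hg)) (ρ g hg), i1, one_mul]
    · show ρ g hg * 0 * ρ g⁻¹ (H.inv_mem hg) = 0
      simp
    · show ρ g hg * (k.1 + l.1) * ρ g⁻¹ (H.inv_mem hg) = ρ g hg * k.1 * ρ g⁻¹ (H.inv_mem hg) + ρ g hg * l.1 * ρ g⁻¹ (H.inv_mem hg)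
      rw [mul_add, add_mul]
    · show g • (a.1 (ρ g⁻¹ (H.inv_mem hg) e') : A) = c.1 e'
      rw [show ρ g⁻¹ (H.inv_mem hg) e' = e' from Subtype.ext (g1 _ (H.inv_mem hg)), hg']
  refine le_trans ((S.hc e he e0).ge.trans ?_) hK
  refine Nat.card_le_card_of_surjective (fun k : S.K hx x0 he hex => (⟨k.1 e', k.2 e'⟩ : b e)) ?_
  rintro ⟨y, hy⟩
  obtain ⟨k, k1, k2⟩ := S.des hx x0 he hex hy
  exact ⟨⟨k, k1⟩, Subtype.ext k2⟩

end Spr

end H20.CK
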