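import Cfsg.Agent.H20.CK.E
import Cfsg.Agent.H20.CK.G

/-! The block case. -/

set_option autoImplicit false
set_option linter.unusedSectionVars false

namespace H20.CK
open MulAction

variable {V V' : Type*} [AddCommGroup V] [AddCommGroup V'] [Finite V] [Finite V']

theorem meet {A B D : AddSubgroup V} {a : ℕ} (ha : 4 ≤ a) (hA : Nat.card A = a) (hB : Nat.card B = a)
    (hD : Nat.card D = 2 * a) (h1 : A ≤ D) (h2 : B ≤ D) : ∃ x ∈ A ⊓ B, x ≠ 0 := by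
  have e := card_sup_inf A B
  have := AddSubgroup.card_le_of_le (sup_le h1 h2)
  obtain ⟨x, hx, h0⟩ := exn (A := ⊥) (B := A ⊓ B) (by
    rw [AddSubgroup.card_bot]
    by_contra hc
    have : Nat.card (A ⊓ B : AddSubgroup V) ≤ 1 := by omega
    rw [hA, hB] at e
    nlinarith)
  exact ⟨x, hx, by simpa using h0⟩

namespace Geo
variable {s : Pg V V'} {G : Type*} [Group G] [DistribMulAction G V] [DistribMulAction G V']
  {X : Geo s G} {Y : Geo s.dual G}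

variable (X) in
def P (z y : V) : AddSubgroup V := AddSubgroup.closure {u | ∃ χ, X.Sp z y χ ∧ u ∈ X.R z χ}

theorem f_bot (h : Hy s G) {z y : V} (h1 : y = 0 ∨ y = z) : X.f z y = ⊥ := by
  rw [eq_bot_iff]
  intro φ hφ
  rcases (mem_f h).1 hφ with e | a
  · exact e
  · have := X.nd a; tauto

theorem f_sh (h : Hy s G) (z y : V) : X.f z (z + y) = X.f z y := by
  ext φ
  simp only [mem_f h, add_comm z]
  exact or_congr_right ⟨fun a => by simpa [s.acc] using X.sh a, X.sh⟩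

structure Blk (X : Geo s G) (Y : Geo s.dual G) : Prop where
  h : Hy s G
  k : K0 X Y
  hB : ∀ φ ψ z, Y.Sp φ ψ z → Y.R φ z = Y.R ψ z

namespace Blk
variable (B : Blk X Y)
include B

theorem D_eq {z : V} {ψ χ : V'} (hz : z ≠ 0) (hψ : ψ ≠ 0) (h1 : s.β z ψ = 0) (hχ : χ ∈ Y.R ψ z)
    (h0 : χ ≠ 0) : Y.R χ z = Y.R ψ z := by
  rcases (mem_R B.h.dual hψ hz h1).1 hχ with e | e | e
  · exact absurd e h0
  · rw [e]
  · exact (B.hB _ _ _ e).symm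

theorem card_D {z : V} {ψ : V'} (hz : z ≠ 0) (hψ : ψ ≠ 0) (h1 : s.β z ψ = 0) :
    Nat.card (Y.R ψ z) = 2 * X.a := by rw [card_R B.h.dual hψ hz h1, B.k.ab]

theorem fle {z u : V} {ψ χ : V'} (hz : z ≠ 0) (hψ : ψ ≠ 0) (h1 : s.β z ψ = 0) (hχ : χ ∈ Y.R ψ z)
    (h0 : χ ≠ 0) (hu : u ∈ X.R z χ) : X.f z u ≤ Y.R ψ z := by
  rcases (mem_R B.h hz h0 (R_ker B.h.dual h1 hχ)).1 hu with e | e | e
  · rw [f_bot B.h (Or.inl e)]; exact bot_le
  · rw [f_bot B.h (Or.inr e)]; exact bot_le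
  · rw [← B.D_eq hz hψ h1 hχ h0]; exact B.k.K1 e

theorem mt {z u v : V} {ψ : V'} (hz : z ≠ 0) (hψ : ψ ≠ 0) (h1 : s.β z ψ = 0) (u0 : u ≠ 0)
    (uz : u ≠ z) (v0 : v ≠ 0) (vz : v ≠ z) (hu : X.f z u ≤ Y.R ψ z) (hv : X.f z v ≤ Y.R ψ z) :
    ∃ χ, X.Sp z u χ ∧ X.Sp z v χ := by
  obtain ⟨χ, a, b⟩ := meet B.k.a4 (card_f B.h hz u0 uz) (card_f B.h hz v0 vz) (B.card_D hz hψ h1)
    hu hv
  exact ⟨χ, of_f B.h a.1 b, of_f B.h a.2 b⟩

theorem mem_P {z y u : V} {ψ : V'} (a : X.Sp z y ψ) : u ∈ X.P z y ↔ X.f z u ≤ Y.R ψ z := by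
  obtain ⟨hz, hy, hyz, hψ, h1, -⟩ := X.nd a
  constructor
  · intro hu
    refine (AddSubgroup.closure_le (s.mk' {u | X.f z u ≤ Y.R ψ z}
      (by show X.f z 0 ≤ _; rw [f_bot B.h (Or.inl rfl)]; exact bot_le) ?_)).2 ?_ hu
    · intro u hu v hv
      show X.f z (u + v) ≤ _
      by_cases u0 : u = 0
      · rwa [u0, zero_add]
      by_cases uz : u = z
      · rwa [uz, f_sh B.h]
      by_cases v0 : v = 0
      · rwa [v0, add_zero]
      by_cases vz : v = z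
      · rwa [vz, add_comm, f_sh B.h]
      obtain ⟨χ, b, c⟩ := B.mt hz hψ h1 u0 uz v0 vz hu hv
      exact B.fle hz hψ h1 (hu (Sp.f B.h b)) (X.nd b).2.2.2.1 (add_mem (Sp.R b) (Sp.R c))
    · rintro u ⟨χ, b, c⟩
      exact B.fle hz hψ h1 (B.k.K1 a (Sp.f B.h b)) (X.nd b).2.2.2.1 c
  · intro hu
    apply AddSubgroup.subset_closure
    by_cases u0 : u = 0
    · exact ⟨ψ, a, u0 ▸ zero_mem _⟩
    by_cases uz : u = z
    · exact ⟨ψ, a, uz ▸ zR _ _⟩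
    obtain ⟨χ, b, c⟩ := B.mt hz hψ h1 hy hyz u0 uz (B.k.K1 a) hu
    exact ⟨χ, b, Sp.R c⟩

omit B in
theorem R_le_P {z y : V} {ψ : V'} (a : X.Sp z y ψ) : X.R z ψ ≤ X.P z y :=
  fun _ hu => AddSubgroup.subset_closure ⟨ψ, a, hu⟩

theorem P_inv (g : G) {z y u : V} (hu : u ∈ X.P z y) : g • u ∈ X.P (g • z) (g • y) := by
  induction hu using AddSubgroup.closure_induction with
  | mem u hu =>
    obtain ⟨χ, a, b⟩ := hu
    exact R_le_P (X.inv g a) ((R_inv B.h g).1 b)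
  | zero => rw [smul_zero]; exact zero_mem _
  | add u v _ _ h1 h2 => rw [smul_add]; exact add_mem h1 h2
  | neg u _ h1 => rw [smul_neg]; exact neg_mem h1

theorem P_eq {z y u : V} (hz : z ≠ 0) (hy : y ≠ 0) (hyz : y ≠ z) (hu : u ∈ X.P z y) (u0 : u ≠ 0)
    (uz : u ≠ z) : X.P z u = X.P z y := by
  obtain ⟨ψ, a⟩ := exSp (X := X) B.h hz hy hyz
  obtain ⟨χ, b⟩ := exSp (X := X) B.h hz u0 uz
  obtain ⟨-, -, -, hψ, h1, -⟩ := X.nd a
  ext v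
  rw [B.mem_P a, B.mem_P b, B.D_eq hz hψ h1 ((B.mem_P a).1 hu (Sp.f B.h b)) (X.nd b).2.2.2.1]

theorem sp2P {z y : V} (hz : z ≠ 0) (hy : y ≠ 0) (hyz : y ≠ z) : s.sp2 z y ≤ X.P z y := by
  obtain ⟨ψ, a⟩ := exSp (X := X) B.h hz hy hyz
  have p1 := R_le_P a (zR z ψ)
  have p2 := R_le_P a (Sp.R a)
  rintro _ (rfl | rfl | rfl | rfl)
  · exact zero_mem _
  · exact p1
  · exact p2
  · exact add_mem p1 p2

theorem zP {z y : V} (hz : z ≠ 0) (hy : y ≠ 0) (hyz : y ≠ z) : z ∈ X.P z y :=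
  B.sp2P hz hy hyz (by simp [Pg.mem_sp2])

theorem yP {z y : V} (hz : z ≠ 0) (hy : y ≠ 0) (hyz : y ≠ z) : y ∈ X.P z y :=
  B.sp2P hz hy hyz (by simp [Pg.mem_sp2])

theorem P_comm {z y : V} (hz : z ≠ 0) (hy : y ≠ 0) (hyz : y ≠ z) : X.P z y = X.P y z := by
  have key : ∀ {z y : V}, z ≠ 0 → y ≠ 0 → y ≠ z → X.P z y ≤ X.P y z := by
    intro z y hz hy hyz u hu
    by_cases h : u ∈ s.sp2 z y
    · apply B.sp2P hy hz hyz.symm
      simp only [Pg.mem_sp2, add_comm y] at h ⊢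
      tauto
    obtain ⟨g, g1, g2, g3⟩ := B.h.swap hz hy hyz h
    have := B.P_inv g hu
    rwa [g1, g2, g3] at this
  exact le_antisymm (key hz hy hyz) (key hy hz hyz.symm)

theorem card_P {z y : V} (hz : z ≠ 0) (hy : y ≠ 0) (hyz : y ≠ z) :
    Nat.card (X.P z y) = 4 * X.a := by
  obtain ⟨ψ, a⟩ := exSp (X := X) B.h hz hy hyz
  obtain ⟨-, -, -, hψ, h1, -⟩ := X.nd a
  have hsp : s.sp1 z ≤ X.P z y := by
    rintro _ (rfl | rfl)
    · exact zero_mem _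
    · exact B.zP hz hy hyz
  have e := dc {u | u ∈ X.P z y ∧ u ∉ s.sp1 z} {χ | χ ∈ Y.R ψ z ∧ χ ∉ (⊥ : AddSubgroup V')}
    (fun u χ => X.Sp z u χ) (m := X.a - 1) (n := 2 * X.a - 2) (by
      rintro u ⟨b, c⟩
      simp only [Pg.mem_sp1, not_or] at c
      rw [← ncard_Sp B.h hz c.1 c.2]
      congr 1; ext χ
      simp only [Set.mem_ofPred_eq, AddSubgroup.mem_bot]
      exact ⟨fun d => d.2, fun d => ⟨⟨(B.mem_P a).1 b (Sp.f B.h d), (X.nd d).2.2.2.1⟩, d⟩⟩) (by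
      rintro χ ⟨b, c⟩
      rw [AddSubgroup.mem_bot] at c
      have h2 : s.β z χ = 0 := R_ker B.h.dual h1 b
      rw [← card_R B.h hz c h2, ← ncard_Sp' B.h hz c h2]
      congr 1; ext u
      simp only [Set.mem_ofPred_eq, Pg.mem_sp1, not_or]
      exact ⟨fun d => d.2, fun d => ⟨⟨(B.mem_P a).2 (B.fle hz hψ h1 b c (Sp.R d)), (X.nd d).2.1,
        (X.nd d).2.2.1⟩, d⟩⟩)
  rw [ncard_diff hsp, ncard_diff bot_le, s.card_sp1 hz, AddSubgroup.card_bot,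
    B.card_D hz hψ h1] at e
  have a4 := B.k.a4
  have h2 := AddSubgroup.card_le_of_le hsp
  rw [s.card_sp1 hz] at h2
  have : Nat.card (X.P z y) - 2 = (2 * X.a - 1) * 2 := by
    apply Nat.eq_of_mul_eq_mul_right (show 0 < X.a - 1 by omega)
    rw [e, mul_assoc]; congr 1; omega
  omega

theorem P_le_T {z y : V} {ψ : V'} (a : X.Sp z y ψ) : X.P z y ≤ Y.T z ψ := by
  obtain ⟨hz, -, -, hψ, h1, -⟩ := X.nd a
  rw [P, AddSubgroup.closure_le]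
  rintro u ⟨χ, b, c⟩
  have := B.k.RT hz (X.nd b).2.2.2.1 (X.nd b).2.2.2.2.1 c
  rwa [T, B.D_eq hz hψ h1 (B.k.K1 a (Sp.f B.h b)) (X.nd b).2.2.2.1] at this

omit B in
theorem T_le_M {z y : V} {ψ : V'} (a : X.f z y ≤ Y.R ψ z) : Y.T z ψ ≤ X.M z y := by
  rw [← annf]; exact fun u hu φ hφ => hu φ (a hφ)

theorem B2 {z u : V} {ψ : V'} (hz : z ≠ 0) (hψ : ψ ≠ 0) (h1 : s.β z ψ = 0) (hu : u ∈ Y.T z ψ)
    (u0 : u ≠ 0) (uz : u ≠ z) : X.P z u ≤ Y.T z ψ := by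
  obtain ⟨y, a⟩ := exSp' (X := X) B.h hz hψ h1
  obtain ⟨χ, b⟩ := exSp (X := X) B.h hz u0 uz
  obtain ⟨-, hy, hyz, -⟩ := X.nd a
  obtain ⟨-, -, -, hχ, h2, -⟩ := X.nd b
  have a4 := B.k.a4
  have e1 : X.P z y ≤ X.M z u := by
    intro v hv
    by_cases v0 : v = 0
    · rw [v0]; exact zero_mem _
    by_cases vz : v = z
    · rw [vz]; exact zM _ _
    exact M_symm B.h v0 vz (T_le_M ((B.mem_P a).1 hv) hu)
  have e2 : 8 ≤ Nat.card (X.P z y ⊓ Y.T z χ : AddSubgroup V) := by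
    have c1 := card_sup_inf (X.P z y) (Y.T z χ)
    have c2 := AddSubgroup.card_le_of_le (sup_le e1 (T_le_M (B.k.K1 b)))
    have c3 := card_M (X := X) B.h hz u0 uz
    have c4 := card_T (Y := Y) B.h hz hχ h2
    rw [← B.k.ab, ← c3, mul_comm 2, mul_assoc] at c4
    have c5 := Nat.eq_of_mul_eq_mul_left (by omega) c4
    rw [B.card_P hz hy hyz] at c1
    have T0 : 0 < Nat.card (Y.T z χ) := Nat.card_pos
    by_contra hc
    have : Nat.card (X.P z y ⊓ Y.T z χ : AddSubgroup V) ≤ 7 := by omega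
    nlinarith [Nat.mul_le_mul c2 this]
  obtain ⟨y1, p1, q1⟩ := exn (A := s.sp1 z) (B := X.P z y ⊓ Y.T z χ) (by rw [s.card_sp1 hz]; omega)
  simp only [Pg.mem_sp1, not_or] at q1
  obtain ⟨y2, p2, q2⟩ := exn (A := s.sp2 z y1) (B := X.P z y ⊓ Y.T z χ)
    (by rw [s.card_sp2 hz q1.1 q1.2]; omega)
  simp only [Pg.mem_sp2, not_or] at q2
  have l1 := (B.mem_P a).1 p1.1
  have l2 := (B.mem_P a).1 p2.1
  have e3 : X.f z y1 ⊔ X.f z y2 = Y.R ψ z := by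
    refine (idx2 le_sup_left (sup_le l1 l2)
      (by rw [B.card_D hz hψ h1, card_f B.h hz q1.1 q1.2])).resolve_left fun h' => ?_
    have := AddSubgroup.eq_of_le_of_card_ge (sup_eq_left.1 h')
      (by rw [card_f B.h hz q1.1 q1.2, card_f B.h hz q2.1 q2.2.1])
    have := B.k.K2 hz q1.1 q1.2 q2.1 q2.2.1 this.symm
    tauto
  intro v hv
  by_cases v0 : v = 0
  · rw [v0]; exact zero_mem _
  by_cases vz : v = z
  · rw [vz]; exact zT B.h h1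
  have l3 := T_le_M ((B.mem_P b).1 hv)
  have m1 := M_symm B.h v0 vz (l3 p1.2)
  have m2 := M_symm B.h v0 vz (l3 p2.2)
  intro φ hφ
  rw [← e3] at hφ
  obtain ⟨φ1, r1, φ2, r2, rfl⟩ := AddSubgroup.mem_sup.1 hφ
  show s.β v (φ1 + φ2) = 0
  rw [s.addr, r1 v m1, r2 v m2, add_zero]

theorem perf {z u : V} {ψ ε : V'} (hz : z ≠ 0) (hψ : ψ ≠ 0) (h1 : s.β z ψ = 0) (u0 : u ≠ 0)
    (uz : u ≠ z) (h2 : ε ∈ Y.R ψ z) (h3 : ε ≠ 0) (h4 : ε ∈ s.ann (X.P z u)) :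
    X.P z u ≤ Y.T z ψ := by
  by_contra hn
  have e1 : X.P z u ⊓ Y.T z ψ ≤ s.sp1 z := by
    intro v hv
    by_contra hc
    simp only [Pg.mem_sp1, not_or] at hc
    exact hn (B.P_eq hz u0 uz hv.1 hc.1 hc.2 ▸ B.B2 hz hψ h1 hv.2 hc.1 hc.2)
  have c1 := card_sup_inf (X.P z u) (Y.T z ψ)
  have c2 := AddSubgroup.card_le_of_le e1
  have c4 := card_T (Y := Y) B.h hz hψ h1
  rw [s.card_sp1 hz] at c2
  rw [B.card_P hz u0 uz] at c1
  rw [← B.k.ab] at c4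
  have e2 : X.P z u ⊔ Y.T z ψ = ⊤ := by
    apply AddSubgroup.eq_of_le_of_card_ge le_top
    rw [AddSubgroup.card_top]
    nlinarith [Nat.mul_le_mul_left (Nat.card (X.P z u ⊔ Y.T z ψ : AddSubgroup V)) c2]
  refine h3 (s.ndr ε fun v => ?_)
  obtain ⟨p, hp, t, ht, rfl⟩ := AddSubgroup.mem_sup.1 (e2 ▸ AddSubgroup.mem_top v)
  rw [s.addl, h4 p hp, zero_add]; exact ht ε h2

theorem big : 8 * X.a * X.a < Nat.card V := by
  obtain ⟨z, hz⟩ := B.h.ex0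
  obtain ⟨y, hy, hyz⟩ := B.h.ex2 hz
  have a4 := B.k.a4
  have N4 := B.k.N4
  obtain ⟨u0, -, hu0⟩ := exn (A := X.P z y) (B := ⊤) (by
    rw [B.card_P hz hy hyz, AddSubgroup.card_top]; nlinarith)
  have u00 : u0 ≠ 0 := by rintro rfl; exact hu0 (zero_mem _)
  have u0y : u0 ≠ y := by rintro rfl; exact hu0 (B.yP hz hy hyz)
  have zQ : z ∉ X.P y u0 := by
    intro h'
    apply hu0
    rw [B.P_comm hz hy hyz, B.P_eq hy u00 u0y h' hz hyz.symm]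
    exact B.yP hy u00 u0y
  have hQ : ∀ u1 ∈ X.P y u0, ∀ u2 ∈ X.P y u0, u1 ≠ 0 → u2 ≠ 0 → u2 ≠ u1 →
      X.P u1 u2 = X.P y u0 := by
    intro u1 a u2 b c d e
    by_cases f : u1 = y
    · rw [f] at e ⊢; exact B.P_eq hy u00 u0y b d e
    · have e1 := B.P_eq hy u00 u0y a c f
      rw [B.P_comm hy c f] at e1
      rw [← e1]; exact B.P_eq c hy (Ne.symm f) (e1 ▸ b) d e
  have e := dcle {u | u ∈ X.P y u0 ∧ u ∉ (⊥ : AddSubgroup V)} (Set.univ : Set V)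
    (fun u x => x ∈ X.P z u ∧ x ∉ s.sp1 z) (m := 4 * X.a - 2) (n := 1) (by
      rintro u ⟨a, b⟩
      rw [AddSubgroup.mem_bot] at b
      have uz : u ≠ z := by rintro rfl; exact zQ a
      rw [← B.card_P hz b uz, ← s.card_sp1 hz, ← ncard_diff (by
        rintro _ (rfl | rfl)
        · exact zero_mem _
        · exact B.zP hz b uz)]
      simp) (by
      intro x _
      rw [Set.ncard_le_one_iff]
      rintro u1 u2 ⟨⟨a1, b1⟩, c1, d⟩ ⟨⟨a2, b2⟩, c2, -⟩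
      rw [AddSubgroup.mem_bot] at b1 b2
      simp only [Pg.mem_sp1, not_or] at d
      have uz1 : u1 ≠ z := by rintro rfl; exact zQ a1
      have uz2 : u2 ≠ z := by rintro rfl; exact zQ a2
      by_contra hn
      apply zQ
      have e1 : u2 ∈ X.P u1 z := by
        rw [← B.P_comm hz b1 uz1, ← B.P_eq hz b1 uz1 c1 d.1 d.2, B.P_eq hz b2 uz2 c2 d.1 d.2]
        exact B.yP hz b2 uz2
      rw [← hQ u1 a1 u2 a2 b1 b2 (Ne.symm hn), B.P_eq b1 hz uz1.symm e1 b2 (Ne.symm hn)]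
      exact B.yP b1 hz uz1.symm)
  rw [ncard_diff bot_le, B.card_P hy u00 u0y, AddSubgroup.card_bot, Set.ncard_univ] at e
  obtain ⟨c, hc⟩ : ∃ c, X.a = c + 1 := ⟨X.a - 1, by omega⟩
  rw [hc] at e a4 ⊢
  rw [show 4 * (c + 1) - 1 = 4 * c + 3 by omega, show 4 * (c + 1) - 2 = 4 * c + 2 by omega] at e
  nlinarith

theorem spr {z : V} (hz : z ≠ 0) : Spr (s.ker z) (fun ψ => Y.R ψ z) (2 * X.a) where
  h2 := s.dual.aa
  b1 ψ _ := zR _ _
  bU _ h1 _ _ hχ := R_ker B.h.dual h1 hχ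
  b2 _ h1 hψ _ hχ h0 := B.D_eq hz hψ h1 hχ h0
  hc _ h1 hψ := B.card_D hz hψ h1
  hs ψ1 a1 b1 ψ2 a2 b2 w hw w0 := by
    rw [← s.dual.ann_ann (Y.R ψ1 z ⊔ Y.R ψ2 z)]
    have w1 : s.β z w = 0 := (sup_le (fun _ hχ => R_ker B.h.dual a1 hχ)
      (fun _ hχ => R_ker B.h.dual a2 hχ) : _ ≤ s.ker z) hw
    intro φ hφ x hx
    by_cases x0 : x = 0
    · simp [x0]
    by_cases xz : x = z
    · rw [xz]; exact R_ker B.h.dual w1 hφ
    have t1 := B.B2 hz b1 a1 (fun φ hφ => hx φ (AddSubgroup.mem_sup_left hφ)) x0 xz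
    have t2 := B.B2 hz b2 a2 (fun φ hφ => hx φ (AddSubgroup.mem_sup_right hφ)) x0 xz
    refine B.perf hz w0 w1 x0 xz (zR _ _) w0 (fun v hv => ?_) (B.yP hz x0 xz) φ hφ
    obtain ⟨p, hp, r, hr, rfl⟩ := AddSubgroup.mem_sup.1 hw
    rw [s.addr, show s.β v p = 0 from t1 hv p hp, show s.β v r = 0 from t2 hv r hr, add_zero]
  hU := by
    have := B.big
    have := s.card_ker hz
    nlinarith

theorem false : False := by
  obtain ⟨z, y, φ, a⟩ := X.ex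
  obtain ⟨hz, hy, hyz, hφ, h1, -⟩ := X.nd a
  obtain ⟨ψ, p1, p2⟩ := s.sep1 hy hyz
  have hψ : ψ ≠ 0 := by rintro rfl; simp at p2
  have a4 := B.k.a4
  have d0 : ∀ ε ∈ Y.R ψ z, ε ∈ s.ann (X.P z y) → ε = 0 := by
    intro ε b c
    by_contra d
    exact z10 (p2.symm.trans (B.perf hz hψ p1 hy hyz b d c (B.yP hz hy hyz) ψ (zR _ _)))
  have cR := card_R (X := X) B.h hz hφ h1
  obtain ⟨ε, ⟨ε1, ε2⟩, ε0⟩ := exn (A := ⊥) (B := Y.R ψ z ⊓ s.ann (X.R z φ)) (by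
    have c1 := card_sup_inf (Y.R ψ z) (s.ann (X.R z φ))
    have c2 := AddSubgroup.card_le_of_le (sup_le (fun _ hχ => R_ker B.h.dual p1 hχ)
      (fun χ hχ => hχ z (zR _ _)) : Y.R ψ z ⊔ s.ann (X.R z φ) ≤ s.ker z)
    have c3 := s.card_ann (X.R z φ)
    have c4 := s.card_ker hz
    have := B.h.h8
    rw [B.card_D hz hψ p1, ← cR, c3, s.card_eq] at c1
    rw [AddSubgroup.card_bot]
    by_contra hc
    have : Nat.card (Y.R ψ z ⊓ s.ann (X.R z φ) : AddSubgroup V') ≤ 1 := by omega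
    nlinarith [Nat.mul_le_mul c2 this])
  replace ε0 : ε ≠ 0 := by simpa using ε0
  have un : ∀ η ∈ Y.R ψ z, η ∈ s.ann (X.R z φ) → η ≠ 0 → η = ε := by
    have k : ∀ η ∈ Y.R ψ z, η ∈ s.ann (X.R z φ) → η ≠ 0 → ∀ p ∈ X.P z y, p ∉ X.R z φ →
        s.β p η = 1 := by
      intro η b c d p hp hp'
      rcases idx2 (A := X.R z φ) (B := X.P z y ⊓ s.dual.ker η) (R := X.P z y)
        (fun v hv => ⟨R_le_P a hv, c v hv⟩) inf_le_left
        (by rw [B.card_P hz hy hyz, cR]; ring) with e | e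
      · exact zne0.1 fun h' => hp' (e ▸ ⟨hp, h'⟩)
      · exact absurd (d0 η b fun v hv => (e.ge hv).2) d
    intro η b c d
    refine s.dual.az.1 (d0 _ (add_mem b ε1) fun p hp => ?_)
    rw [s.addr]
    by_cases hp' : p ∈ X.R z φ
    · rw [c p hp', ε2 p hp', add_zero]
    · rw [k η b c d p hp hp', k ε ε1 ε2 ε0 p hp hp', z11]
  have εz : s.β z ε = 0 := ε2 z (zR _ _)
  have De := B.D_eq hz hψ p1 ε1 ε0
  have := (B.spr hz).main (x := φ) (e := ε) h1 hφ εz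
    (fun h' => ε0 (d0 ε ε1 fun v hv => B.P_le_T a hv ε h'))
    (stabilizer G z ⊓ stabilizer G φ ⊓ stabilizer G ε) (fun g hg => hg.2)
    (fun g hg => by rw [mem_stabilizer_iff.1 hg.1.2]; exact zR _ _)
    (fun g hg u _ _ v hv => by
      have := (R_inv B.h.dual g).1 hv
      rwa [mem_stabilizer_iff.1 hg.1.1] at this) (by
      intro η b c d η' b' c' d'
      simp only [De] at b b'
      obtain ⟨g, g1, g2, g3⟩ := trR (X := X) (z := z) (φ := φ) (ψ := η) (ψ' := η')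
        (R_ker B.h.dual p1 b) (fun h' => d (un η b h' c)) (R_ker B.h.dual p1 b') (fun h' => d' (un η' b' h' c'))
      refine ⟨g, ⟨⟨g1, g2⟩, un _ ?_ ?_ (by simpa using ε0)⟩, g3⟩
      · have := (R_inv B.h.dual g).1 (B.D_eq hz hψ p1 b c ▸ ε1)
        rwa [g1, g3, B.D_eq hz hψ p1 b' c'] at this
      · refine (ann_inv B.h.inv g fun v => ?_).1 ε2
        rw [R_inv B.h g, g1, g2])
  omega

end Blk

end Geo

end H20.CK
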