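import Cfsg.Agent.H20.CK.C

/-! Sylow helpers, Witt's lemma, averaging over a subgroup of odd order. -/

set_option autoImplicit false
set_option linter.unusedSectionVars false

namespace H20.CK
open MulAction

section grp
variable {G : Type*} [Group G] [Finite G]

theorem exSyl (p : ℕ) [Fact p.Prime] (H : Subgroup G) :
    ∃ J ≤ H, IsPGroup p J ∧ ¬ p ∣ J.relIndex H := by
  obtain ⟨P⟩ : Nonempty (Sylow p H) := inferInstance
  refine ⟨(P : Subgroup H).map H.subtype, Subgroup.map_subtype_le _, P.2.map _, ?_⟩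
  rw [Subgroup.relIndex, Subgroup.subgroupOf, Subgroup.comap_map_eq_self_of_injective
    H.subtype_injective]
  exact P.not_dvd_index

theorem card_mul_relIndex {J H : Subgroup G} (h : J ≤ H) : Nat.card J * J.relIndex H = Nat.card H := by
  rw [Subgroup.relIndex, ← Subgroup.card_mul_index (J.subgroupOf H),
    Nat.card_congr (Subgroup.subgroupOfEquivOfLe h).toEquiv]

theorem witt {p : ℕ} [Fact p.Prime] {Q H : Subgroup G} (hQ : IsPGroup p Q)
    (h2 : ¬ p ∣ Q.relIndex H) {g : G} (h3 : ∀ q ∈ Q, g * q * g⁻¹ ∈ H) :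
    ∃ h ∈ H, h * g ∈ Subgroup.normalizer (Q : Set G) := by
  let Q1 := Q.map (MulAut.conj g).toMonoidHom
  have l1 : Q1 ≤ H := by rintro _ ⟨q, hq, rfl⟩; exact h3 q hq
  have p1 : IsPGroup p (Q1.subgroupOf H) := (hQ.map _).comap_subtype
  have p2 : IsPGroup p (Q.subgroupOf H) := hQ.comap_subtype
  obtain ⟨P, hP⟩ := p1.exists_le_sylow
  obtain ⟨h, hh⟩ := exists_smul_eq H P (p2.toSylow h2)
  refine ⟨h, h.2, Subgroup.mem_normalizer_fintype fun q hq => ?_⟩
  have e : (⟨g * q * g⁻¹, h3 q hq⟩ : H) ∈ P := hP ⟨q, hq, rfl⟩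
  have e2 : h * ⟨g * q * g⁻¹, h3 q hq⟩ * h⁻¹ ∈ h • P :=
    Subgroup.smul_mem_pointwise_smul _ (MulAut.conj h) _ e
  rw [hh] at e2
  have e3 : ((h * ⟨g * q * g⁻¹, h3 q hq⟩ * h⁻¹ : H) : G) ∈ Q := e2
  simpa [mul_assoc] using e3

variable {X : Type*} [MulAction G X]

theorem orb_pow {p : ℕ} [Fact p.Prime] {Q : Subgroup G} (hQ : IsPGroup p Q) (x : X) :
    ∃ n, (orb Q x).ncard = p ^ n := by
  rw [← relIndex_stab]; exact hQ.index _

theorem pfix {p : ℕ} [Fact p.Prime] {Q : Subgroup G} (hQ : IsPGroup p Q) {x : X}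
    (h : ¬ p ∣ (orb Q x).ncard) : ∀ q ∈ Q, q • x = x := by
  obtain ⟨n, hn⟩ := orb_pow hQ x
  cases n with
  | succ n => exact absurd (by rw [hn, pow_succ]; exact Dvd.intro_left _ rfl) h
  | zero =>
    rw [pow_zero, Set.ncard_eq_one] at hn
    obtain ⟨y, hy⟩ := hn
    intro q hq
    have a : q • x ∈ orb Q x := ⟨q, hq, rfl⟩
    have b : x ∈ orb Q x := ⟨1, Q.one_mem, one_smul _ _⟩
    rw [hy] at a b
    exact a.trans b.symm

theorem orb_fix {Q : Subgroup G} {x : X} (h : ∀ q ∈ Q, q • x = x) : (orb Q x).ncard = 1 := by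
  rw [orb_eq (Y := {x}) h (by rintro _ rfl; exact ⟨1, Q.one_mem, one_smul _ _⟩), Set.ncard_singleton]

theorem cyc [Finite X] {p : ℕ} [hp : Fact p.Prime] {H : Subgroup G} {x : X}
    (h : (orb H x).ncard = p) : ∃ c ∈ H, orb (Subgroup.zpowers c) x = orb H x := by
  obtain ⟨J, hJ, j1, j2⟩ := exSyl p H
  have d := orb_dvd hJ x
  rw [h] at d
  have d2 := (hp.out.dvd_mul.1 d).resolve_right j2
  obtain ⟨c, hc, hcx⟩ : ∃ c ∈ J, c • x ≠ x := by
    by_contra hn
    push Not at hn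
    rw [orb_fix hn] at d2
    exact hp.out.one_lt.ne' (Nat.dvd_one.1 d2)
  have hz : Subgroup.zpowers c ≤ J := by rwa [Subgroup.zpowers_le]
  refine ⟨c, hJ hc, Set.eq_of_subset_of_ncard_le ?_ ?_⟩
  · rintro _ ⟨g, hg, rfl⟩; exact ⟨g, hJ (hz hg), rfl⟩
  · rw [h]
    refine Nat.le_of_dvd ((Set.ncard_pos (Set.toFinite _)).2 ⟨x, 1, one_mem _, one_smul _ _⟩) ?_
    by_contra hn
    exact hcx (pfix (j1.to_le hz) hn c (Subgroup.mem_zpowers c))

end grp

section av
variable {G : Type*} [Group G] [Finite G] (Q : Subgroup G)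

def Fx (V : Type*) [AddCommGroup V] [DistribMulAction G V] : AddSubgroup V where
  carrier := {v | ∀ q ∈ Q, q • v = v}
  zero_mem' q _ := smul_zero q
  add_mem' h1 h2 q hq := by rw [smul_add, h1 q hq, h2 q hq]
  neg_mem' h q hq := by rw [smul_neg, h q hq]

variable {V V' : Type*} [AddCommGroup V] [DistribMulAction G V] [AddCommGroup V']
  [DistribMulAction G V']

noncomputable def av : V →+ V :=
  haveI := Fintype.ofFinite Q
  AddMonoidHom.mk' (fun v => ∑ q : Q, (q : G) • v) fun u v => by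
    simp only [smul_add, Finset.sum_add_distrib]

variable {Q}

theorem av_N {n : G} (hn : n ∈ Subgroup.normalizer (Q : Set G)) (v : V) :
    av Q (n • v) = n • av Q v := by
  letI := Fintype.ofFinite Q
  simp only [av, AddMonoidHom.mk'_apply, Finset.smul_sum]
  symm
  refine Fintype.sum_equiv (Q.normalizerMonoidHom ⟨n, hn⟩).toEquiv _ _ fun q => ?_
  simp [mul_smul]

theorem av_Fx (v : V) : av Q v ∈ Fx Q V := by
  intro q hq
  letI := Fintype.ofFinite Q
  simp only [av, AddMonoidHom.mk'_apply, Finset.smul_sum]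
  refine Fintype.sum_equiv (Equiv.mulLeft (⟨q, hq⟩ : Q)) _ _ fun q => ?_
  simp [mul_smul]

theorem av_add (s : Pg V V') (ho : Nat.card Q % 2 = 1) {A : AddSubgroup V} {v : V}
    (h : ∀ q ∈ Q, q • v + v ∈ A) : av Q v + v ∈ A := by
  have := Fintype.ofFinite Q
  have e : av Q v + v = ∑ q : Q, ((q : G) • v + v) := by
    simp only [av, AddMonoidHom.mk'_apply, Finset.sum_add_distrib, Finset.sum_const,
      Finset.card_univ, ← Nat.card_eq_fintype_card]
    congr 1
    · congr!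
    · rw [← Nat.div_add_mod (Nat.card Q) 2, ho, add_nsmul, one_nsmul, mul_nsmul, two_nsmul, s.aa,
        nsmul_zero, zero_add]
  rw [e]; exact sum_mem fun q _ => h q q.2

theorem av_fix (s : Pg V V') (ho : Nat.card Q % 2 = 1) {v : V} (h : v ∈ Fx Q V) : av Q v = v := by
  have := av_add s ho (A := ⊥) (v := v) fun q hq => by rw [h q hq, s.aa]; exact zero_mem _
  exact s.az.1 this

theorem av_mem {A : AddSubgroup V} {v : V} (h : ∀ q ∈ Q, q • v ∈ A) : av Q v ∈ A :=
  sum_mem fun q _ => h q q.2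

theorem av_β {s : Pg V V'} (hi : s.Inv G) (ho : Nat.card Q % 2 = 1) (v : V) {φ : V'}
    (h : φ ∈ Fx Q V') : s.β (av Q v) φ = s.β v φ := by
  have := av_add s ho (A := s.dual.ker φ) (v := v) fun q hq => by
    show s.β _ φ = 0
    rw [s.addl, hi.l (h q hq), zaa]
  have h2 : s.β _ φ = 0 := this
  rw [s.addl] at h2
  revert h2
  generalize s.β (av Q v) φ = a
  generalize s.β v φ = b
  revert a b; decide

def subPg {s : Pg V V'} (hi : s.Inv G) (ho : Nat.card Q % 2 = 1) : Pg (Fx Q V) (Fx Q V') where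
  β v φ := s.β v φ
  addl u v φ := s.addl u v φ
  addr v φ ψ := s.addr v φ ψ
  ndl v h := Subtype.ext (s.ndl v fun φ => (av_β hi.dual ho φ v.2).symm.trans (h ⟨_, av_Fx φ⟩))
  ndr φ h := Subtype.ext (s.ndr φ fun v => (av_β hi ho v φ.2).symm.trans (h ⟨_, av_Fx v⟩))

theorem Fx_N {n : G} (hn : n ∈ Subgroup.normalizer (Q : Set G)) {v : V} (h : v ∈ Fx Q V) :
    n • v ∈ Fx Q V := by
  intro q hq
  have := h _ ((Subgroup.mem_normalizer_iff''.1 hn q).1 hq)
  rw [mul_smul, mul_smul, inv_smul_eq_iff] at this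
  exact this

end av

theorem half {V V' : Type*} [AddCommGroup V] [AddCommGroup V'] [Finite V] (s : Pg V V')
    {A E : AddSubgroup V} (h : A ≤ E) (hc : Nat.card E = 2 * Nat.card A) {z v : V} (hz : z ∈ E)
    (hz' : z ∉ A) (hv : v ∈ E) (hv' : v ∉ A) : v + z ∈ A := by
  rcases idx2 (A := A) (B := A ⊔ s.sp1 z) le_sup_left (sup_le h (by
    rintro _ (rfl | rfl)
    · exact zero_mem _
    · exact hz)) hc with e | e
  · exact absurd (e ▸ AddSubgroup.mem_sup_right (Or.inr rfl)) hz'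
  · obtain ⟨a, ha, _, (rfl | rfl), rfl⟩ := AddSubgroup.mem_sup.1 (e.ge hv)
    · exact absurd (by simpa using ha) hv'
    · rwa [s.acc]

end H20.CK
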