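import Cfsg.Agent.H20.CK.H
import Cfsg.Agent.H20.CK.I

/-! The non-block case: first reductions. -/

set_option autoImplicit false
set_option linter.unusedSectionVars false

namespace H20.CK
open MulAction

variable {V V' : Type*} [AddCommGroup V] [AddCommGroup V'] [Finite V] [Finite V']

theorem sp2_le' (s : Pg V V') {A : AddSubgroup V} {z y : V} (h1 : z ∈ A) (h2 : y ∈ A) :
    s.sp2 z y ≤ A := by
  rintro _ (rfl | rfl | rfl | rfl)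
  · exact zero_mem _
  · exact h1
  · exact h2
  · exact add_mem h1 h2

namespace Geo
variable {s : Pg V V'} {G : Type*} [Group G] [DistribMulAction G V] [DistribMulAction G V']
  {X : Geo s G} {Y : Geo s.dual G}

theorem blk8 (h : Hy s G) (k : K0 X Y) (k' : K0 Y X) (h8 : 8 ≤ X.a) {z y : V} {φ : V'}
    (a : X.Sp z y φ) : X.R z φ = X.R y φ := by
  obtain ⟨hz, hy, hyz, hφ, h1, h2⟩ := X.nd a
  have cf := card_f (X := X) h hz hy hyz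
  obtain ⟨ψ1, p1, q1⟩ := exn (A := s.dual.sp1 φ) (B := X.f z y) (by rw [s.dual.card_sp1 hφ]; omega)
  simp only [Pg.mem_sp1, not_or] at q1
  obtain ⟨ψ2, p2, q2⟩ := exn (A := s.dual.sp2 φ ψ1) (B := X.f z y)
    (by rw [s.dual.card_sp2 hφ q1.1 q1.2]; omega)
  simp only [Pg.mem_sp2, not_or] at q2
  have key : ∀ ψ ∈ X.f z y, ψ ≠ 0 → ψ ≠ φ → Y.f φ ψ ≤ X.R z φ ⊓ X.R y φ := fun ψ p q r =>
    le_inf (k'.K1 (of_R h.dual hφ hz h1 (k.K1 a p) q r))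
      (k'.K1 (of_R h.dual hφ hy h2 (k.K1 (symm h a) (f_comm h z y ▸ p)) q r))
  have c1 := card_f (X := Y) h.dual hφ q1.1 q1.2
  have c2 := card_f (X := Y) h.dual hφ q2.1 q2.2.1
  rcases idx2 (key ψ1 p1 q1.1 q1.2) inf_le_left (by rw [c1, card_R h hz hφ h1, k.ab]) with e | e
  · have := AddSubgroup.eq_of_le_of_card_ge (e ▸ key ψ2 p2 q2.1 q2.2.1) (by rw [c1, c2])
    have := k'.K2 hφ q1.1 q1.2 q2.1 q2.2.1 this.symm
    tauto
  · exact AddSubgroup.eq_of_le_of_card_ge (inf_eq_left.1 e)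
      (by rw [card_R h hz hφ h1, card_R h hy hφ h2])

theorem uniq (h : Hy s G) (k : K0 X Y) (h4 : X.a = 4) {w : V} {ψ ψ' : V'} (hw : w ≠ 0) (hψ : ψ ≠ 0)
    (h1 : s.β w ψ = 0) (hψ' : ψ' ≠ 0) (h1' : s.β w ψ' = 0) (e : X.R w ψ = X.R w ψ') : ψ' = ψ := by
  by_contra hn
  have cR := card_R (X := X) h hw hψ h1
  obtain ⟨u1, p1, q1⟩ := exn (A := s.sp1 w) (B := X.R w ψ) (by rw [s.card_sp1 hw]; omega)
  simp only [Pg.mem_sp1, not_or] at q1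
  obtain ⟨u2, p2, q2⟩ := exn (A := s.sp2 w u1) (B := X.R w ψ)
    (by rw [s.card_sp2 hw q1.1 q1.2]; omega)
  simp only [Pg.mem_sp2, not_or] at q2
  have key : ∀ u ∈ X.R w ψ, u ≠ 0 → u ≠ w → s.dual.sp2 ψ ψ' = X.f w u := fun u p q r =>
    AddSubgroup.eq_of_le_of_card_ge (sp2_le' _ (Sp.f h (of_R h hw hψ h1 p q r))
      (Sp.f h (of_R h hw hψ' h1' (e ▸ p) q r)))
      (by rw [card_f h hw q r, s.dual.card_sp2 hψ hψ' hn, h4])
  have := k.K2 hw q1.1 q1.2 q2.1 q2.2.1 ((key u1 p1 q1.1 q1.2).symm.trans (key u2 p2 q2.1 q2.2.1))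
  tauto

open scoped Pointwise in
theorem R_smul (h : Hy s G) (g : G) (z : V) (φ : V') : g • X.R z φ = X.R (g • z) (g • φ) := by
  ext v
  rw [AddSubgroup.mem_pointwise_smul_iff_inv_smul_mem, R_inv h g, smul_inv_smul]

structure NB (X : Geo s G) (Y : Geo s.dual G) : Prop where
  h : Hy s G
  k : K0 X Y
  k' : K0 Y X
  a4 : X.a = 4
  nB : ∀ {z y φ}, X.Sp z y φ → X.R z φ ≠ X.R y φ

namespace NB
variable (B : NB X Y)
include B

theorem cR {z : V} {φ : V'} (hz : z ≠ 0) (hφ : φ ≠ 0) (h1 : s.β z φ = 0) :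
    Nat.card (X.R z φ) = 8 := by rw [card_R B.h hz hφ h1, B.a4]

theorem clA {z w : V} {φ : V'} (hz : z ≠ 0) (hφ : φ ≠ 0) (h1 : s.β z φ = 0) (hw : w ∈ X.R z φ)
    (w0 : w ≠ 0) : ∃ ψ, ψ ≠ 0 ∧ s.β w ψ = 0 ∧ X.R w ψ = X.R z φ := by
  by_cases wz : w = z
  · exact ⟨φ, hφ, wz ▸ h1, by rw [wz]⟩
  have cR := B.cR hz hφ h1
  obtain ⟨q, p1, q1⟩ := exn (A := s.sp2 z w) (B := X.R z φ) (by rw [s.card_sp2 hz w0 wz]; omega)
  simp only [Pg.mem_sp2, not_or] at q1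
  have hp : z + w ≠ 0 := fun h' => wz (s.az.1 h').symm
  have hzq : z ∉ s.sp2 (z + w) q := by
    simp only [Pg.mem_sp2, not_or]
    refine ⟨hz, by simpa using w0, Ne.symm q1.2.1, fun h' => q1.2.2.1 ?_⟩
    rw [add_assoc, left_eq_add, s.az] at h'; exact h'.symm
  obtain ⟨g, g1, g2, g3⟩ := B.h.PL (p := z + w) (q := q) (x := z) (l := z + w) hp q1.1 q1.2.2.2 hzq
    (by simp [Pg.mem_sp2])
  rw [s.aac] at g3
  have hle := sp2_le' s (add_mem (zR z φ) hw) p1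
  have fx : ∀ v ∈ s.sp2 (z + w) q, g • v = v := by
    rintro _ (rfl | rfl | rfl | rfl)
    · simp
    · exact g1
    · exact g2
    · rw [smul_add, g1, g2]
  have h2 : s.β w (g • φ) = 0 := by rw [← g3, B.h.inv, h1]
  refine ⟨g • φ, by simpa using hφ, h2, AddSubgroup.eq_of_le_of_card_ge (fun v hv => ?_)
    (by rw [cR, B.cR w0 (by simpa using hφ) h2])⟩
  rw [← smul_inv_smul g v, ← g3, ← R_inv B.h g] at hv
  rw [← smul_inv_smul g v]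
  generalize g⁻¹ • v = u at hv
  by_cases hu : u ∈ s.sp2 (z + w) q
  · rwa [fx u hu]
  · have := half s hle (by rw [cR, s.card_sp2 hp q1.1 q1.2.2.2]) (zR z φ) hzq hv hu
    rw [← s.acc u z, smul_add, fx _ this, g3]
    exact add_mem (hle this) hw

/-- the functionals of a line of `R z φ` missing `z` -/
theorem fl {z w1 w2 : V} {φ : V'} (hz : z ≠ 0) (hφ : φ ≠ 0) (h1 : s.β z φ = 0)
    (p1 : w1 ∈ X.R z φ) (p2 : w2 ∈ X.R z φ) (q1 : w1 ≠ 0) (q2 : w2 ≠ 0) (q3 : w2 ≠ w1)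
    (hn : z ∉ s.sp2 w1 w2) : X.f w1 w2 ≤ Y.R φ z ∧ φ ∉ X.f w1 w2 := by
  have hn' := hn
  simp only [Pg.mem_sp2, not_or] at hn'
  have a1 := of_R B.h hz hφ h1 p1 q1 (Ne.symm hn'.2.1)
  have a2 := of_R B.h hz hφ h1 p2 q2 (Ne.symm hn'.2.2.1)
  constructor
  · obtain ⟨ψ1, b1, c1, d1⟩ := B.clA hz hφ h1 p1 q1
    obtain ⟨ψ2, b2, c2, d2⟩ := B.clA hz hφ h1 p2 q2
    have e1 := of_R B.h q1 b1 c1 (d1 ▸ p2) q2 q3
    have e2 := symm B.h (of_R B.h q2 b2 c2 (d2 ▸ p1) q1 q3.symm)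
    have e3 : ψ2 ≠ ψ1 := by
      rintro rfl
      exact B.nB e1 (d1.trans d2.symm)
    rw [← AddSubgroup.eq_of_le_of_card_ge (sp2_le' s.dual (Sp.f B.h e1) (Sp.f B.h e2))
      (by rw [card_f B.h q1 q2 q3, s.dual.card_sp2 b1 b2 e3, B.a4])]
    exact sp2_le' _
      (B.k.K1 a1 (Sp.f B.h (symm B.h (of_R B.h q1 b1 c1 (d1 ▸ zR z φ) hz hn'.2.1))))
      (B.k.K1 a2 (Sp.f B.h (symm B.h (of_R B.h q2 b2 c2 (d2 ▸ zR z φ) hz hn'.2.2.1))))
  · intro h'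
    have e1 := of_f B.h h' hφ
    rcases idx2 (A := s.sp2 w1 w2) (B := X.R z φ ⊓ X.R w1 φ) (R := X.R z φ)
      (sp2_le' s ⟨p1, zR _ _⟩ ⟨p2, Sp.R e1⟩) inf_le_left
      (by rw [B.cR hz hφ h1, s.card_sp2 q1 q2 q3]) with e | e
    · exact hn (e ▸ ⟨zR _ _, Sp.R (symm B.h a1)⟩)
    · exact B.nB a1 (AddSubgroup.eq_of_le_of_card_ge (inf_eq_left.1 e)
        (by rw [B.cR hz hφ h1, B.cR q1 hφ (X.nd a1).2.2.2.2.2]))

/-- the other planes on a line -/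
def oth (X : Geo s G) (A E : AddSubgroup V) : Set (AddSubgroup V) :=
  {E' | A ≤ E' ∧ E' ≠ E ∧ ∃ w ψ, w ≠ 0 ∧ ψ ≠ 0 ∧ s.β w ψ = 0 ∧ E' = X.R w ψ}

theorem oth_le {z w1 w2 : V} {φ : V'} (hz : z ≠ 0) (hφ : φ ≠ 0) (h1 : s.β z φ = 0)
    (p1 : w1 ∈ X.R z φ) (p2 : w2 ∈ X.R z φ) (q1 : w1 ≠ 0) (q2 : w2 ≠ 0) (q3 : w2 ≠ w1) :
    (oth X (s.sp2 w1 w2) (X.R z φ)).ncard ≤ 2 ∧ (oth X (s.sp2 w1 w2) (X.R z φ)).Nonempty := by
  obtain ⟨ψ, b, c, d⟩ := B.clA hz hφ h1 p1 q1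
  have e := of_R B.h q1 b c (d ▸ p2) q2 q3
  have hle : s.dual.sp1 ψ ≤ X.f w1 w2 := by
    rintro _ (rfl | rfl)
    · exact zero_mem _
    · exact Sp.f B.h e
  have cf := card_f (X := X) B.h q1 q2 q3
  constructor
  · have := ncard_diff hle
    rw [cf, B.a4, s.dual.card_sp1 b] at this
    refine le_trans (Set.ncard_le_ncard (t := X.R w1 '' {v | v ∈ X.f w1 w2 ∧ v ∉ s.dual.sp1 ψ}) ?_)
      ((Set.ncard_image_le).trans this.le)
    rintro E ⟨a1, a2, w, χ, a3, a4, a5, rfl⟩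
    obtain ⟨ψ', b', c', d'⟩ := B.clA a3 a4 a5 (a1 (show w1 ∈ _ by simp [Pg.mem_sp2])) q1
    refine ⟨ψ', ⟨Sp.f B.h (of_R B.h q1 b' c' (d' ▸ a1 (by simp [Pg.mem_sp2])) q2 q3), ?_⟩, d'⟩
    rintro (rfl | rfl)
    · exact b' rfl
    · exact a2 (d'.symm.trans d)
  · obtain ⟨χ, a1, a2⟩ := exn (A := s.dual.sp1 ψ) (B := X.f w1 w2)
      (by rw [cf, B.a4, s.dual.card_sp1 b]; omega)
    simp only [Pg.mem_sp1, not_or] at a2
    have a3 := of_f B.h a1 a2.1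
    have a4 := (X.nd a3).2.2.2.2.1
    exact ⟨X.R w1 χ, sp2_le' s (zR _ _) (Sp.R a3),
      fun h' => a2.2 (uniq B.h B.k B.a4 q1 b c a2.1 a4 (d.trans h'.symm)), w1, χ, q1, a2.1, a4, rfl⟩

theorem n64 [Finite G] : Nat.card V ≠ 64 := by
  intro hN
  have : Fact (Nat.Prime 31) := ⟨by norm_num⟩
  obtain ⟨z, y0, φ, a0⟩ := X.ex
  obtain ⟨hz, -, -, hφ, h1, -⟩ := X.nd a0
  have cR := B.cR hz hφ h1
  have eT : X.R z φ = Y.T z φ := AddSubgroup.eq_of_le_of_card_ge (B.k.RT hz hφ h1) (by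
    have := card_T (Y := Y) B.h hz hφ h1
    rw [← B.k.ab, B.a4] at this; omega)
  have cW := s.dual.card_ker hφ
  rw [s.card_eq] at cW
  have ii : ∀ y, X.Sp z y φ → X.R y φ ⊓ X.R z φ = s.sp2 z y := by
    intro y a
    obtain ⟨-, hy, hyz, -, -, h2⟩ := X.nd a
    refine (idx2 (sp2_le' s (A := X.R y φ ⊓ X.R z φ) ⟨Sp.R (symm B.h a), zR _ _⟩ ⟨zR _ _, Sp.R a⟩) inf_le_left
      (by rw [B.cR hy hφ h2, s.card_sp2 hz hy hyz])).resolve_right fun e => B.nB a ?_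
    exact (AddSubgroup.eq_of_le_of_card_ge (inf_eq_left.1 e) (by rw [cR, B.cR hy hφ h2])).symm
  have o := B.h.dual.orb0 hφ hz h1
  rw [s.card_eq, hN] at o
  obtain ⟨c, hc, hc'⟩ := cyc (p := 31) (H := stabilizer G φ) (x := z) (by omega)
  have tr : ∀ y, X.Sp z y φ → ∃ g ∈ Subgroup.zpowers c, g • z = y := by
    intro y a
    have : y ∈ orb (stabilizer G φ) z := by
      obtain ⟨g, g1, g2⟩ := B.h.fl hz (X.nd a).2.1 hφ hφ (h1.trans (X.nd a).2.2.2.2.2.symm)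
      exact ⟨g, g2, g1⟩
    rwa [← hc'] at this
  have hφ' : ∀ g ∈ Subgroup.zpowers c, g • φ = φ := fun g hg =>
    (Subgroup.zpowers_le.2 hc : _ ≤ stabilizer G φ) hg
  obtain ⟨g1, m1, e1⟩ := tr y0 a0
  obtain ⟨y2, a2, n2, n2'⟩ : ∃ y2, X.Sp z y2 φ ∧ y2 ∉ s.sp2 z y0 ∧ y2 ≠ g1⁻¹ • z := by
    have c1 := ncard_diff (sp2_le' s (zR z φ) (Sp.R a0))
    rw [cR, s.card_sp2 hz (X.nd a0).2.1 (X.nd a0).2.2.1] at c1
    obtain ⟨y2, ⟨b1, b2⟩, b3⟩ := Set.exists_ne_of_one_lt_ncard (by rw [c1]; norm_num) (g1⁻¹ • z)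
    refine ⟨y2, of_R B.h hz hφ h1 b1 ?_ ?_, b2, b3⟩
    · rintro rfl; exact b2 (zero_mem _)
    · rintro rfl; exact b2 (by simp [Pg.mem_sp2])
  obtain ⟨g2, m2, e2⟩ := tr y2 a2
  have hcomm : g1 * g2 = g2 * g1 := by
    obtain ⟨i, rfl⟩ := m1
    obtain ⟨j, rfl⟩ := m2
    exact zpow_mul_comm c i j
  have x1 : X.Sp y0 (g1 • y2) φ := invr a2 e1 rfl (hφ' g1 m1)
  have x2 : X.Sp y2 (g1 • y2) φ := invr a0 e2 (by rw [← e1, ← e2, ← mul_smul, ← hcomm, mul_smul])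
    (hφ' g2 m2)
  have xz : g1 • y2 ≠ z := fun h' => n2' (by rw [← h', inv_smul_smul])
  have xR : g1 • y2 ∉ X.R z φ := by
    intro h'
    have b1 : g1 • y2 ∈ s.sp2 z y0 := ii y0 a0 ▸ ⟨Sp.R x1, h'⟩
    have b2 : g1 • y2 ∈ s.sp2 z y2 := ii y2 a2 ▸ ⟨Sp.R x2, h'⟩
    rcases b2 with b | b | b | b
    · exact (X.nd x1).2.1 b
    · exact xz b
    · exact n2 (b ▸ b1)
    · rw [b] at b1
      exact n2 (by simpa [s.aac] using add_mem (show z ∈ s.sp2 z y0 by simp [Pg.mem_sp2]) b1)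
  have e := dcle {x | x ∈ s.dual.ker φ ∧ x ∉ X.R z φ} {y | X.Sp z y φ} (fun x y => x ∈ X.R y φ)
    (m := 2) (n := 4) (by
      rintro x ⟨b1, b2⟩
      obtain ⟨g, r1, r2, r3⟩ := trT (Y := Y) (z := z) (X.nd x1).2.2.2.2.2 (eT ▸ xR) b1 (eT ▸ b2)
      rw [← ncard_smul g (A := {y | y ∈ {y | X.Sp z y φ} ∧ g1 • y2 ∈ X.R y φ}) (fun v => by
        simp only [Set.mem_ofPred_eq]
        rw [← inv_iff g, R_inv B.h g, r1, r2, r3])]
      rw [← Set.ncard_pair (a := y0) (b := y2) (by rintro rfl; exact n2 (by simp [Pg.mem_sp2]))]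
      apply Set.ncard_le_ncard _ (Set.toFinite _)
      rintro _ (rfl | rfl)
      · exact ⟨a0, Sp.R x1⟩
      · exact ⟨a2, Sp.R x2⟩) (by
      intro y a
      obtain ⟨-, hy, hyz, -, -, h2⟩ := X.nd a
      have c1 := ncard_diff (inf_le_left (a := X.R y φ) (b := X.R z φ))
      rw [B.cR hy hφ h2] at c1
      conv at c1 => rhs; rw [ii y a, s.card_sp2 hz hy hyz]
      refine le_trans (Set.ncard_le_ncard ?_) c1.le
      rintro x ⟨⟨-, b2⟩, b3⟩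
      exact ⟨b3, fun h' => b2 h'.2⟩)
  rw [ncard_diff (fun u hu => R_ker B.h h1 hu), ncard_Sp' B.h hz hφ h1, cR] at e
  omega

/-- a point off `ker φ` on another plane forces order 64 -/
theorem far [Finite G] {z w1 w2 x w : V} {φ ψ : V'} (hz : z ≠ 0) (hφ : φ ≠ 0) (h1 : s.β z φ = 0)
    (p1 : w1 ∈ X.R z φ) (p2 : w2 ∈ X.R z φ) (q1 : w1 ≠ 0) (q2 : w2 ≠ 0) (q3 : w2 ≠ w1)
    (hn : z ∉ s.sp2 w1 w2) (w0 : w ≠ 0) (hψ : ψ ≠ 0) (h2 : s.β w ψ = 0)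
    (hl : s.sp2 w1 w2 ≤ X.R w ψ) (hx : x ∈ X.R w ψ) : s.β x φ = 0 := by
  by_contra hc
  replace hc := zne0.1 hc
  obtain ⟨f1, f2⟩ := B.fl hz hφ h1 p1 p2 q1 q2 q3 hn
  have e := dcle {u | s.dual.β φ u = 1}
    ({w | w ∈ X.R z φ ∧ w ∉ s.sp1 z} ×ˢ {ψ | ψ ∈ Y.R φ z ∧ ψ ∉ s.dual.sp1 φ})
    (fun u p => s.β p.1 p.2 = 0 ∧ u ∈ X.R p.1 p.2) (m := 3) (n := 4) (by
      intro u hu
      obtain ⟨g, r2, r1, r3⟩ := B.h.dual.T3 hφ hz h1 hc hu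
      rw [← ncard_smul g (A := {p | p ∈ ({w | w ∈ X.R z φ ∧ w ∉ s.sp1 z} ×ˢ
          {ψ | ψ ∈ Y.R φ z ∧ ψ ∉ s.dual.sp1 φ}) ∧ s.β p.1 p.2 = 0 ∧ x ∈ X.R p.1 p.2}) (fun v => by
        simp only [Set.mem_ofPred_eq, Set.mem_prod, Pg.mem_sp1, Prod.smul_fst, Prod.smul_snd]
        rw [R_inv B.h g (z := z), R_inv B.h g (y := x), R_inv B.h.dual g, B.h.inv, r1, r2, r3, sz, sz,
          ← smul_left_cancel_iff g (x := v.1) (y := z), ← smul_left_cancel_iff g (x := v.2) (y := φ),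
          r1, r2])]
      have c1 := ncard_diff (bot_le (a := s.sp2 w1 w2))
      rw [s.card_sp2 q1 q2 q3, AddSubgroup.card_bot] at c1
      refine c1.ge.trans (le_trans (Set.ncard_le_ncard ?_) (Set.ncard_image_le (f := Prod.fst)))
      rintro v ⟨b1, b2⟩
      rw [AddSubgroup.mem_bot] at b2
      obtain ⟨χ, d1, d2, d3⟩ := B.clA w0 hψ h2 (hl b1) b2
      have d4 : χ ∈ X.f w1 w2 := by
        rcases b1 with b | b | b | b
        · exact absurd b b2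
        · subst b
          exact Sp.f B.h (of_R B.h b2 d1 d2 (d3 ▸ hl (by simp [Pg.mem_sp2])) q2 q3)
        · subst b
          exact Sp.f B.h (symm B.h (of_R B.h b2 d1 d2 (d3 ▸ hl (by simp [Pg.mem_sp2])) q1 q3.symm))
        · subst b
          rw [← f_sh B.h]
          exact Sp.f B.h (symm B.h (of_R B.h b2 d1 d2 (d3 ▸ hl (by simp [Pg.mem_sp2])) q1
            (by simpa using q2)))
      refine ⟨(v, χ), ⟨⟨⟨sp2_le' s p1 p2 b1, ?_⟩, f1 d4, ?_⟩, d2, d3 ▸ hx⟩, rfl⟩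
      · rintro (rfl | rfl)
        · exact b2 rfl
        · exact hn b1
      · rintro (rfl | rfl)
        · exact d1 rfl
        · exact f2 d4) (by
      rintro ⟨v, χ⟩ ⟨⟨-, b2⟩, -, b4⟩
      simp only [Pg.mem_sp1, not_or] at b2 b4
      rcases Set.eq_empty_or_nonempty {u | u ∈ {u | s.dual.β φ u = 1} ∧ s.β v χ = 0 ∧ u ∈ X.R v χ}
        with e | ⟨u, u1, u2, u3⟩
      · rw [e]; simp
      have c1 := ncard_diff (inf_le_left (a := X.R v χ) (b := s.dual.ker φ))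
      have c2 := card_sup_inf (X.R v χ) (s.dual.ker φ)
      have c3 := AddSubgroup.card_le_of_le (le_top (a := X.R v χ ⊔ s.dual.ker φ))
      have c4 := s.dual.card_ker hφ
      rw [AddSubgroup.card_top, ← s.card_eq, ← c4] at c3
      rw [B.cR b2.1 b4.1 u2] at c1 c2
      have c5 : 4 ≤ Nat.card (X.R v χ ⊓ s.dual.ker φ : AddSubgroup V) := by
        have T0 : 0 < Nat.card (s.dual.ker φ) := Nat.card_pos
        by_contra hc
        have : Nat.card (X.R v χ ⊓ s.dual.ker φ : AddSubgroup V) ≤ 3 := by omega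
        nlinarith [Nat.mul_le_mul c3 this]
      refine le_trans (Set.ncard_le_ncard ?_) (c1.le.trans (by omega))
      rintro t ⟨t1, -, t3⟩
      exact ⟨t3, fun h' => z10 (Eq.trans (Eq.symm t1) h'.2)⟩)
  rw [Set.ncard_prod, ncard_diff (B := s.sp1 z) (by
      rintro _ (rfl | rfl)
      · exact zero_mem _
      · exact zR _ _), ncard_diff (B := s.dual.sp1 φ) (by
      rintro _ (rfl | rfl)
      · exact zero_mem _
      · exact zR _ _), B.cR hz hφ h1, card_R B.h.dual hφ hz h1, ← B.k.ab, B.a4, s.card_sp1 hz,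
      s.dual.card_sp1 hφ] at e
  have c1 := Hy.card1 (s := s.dual) hφ
  rw [s.card_eq] at c1
  have c2 := B.k.N4
  rw [B.a4] at c2
  obtain ⟨k, hk⟩ := B.h.pw
  apply B.n64
  have : k < 4 := by
    by_contra hc
    have : 2 ^ 4 ≤ 2 ^ k := Nat.pow_le_pow_right (by norm_num) (by omega)
    omega
  interval_cases k <;> omega

end NB

end Geo

end H20.CK
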