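import Cfsg.Agent.H20.CK.J
import Cfsg.Agent.H20.CK.F

/-! The non-block case and the main lemma. -/

set_option autoImplicit false
set_option linter.unusedSectionVars false

namespace H20.CK
open MulAction
open scoped Pointwise

variable {V V' : Type*} [AddCommGroup V] [AddCommGroup V'] [Finite V] [Finite V']

namespace Geo
variable {s : Pg V V'} {G : Type*} [Group G] [Finite G] [DistribMulAction G V]
  [DistribMulAction G V'] {X : Geo s G} {Y : Geo s.dual G}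

def Fl (s : Pg V V') (Q : Subgroup G) (z : V) (φ : V') : Prop :=
  z ∈ Fx Q V ∧ φ ∈ Fx Q V' ∧ z ≠ 0 ∧ φ ≠ 0 ∧ s.β z φ = 0

noncomputable def ell (X : Geo s G) (Q : Subgroup G) (z : V) (φ : V') : AddSubgroup V :=
  X.R z φ ⊓ (av Q).ker

def rho (X : Geo s G) (Q : Subgroup G) (z : V) (φ : V') (y : V) : Prop :=
  y ≠ z ∧ ∃ ψ, Fl s Q y ψ ∧ ell X Q z φ = ell X Q y ψ

structure Sy (X : Geo s G) (Y : Geo s.dual G) (Q : Subgroup G) : Prop extends NB X Y where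
  p : IsPGroup 3 Q
  hF : ∀ {z φ}, Fl s Q z φ → ¬ 3 ∣ Q.relIndex (stabilizer G z ⊓ stabilizer G φ)
  hP : ∀ {z y : V}, z ∈ Fx Q V → y ∈ Fx Q V → z ≠ 0 → y ≠ 0 → y ≠ z →
    ¬ 3 ∣ Q.relIndex (stabilizer G z ⊓ stabilizer G y)
  ex : ∃ z φ, Fl s Q z φ

theorem NB.sy (B : NB X Y) : ∃ Q, Sy X Y Q := by
  have : Fact (Nat.Prime 3) := ⟨by norm_num⟩
  obtain ⟨z0, y0, φ0, a0⟩ := X.ex
  obtain ⟨hz, -, -, hφ, h1, -⟩ := X.nd a0
  obtain ⟨Q, hQ, p, hi⟩ := exSyl 3 (stabilizer G z0 ⊓ stabilizer G φ0)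
  have e0 := Subgroup.relIndex_mul_index hQ
  have i0 := B.h.idxf hz hφ h1
  have pos : 0 < (stabilizer G z0 ⊓ stabilizer G φ0).index := Nat.pos_of_ne_zero
    Subgroup.FiniteIndex.index_ne_zero
  refine ⟨Q, B, p, ?_, ?_, z0, φ0, fun q hq => (hQ hq).1, fun q hq => (hQ hq).2, hz, hφ, h1⟩
  · rintro z φ ⟨a, b, c, d, e⟩
    have e1 := Subgroup.relIndex_mul_index
      (show Q ≤ stabilizer G z ⊓ stabilizer G φ from fun q hq => ⟨a q hq, b q hq⟩)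
    have i1 := B.h.idxf c d e
    rw [show (stabilizer G z ⊓ stabilizer G φ).index = (stabilizer G z0 ⊓ stabilizer G φ0).index by
      omega, ← e0] at e1
    rwa [Nat.eq_of_mul_eq_mul_right pos e1]
  · intro z y a b c d e
    have e1 := Subgroup.relIndex_mul_index
      (show Q ≤ stabilizer G z ⊓ stabilizer G y from fun q hq => ⟨a q hq, b q hq⟩)
    rw [B.h.idx2 c d e, ← i0, ← e0, ← mul_assoc] at e1
    intro h3
    exact hi (Nat.eq_of_mul_eq_mul_right pos e1 ▸ Dvd.dvd.mul_right h3 2)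

namespace Sy
variable {Q : Subgroup G} (S : Sy X Y Q)
include S

theorem ho : Nat.card Q % 2 = 1 := by
  have : Fact (Nat.Prime 3) := ⟨by norm_num⟩
  obtain ⟨n, hn⟩ := IsPGroup.iff_card.1 S.p
  rw [hn, Nat.pow_mod]; simp

theorem RQ {z v : V} {φ : V'} (f : Fl s Q z φ) (hv : v ∈ X.R z φ) : ∀ q ∈ Q, q • v ∈ X.R z φ := by
  intro q hq
  have := (R_inv S.h q).1 hv
  rwa [f.1 q hq, f.2.1 q hq] at this

theorem Rfix {z y : V} {φ : V'} (f : Fl s Q z φ) (hy : y ∈ X.R z φ) (hy' : y ∈ Fx Q V) :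
    y = 0 ∨ y = z := by
  by_contra hn
  push Not at hn
  have f' := f
  obtain ⟨a, b, c, d, e⟩ := f
  have a0 := of_R S.h c d e hy hn.1 hn.2
  have := orb_dvd (show Q ≤ stabilizer G z ⊓ stabilizer G φ from fun q hq => ⟨a q hq, b q hq⟩) y
  rw [orb_fix hy', one_mul, orb_eq (H := stabilizer G z ⊓ stabilizer G φ) (Y := {y | X.Sp z y φ})
    (fun g hg => invr a0 hg.1 rfl hg.2)
    (fun y' a1 => by
      obtain ⟨g, g1, g2, g3⟩ := X.tr a0 a1
      exact ⟨g, ⟨g1, g3⟩, g2⟩), ncard_Sp' S.h c d e, S.cR c d e] at this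
  exact S.hF f' (dvd_trans (by norm_num) this)

theorem zell {z : V} {φ : V'} (f : Fl s Q z φ) : z ∉ ell X Q z φ := fun h' =>
  f.2.2.1 ((av_fix s S.ho f.1).symm.trans h'.2)

theorem card_ell {z : V} {φ : V'} (f : Fl s Q z φ) : Nat.card (ell X Q z φ) = 4 := by
  have c := card_sup_inf (ell X Q z φ) (s.sp1 z)
  have e1 : ell X Q z φ ⊓ s.sp1 z = ⊥ := by
    rw [eq_bot_iff]
    rintro v ⟨a, rfl | rfl⟩
    · exact zero_mem _
    · exact absurd a (S.zell f)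
  have e2 : ell X Q z φ ⊔ s.sp1 z = X.R z φ := by
    apply le_antisymm (sup_le inf_le_left (by
      rintro _ (rfl | rfl)
      · exact zero_mem _
      · exact zR _ _))
    intro v hv
    rcases S.Rfix f (av_mem (S.RQ f hv)) (av_Fx v) with e | e
    · exact AddSubgroup.mem_sup_left ⟨hv, e⟩
    · rw [← s.acc v z]
      refine AddSubgroup.add_mem_sup ⟨add_mem hv (zR _ _), ?_⟩ (Or.inr rfl)
      show av Q (v + z) = 0
      rw [map_add, e, av_fix s S.ho f.1, s.aa]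
  rw [e1, e2, S.cR f.2.2.1 f.2.2.2.1 f.2.2.2.2, s.card_sp1 f.2.2.1, AddSubgroup.card_bot] at c
  omega

theorem ell_sp {z : V} {φ : V'} (f : Fl s Q z φ) : ∃ w1 w2, w1 ∈ X.R z φ ∧ w2 ∈ X.R z φ ∧ w1 ≠ 0 ∧
    w2 ≠ 0 ∧ w2 ≠ w1 ∧ ell X Q z φ = s.sp2 w1 w2 := by
  have c := S.card_ell f
  obtain ⟨w1, p1, q1⟩ := exn (A := ⊥) (B := ell X Q z φ) (by rw [AddSubgroup.card_bot]; omega)
  rw [AddSubgroup.mem_bot] at q1
  obtain ⟨w2, p2, q2⟩ := exn (A := s.sp1 w1) (B := ell X Q z φ) (by rw [s.card_sp1 q1]; omega)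
  simp only [Pg.mem_sp1, not_or] at q2
  exact ⟨w1, w2, p1.1, p2.1, q1, q2.1, q2.2, (AddSubgroup.eq_of_le_of_card_ge (sp2_le' s p1 p2)
    (by rw [c, s.card_sp2 q1 q2.1 q2.2])).symm⟩

theorem ell_N {n : G} (hn : n ∈ Subgroup.normalizer (Q : Set G)) (z : V) (φ : V') :
    n • ell X Q z φ = ell X Q (n • z) (n • φ) := by
  ext v
  rw [AddSubgroup.mem_pointwise_smul_iff_inv_smul_mem]
  simp only [ell, AddSubgroup.mem_inf, AddMonoidHom.mem_ker]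
  rw [R_inv S.h n, smul_inv_smul, av_N (Subgroup.inv_mem _ hn), sz]

theorem Fl_N {n : G} (hn : n ∈ Subgroup.normalizer (Q : Set G)) {z : V} {φ : V'} (f : Fl s Q z φ) :
    Fl s Q (n • z) (n • φ) :=
  ⟨Fx_N hn f.1, Fx_N hn f.2.1, by simpa using f.2.2.1, by simpa using f.2.2.2.1,
    (S.h.inv _ _ _).trans f.2.2.2.2⟩

theorem rho_N {n : G} (hn : n ∈ Subgroup.normalizer (Q : Set G)) {z y : V} {φ : V'}
    (r : rho X Q z φ y) : rho X Q (n • z) (n • φ) (n • y) := by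
  obtain ⟨a, ψ, b, c⟩ := r
  exact ⟨by simpa using a, n • ψ, S.Fl_N hn b, by rw [← S.ell_N hn, ← S.ell_N hn, c]⟩

theorem le2 {z : V} {φ : V'} (f : Fl s Q z φ) : {y | rho X Q z φ y}.ncard ≤ 2 := by
  obtain ⟨w1, w2, p1, p2, q1, q2, q3, e⟩ := S.ell_sp f
  have := dcle {y | rho X Q z φ y} (NB.oth X (s.sp2 w1 w2) (X.R z φ))
    (fun y E => ∃ ψ, Fl s Q y ψ ∧ E = X.R y ψ) (m := 1) (n := 1) (by
      rintro y ⟨a, ψ, b, c⟩
      refine (Set.ncard_pos (Set.toFinite _)).2 ⟨X.R y ψ, ⟨?_, fun h' => ?_, y, ψ, b.2.2.1,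
        b.2.2.2.1, b.2.2.2.2, rfl⟩, ψ, b, rfl⟩
      · rw [← e, c]; exact inf_le_left
      · rcases S.Rfix f (h' ▸ zR y ψ) b.1 with d | d
        · exact b.2.2.1 d
        · exact a d) (by
      intro E _
      rw [Set.ncard_le_one_iff]
      rintro y y' ⟨-, ψ, a, rfl⟩ ⟨-, ψ', b, c⟩
      exact ((S.Rfix a (c ▸ zR y' ψ') b.1).resolve_left b.2.2.1).symm)
  have h2 := (S.oth_le f.2.2.1 f.2.2.2.1 f.2.2.2.2 p1 p2 q1 q2 q3).1
  omega

theorem exr {z : V} {φ : V'} (f : Fl s Q z φ) : ∃ y, rho X Q z φ y := by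
  have : Fact (Nat.Prime 3) := ⟨by norm_num⟩
  obtain ⟨w1, w2, p1, p2, q1, q2, q3, e⟩ := S.ell_sp f
  obtain ⟨o1, o2⟩ := S.oth_le f.2.2.1 f.2.2.2.1 f.2.2.2.2 p1 p2 q1 q2 q3
  have o3 := (Set.ncard_pos (Set.toFinite _)).2 o2
  rw [← e] at o1 o3
  have lQ : ∀ q ∈ Q, q • ell X Q z φ = ell X Q z φ := fun q hq => by
    rw [S.ell_N (Subgroup.le_normalizer hq), f.1 q hq, f.2.1 q hq]
  obtain ⟨E, ⟨a1, a2, w, χ, a3, a4, a5, rfl⟩, hE⟩ := exodd Q 3 _ (NB.oth X (ell X Q z φ) (X.R z φ))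
    rfl (by
      rintro q hq E ⟨a1, a2, w, χ, a3, a4, a5, rfl⟩
      refine ⟨?_, fun h' => a2 ?_, q • w, q • χ, by simpa using a3, by simpa using a4,
        (S.h.inv _ _ _).trans a5, R_smul S.h _ _ _⟩
      · rw [← lQ q hq]; exact AddSubgroup.pointwise_smul_le_pointwise_smul_iff.2 a1
      · apply smul_left_cancel q
        rw [h', R_smul S.h, f.1 q hq, f.2.1 q hq]) (by omega)
  have fx := pfix S.p hE
  have cE := S.cR a3 a4 a5
  have cl := S.card_ell f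
  obtain ⟨x, x1, x2⟩ := exn (A := ell X Q z φ) (B := X.R w χ) (by omega)
  have xq : ∀ q ∈ Q, q • x ∈ X.R w χ := fun q hq => by
    rw [← fx q hq]; exact AddSubgroup.smul_mem_pointwise_smul _ _ _ x1
  have y1 : av Q x + x ∈ ell X Q z φ := av_add s S.ho fun q hq =>
    half s a1 (by omega) x1 x2 (xq q hq) fun h' => x2 (by
      rw [← lQ q hq, AddSubgroup.smul_mem_pointwise_smul_iff] at h'; exact h')
  have y2 : av Q x ∉ ell X Q z φ := fun h' => x2 (by simpa [s.aac] using add_mem h' y1)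
  have y3 : av Q x ∈ X.R w χ := av_mem xq
  have y0 : av Q x ≠ 0 := fun h' => y2 (h' ▸ zero_mem _)
  obtain ⟨ψ, b1, b2, b3⟩ := S.clA a3 a4 a5 y3 y0
  have fl : Fl s Q (av Q x) ψ := by
    refine ⟨av_Fx x, fun q hq => ?_, y0, b1, b2⟩
    refine uniq S.h S.k S.a4 y0 b1 b2 (by simpa using b1) ((S.h.inv.r (av_Fx x q hq) ψ).trans b2) ?_
    rw [← av_Fx x q hq, ← R_smul S.h, av_Fx x q hq, b3, fx q hq]
  refine ⟨av Q x, fun h' => a2 ?_, ψ, fl, AddSubgroup.eq_of_le_of_card_ge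
    (fun v hv => ⟨b3 ▸ a1 hv, hv.2⟩) (by rw [cl, S.card_ell fl])⟩
  have cR := S.cR f.2.2.1 f.2.2.2.1 f.2.2.2.2
  rcases idx2 (A := ell X Q z φ) (B := X.R z φ ⊓ X.R w χ) (R := X.R z φ)
    (le_inf inf_le_left a1) inf_le_left (by omega) with e | e
  · exact absurd (e ▸ ⟨zR _ _, h' ▸ y3⟩) (S.zell f)
  · exact (AddSubgroup.eq_of_le_of_card_ge (inf_eq_left.1 e) (by omega)).symm

theorem Nsw {z y z' y' u : V} (a : z ∈ Fx Q V) (b : y ∈ Fx Q V) (c : z' ∈ Fx Q V) (d : y' ∈ Fx Q V)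
    (e : u ∈ Fx Q V) (hz : z' ≠ 0) (hy : y' ≠ 0) (hyz : y' ≠ z') {g : G} (g1 : g • z = z')
    (g2 : g • y = y') (g3 : g • u = u) :
    ∃ n ∈ Subgroup.normalizer (Q : Set G), n • z = z' ∧ n • y = y' ∧ n • u = u := by
  have : Fact (Nat.Prime 3) := ⟨by norm_num⟩
  obtain ⟨h, hh, hn⟩ := witt (H := stabilizer G z' ⊓ stabilizer G y' ⊓ stabilizer G u) S.p (fun h3 =>
    S.hP c d hz hy hyz (h3.trans (Dvd.intro _ (Subgroup.relIndex_mul_relIndex _ _ _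
      (fun q hq => ⟨⟨c q hq, d q hq⟩, e q hq⟩) inf_le_left)))) (g := g) (by
      intro q hq
      have k : ∀ v v' : V, v ∈ Fx Q V → g • v = v' → (g * q * g⁻¹) • v' = v' := by
        rintro v _ hv rfl
        rw [mul_smul, mul_smul, inv_smul_smul, hv q hq]
      exact ⟨⟨k _ _ a g1, k _ _ b g2⟩, k _ _ e g3⟩)
  exact ⟨h * g, hn, by rw [mul_smul, g1]; exact hh.1.1, by rw [mul_smul, g2]; exact hh.1.2,
    by rw [mul_smul, g3]; exact hh.2⟩

theorem un {z y : V} {φ φ' : V'} (f : Fl s Q z φ) (f' : Fl s Q z φ') (r : rho X Q z φ y)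
    (r' : rho X Q z φ' y) : φ = φ' := by
  by_contra hn
  obtain ⟨a, ψ, b, -⟩ := id r
  let t := subPg S.h.inv S.ho
  let z' : Fx Q V := ⟨z, f.1⟩
  have z0 : z' ≠ 0 := fun h' => f.2.2.1 (congrArg Subtype.val h')
  have e := dcle {u | u ∈ (⊤ : AddSubgroup (Fx Q V)) ∧ u ∉ t.sp1 z'}
    {χ | χ ∈ t.ker z' ∧ χ ∉ (⊥ : AddSubgroup (Fx Q V'))} (fun u χ => rho X Q z χ u)
    (m := 2) (n := 2) (by
      rintro u ⟨-, hu⟩
      simp only [Pg.mem_sp1, not_or] at hu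
      have u0 : (u : V) ≠ 0 := fun h' => hu.1 (Subtype.ext h')
      have uz : (u : V) ≠ z := fun h' => hu.2 (Subtype.ext h')
      obtain ⟨g, g1, g2⟩ := S.h.two z y z u f.2.2.1 b.2.2.1 a f.2.2.1 u0 uz
      obtain ⟨n, hn', n1, n2, -⟩ := S.Nsw f.1 b.1 f.1 u.2 (zero_mem _) f.2.2.1 u0 uz g1 g2
        (smul_zero g)
      have k : ∀ φ, ∀ f : Fl s Q z φ, rho X Q z φ y → (⟨n • φ, Fx_N hn' f.2.1⟩ : Fx Q V') ∈
          {χ | χ ∈ {χ | χ ∈ t.ker z' ∧ χ ∉ (⊥ : AddSubgroup (Fx Q V'))} ∧ rho X Q z χ u} := by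
        intro φ f r
        refine ⟨⟨(S.h.inv.r n1 φ).trans f.2.2.2.2, fun h' => f.2.2.2.1 ?_⟩, ?_⟩
        · simpa using congrArg Subtype.val (AddSubgroup.mem_bot.1 h')
        · have := S.rho_N hn' r
          rwa [n1, n2] at this
      rw [← Set.ncard_pair (a := (⟨n • φ, Fx_N hn' f.2.1⟩ : Fx Q V'))
        (b := ⟨n • φ', Fx_N hn' f'.2.1⟩) (by simpa using hn)]
      apply Set.ncard_le_ncard _ (Set.toFinite _)
      rintro _ (rfl | rfl)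
      · exact k φ f r
      · exact k φ' f' r') (by
      rintro χ ⟨c, d⟩
      refine le_trans ?_ (S.le2 (z := z) (φ := χ) ⟨f.1, χ.2, f.2.2.1,
        fun h' => d (AddSubgroup.mem_bot.2 (Subtype.ext h')), c⟩)
      exact Set.ncard_le_ncard_of_injOn Subtype.val (fun u hu => hu.2) Subtype.val_injective.injOn)
  rw [ncard_diff le_top, ncard_diff bot_le, t.card_sp1 z0, AddSubgroup.card_top,
    AddSubgroup.card_bot] at e
  have c1 := t.card_ker z0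
  have c2 := AddSubgroup.card_le_of_le (le_top (a := t.sp2 z' ⟨y, b.1⟩))
  rw [t.card_sp2 z0 (fun h' => b.2.2.1 (congrArg Subtype.val h'))
    (fun h' => a (congrArg Subtype.val h')), AddSubgroup.card_top] at c2
  omega

theorem false : False := by
  obtain ⟨z, φ, f⟩ := S.ex
  obtain ⟨y, r⟩ := S.exr f
  obtain ⟨a, ψ, b, c⟩ := id r
  have r' : rho X Q y ψ z := ⟨a.symm, φ, f, c.symm⟩
  obtain ⟨w1, w2, p1, p2, q1, q2, q3, e⟩ := S.ell_sp f
  have l2 : s.sp2 w1 w2 ≤ X.R y ψ := by rw [← e, c]; exact inf_le_left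
  have n1 : z ∉ s.sp2 w1 w2 := e ▸ S.zell f
  have n2 : y ∉ s.sp2 w1 w2 := by rw [← e, c]; exact S.zell b
  have hz := f.2.2.1
  have hφ := f.2.2.2.1
  have h1 := f.2.2.2.2
  have hy := b.2.2.1
  have h2 : s.β y φ = 0 := S.far hz hφ h1 p1 p2 q1 q2 q3 n1 hy b.2.2.2.1 b.2.2.2.2 l2 (zR _ _)
  have key : ∀ u ∈ Fx Q V, ∀ g : G, g • z = y → g • y = z → g • u = u →
      s.β u ψ = s.β u φ ∧ s.β z ψ = 0 := by
    intro u hu g g1 g2 g3
    obtain ⟨n, hn, n1, n2, n3⟩ := S.Nsw f.1 b.1 b.1 f.1 hu hy hz a.symm g1 g2 g3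
    have e1 := S.rho_N hn r
    have e2 := S.Fl_N hn f
    rw [n1] at e2
    rw [n1, n2] at e1
    rw [← S.un e2 b e1 r']
    exact ⟨S.h.inv.r n3 φ, by rw [← n2, S.h.inv, h2]⟩
  obtain ⟨g, g1, g2⟩ := S.h.two z y y z hz hy a hy hz a.symm
  have h3 := (key 0 (zero_mem _) g g1 g2 (smul_zero g)).2
  have e1 : φ = ψ := by
    refine s.dual.az.1 (congrArg Subtype.val ((subPg S.h.inv S.ho).ndr
      ⟨φ + ψ, add_mem f.2.1 b.2.1⟩ fun u => ?_))
    show s.β u (φ + ψ) = 0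
    rw [s.addr]
    by_cases hu : (u : V) ∈ s.sp2 z y
    · have k : ∀ χ, s.β z χ = 0 → s.β y χ = 0 → s.β u χ = 0 := fun χ c1 c2 =>
        (show χ ∈ s.ann (s.sp2 z y) by rw [s.ann_sp2]; exact ⟨c1, c2⟩) u hu
      rw [k φ h1 h2, k ψ h3 b.2.2.2.2, add_zero]
    · obtain ⟨g, g1, g2, g3⟩ := S.h.swap hz hy a hu
      rw [(key u u.2 g g1 g2 g3).1, zaa]
  subst e1
  have k : ∀ z : V, z ≠ 0 → s.β z φ = 0 → s.sp2 w1 w2 ≤ X.R z φ → z ∉ s.sp2 w1 w2 →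
      X.f w1 w2 ⊔ s.dual.sp1 φ = Y.R φ z := by
    intro z hz h1 l n
    obtain ⟨f1, f2⟩ := S.fl hz hφ h1 (l (show w1 ∈ _ by simp [Pg.mem_sp2]))
      (l (show w2 ∈ _ by simp [Pg.mem_sp2])) q1 q2 q3 n
    refine (idx2 le_sup_left (sup_le f1 (by
      rintro _ (rfl | rfl)
      · exact zero_mem _
      · exact zR _ _)) (by
        rw [card_R S.h.dual hφ hz h1, card_f S.h q1 q2 q3, S.k.ab])).resolve_left fun e => ?_
    exact f2 (e ▸ AddSubgroup.mem_sup_right (Or.inr rfl))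
  exact a (uniq S.h.dual S.k' (S.k.ab.symm.trans S.a4) hφ hz h1 hy h2
    ((k z hz h1 (sp2_le' s p1 p2) n1).symm.trans (k y hy h2 l2 n2)))

end Sy

theorem beta (h : Hy s G) (X : Geo s G) : 4 * X.a = Nat.card V := by
  by_contra hβ
  obtain ⟨Y⟩ := h.dual.geo
  obtain ⟨i, hi⟩ := a_pow (X := X) h
  rcases tri (Y := Y) h hβ with e | e | ⟨k, k'⟩
  · exact a2 h hβ e
  · refine a2 h.dual ?_ e
    have := ab4 (Y := Y) h hβ
    have : 0 < 2 ^ i := by positivity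
    rw [s.card_eq]; nlinarith
  by_cases hB : ∀ z y φ, X.Sp z y φ → X.R z φ = X.R y φ
  · exact Blk.false (X := Y) (Y := X) ⟨h.dual, k', hB⟩
  push Not at hB
  obtain ⟨z, y, φ, a, b⟩ := hB
  have a4 : X.a = 4 := by
    by_contra hc
    refine b (blk8 h k k' ?_ a)
    have := k.a4
    rcases i with _ | _ | i
    · omega
    · omega
    · have : 0 < 2 ^ i := by positivity
      rw [pow_succ, pow_succ] at hi; omega
  obtain ⟨Q, S⟩ := NB.sy (X := X) (Y := Y) ⟨h, k, k', a4, fun a' e => by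
    obtain ⟨g, rfl, rfl, rfl⟩ := X.tr a a'
    rw [← R_smul h, ← R_smul h] at e
    exact b (smul_left_cancel g e)⟩
  exact S.false

end Geo

/-- Main lemma: transitivity on triples `(z, y, φ)` with `z, y ∈ ker φ`. -/
theorem Hy.main {s : Pg V V'} {G : Type*} [Group G] [Finite G] [DistribMulAction G V]
    [DistribMulAction G V'] (h : Hy s G) {z y z' y' : V} {φ φ' : V'} (hz : z ≠ 0) (hy : y ≠ 0)
    (hyz : y ≠ z) (hφ : φ ≠ 0) (h1 : s.β z φ = 0) (h2 : s.β y φ = 0) (hz' : z' ≠ 0) (hy' : y' ≠ 0)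
    (hyz' : y' ≠ z') (hφ' : φ' ≠ 0) (h1' : s.β z' φ' = 0) (h2' : s.β y' φ' = 0) :
    ∃ g : G, g • z = z' ∧ g • y = y' ∧ g • φ = φ' := by
  obtain ⟨X⟩ := h.geo
  have key : ∀ {z y : V} {φ : V'}, z ≠ 0 → y ≠ 0 → y ≠ z → φ ≠ 0 → s.β z φ = 0 → s.β y φ = 0 →
      X.Sp z y φ := by
    intro z y φ hz hy hyz hφ h1 h2
    have : X.R z φ = s.dual.ker φ := AddSubgroup.eq_of_le_of_card_ge
      (fun u hu => Geo.R_ker h h1 hu) (by
        have c1 := s.dual.card_ker hφ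
        have c2 := Geo.beta h X
        rw [s.card_eq] at c1
        rw [Geo.card_R h hz hφ h1]; omega)
    exact Geo.of_R h hz hφ h1 (this ▸ h2) hy hyz
  exact X.tr (key hz hy hyz hφ h1 h2) (key hz' hy' hyz' hφ' h1' h2')

end H20.CK
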