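import Cfsg.Agent.H20.CK.K

/-! Groups doubly transitive on the non-zero vectors of a space over the field of order two. -/

set_option autoImplicit false
set_option linter.unusedSectionVars false

namespace H20.CK
open MulAction

def Du (V : Type*) [AddCommGroup V] := V →+ ZMod 2

section du
variable {V : Type*} [AddCommGroup V]
instance : AddCommGroup (Du V) := inferInstanceAs (AddCommGroup (V →+ ZMod 2))
instance [Finite V] : Finite (Du V) := DFunLike.finite (V →+ ZMod 2)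
def Du.to (φ : Du V) : V →+ ZMod 2 := φ

instance {G : Type*} [Group G] [DistribMulAction G V] : DistribMulAction G (Du V) where
  smul g φ := φ.to.comp (DistribSMul.toAddMonoidHom V g⁻¹)
  one_smul φ := AddMonoidHom.ext fun v => by
    show φ.to ((1 : G)⁻¹ • v) = φ.to v
    simp
  mul_smul g h φ := AddMonoidHom.ext fun v => by
    show φ.to ((g * h)⁻¹ • v) = φ.to (h⁻¹ • g⁻¹ • v)
    simp [mul_smul]
  smul_zero g := rfl
  smul_add g φ ψ := rfl

def pg (h2 : ∀ v : V, v + v = 0) : Pg V (Du V) where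
  β v φ := φ.to v
  addl u v φ := map_add _ u v
  addr _ _ _ := rfl
  ndl v h := by
    letI : Module (ZMod 2) V := AddCommGroup.zmodModule (fun x => by rw [two_nsmul, h2])
    exact (Module.forall_dual_apply_eq_zero_iff (ZMod 2) v).1 fun φ => h φ.toAddMonoidHom
  ndr φ h := AddMonoidHom.ext h

theorem pg_inv (h2 : ∀ v : V, v + v = 0) (G : Type*) [Group G] [DistribMulAction G V] :
    (pg h2).Inv G := fun g v φ => by
  show φ.to (g⁻¹ • g • v) = φ.to v
  simp

def tvE (h2 : ∀ v : V, v + v = 0) (f : V → ZMod 2) (hf : ∀ u v, f (u + v) = f u + f v) (x : V)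
    (hx : f x = 0) : V ≃+ V :=
  have inv : Function.Involutive fun v => if f v = 0 then v else v + x := fun v => by
    by_cases h : f v = 0
    · simp [h]
    · simp [h, hf, hx, add_assoc, h2]
  { inv.toPerm with
    map_add' := fun u v => by
      show (if f (u + v) = 0 then u + v else u + v + x) =
        (if f u = 0 then u else u + x) + (if f v = 0 then v else v + x)
      rcases z01 (f u) with a | a <;> rcases z01 (f v) with b | b <;> simp [hf, a, b, z11]
      · rw [add_assoc]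
      · rw [add_right_comm]
      · rw [add_add_add_comm, h2, add_zero] }

end du

def Full (G V : Type*) [Group G] [AddCommGroup V] [DistribMulAction G V] : Prop :=
  ∀ e : V ≃+ V, ∃ g : G, ∀ v, g • v = e v

variable {V V' : Type*} [AddCommGroup V] [AddCommGroup V'] [Finite V] [Finite V']

def Tv (s : Pg V V') (G : Type*) [Group G] [DistribMulAction G V] (x : V) (φ : V') : Prop :=
  ∃ g : G, ∀ v, g • v = if s.β v φ = 0 then v else v + x

theorem full_of_tv (s : Pg V V') {G : Type*} [Group G] [DistribMulAction G V]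
    (h : ∀ x φ, x ≠ 0 → φ ≠ 0 → s.β x φ = 0 → Tv s G x φ) : Full G V := by
  intro e
  let U : G → AddSubgroup V := fun g => s.mk' {v | g • v = e v} (by simp) (by
    intro u hu v hv
    simp only [Set.mem_ofPred_eq] at hu hv ⊢
    rw [smul_add, map_add, hu, hv])
  obtain ⟨A, ⟨g, rfl⟩, hA⟩ := Set.Finite.exists_maximal (Set.toFinite (Set.range U)) ⟨_, 1, rfl⟩
  refine ⟨g, fun v => ?_⟩
  by_contra hv
  let A := (U g).map e.toAddMonoidHom
  have h1 : e v ∉ A := by
    rintro ⟨u, hu, e1⟩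
    exact hv (e.injective e1 ▸ hu)
  have h2 : g • v ∉ A := by
    rintro ⟨u, hu, e1⟩
    have : g • u = g • v := hu.trans e1
    exact hv (smul_left_cancel g this ▸ hu)
  obtain ⟨φ, a, b, c⟩ := s.both (s.sep h1) (s.sep h2)
  obtain ⟨t, ht⟩ := h (g • v + e v) φ (fun h' => hv (s.az.1 h')) (by rintro rfl; simp at b)
    (by rw [s.addl, b, c, z11])
  have le : U g ≤ U (t * g) := by
    intro u hu
    show (t * g) • u = e u
    rw [mul_smul, show g • u = e u from hu, ht, if_pos (a (e u) ⟨u, hu, rfl⟩)]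
  apply hv
  apply hA ⟨_, rfl⟩ le
  show (t * g) • v = e v
  rw [mul_smul, ht, c, if_neg z10, s.aac]

@[reducible] def actW {s : Pg V V'} {G : Type*} [Group G] [DistribMulAction G V]
    [DistribMulAction G V'] (hi : s.Inv G) (φ : V') :
    DistribMulAction (stabilizer G φ) (s.dual.ker φ) where
  smul g w := ⟨(g : G) • (w : V), (hi.l g.2 w).trans w.2⟩
  one_smul w := Subtype.ext (one_smul G (w : V))
  mul_smul g h w := Subtype.ext (mul_smul (g : G) h (w : V))
  smul_zero g := Subtype.ext (smul_zero (g : G))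
  smul_add g u v := Subtype.ext (smul_add (g : G) (u : V) v)

theorem small (s : Pg V V') {G : Type*} [Group G] [DistribMulAction G V] (h : Two G V)
    (h8 : Nat.card V < 8) : Full G V := by
  intro e
  by_cases hc : ∃ z y : V, z ≠ 0 ∧ y ≠ 0 ∧ y ≠ z
  · obtain ⟨z, y, hz, hy, hyz⟩ := hc
    have c := s.card_sp2 hz hy hyz
    have d := AddSubgroup.card_addSubgroup_dvd_card (s.sp2 z y)
    have e1 : s.sp2 z y = ⊤ := AddSubgroup.eq_of_le_of_card_ge le_top (by
      have : 0 < Nat.card V := Nat.card_pos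
      rw [c] at d
      rw [AddSubgroup.card_top]; omega)
    obtain ⟨g, g1, g2⟩ := h z y (e z) (e y) hz hy hyz (by simpa using hz) (by simpa using hy)
      (by simpa using hyz)
    refine ⟨g, fun v => ?_⟩
    rcases (e1 ▸ AddSubgroup.mem_top v : v ∈ s.sp2 z y) with rfl | rfl | rfl | rfl <;>
      simp [g1, g2]
  · push Not at hc
    refine ⟨1, fun v => ?_⟩
    by_cases hv : v = 0
    · simp [hv]
    · rw [one_smul, hc v (e v) hv (by simpa using hv)]

section step
variable {s : Pg V V'} {G : Type*} [Group G] [Finite G] [DistribMulAction G V]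
  [DistribMulAction G V'] (h : Hy s G) (hf : ∀ g : G, (∀ v : V, g • v = v) → g = 1)
  (nt : ∀ x φ, x ≠ 0 → φ ≠ 0 → s.β x φ = 0 → ¬ Tv s G x φ) {φ : V'} (hφ : φ ≠ 0)
include h hf nt hφ

theorem faW {g : G} (hg : ∀ w, s.β w φ = 0 → g • w = w) (hg' : g • φ = φ) : g = 1 := by
  obtain ⟨v0, h0⟩ := s.dual.ex1 hφ
  replace h0 : s.β v0 φ = 1 := h0
  have key : ∀ v, g • v = if s.β v φ = 0 then v else v + (g • v0 + v0) := by
    intro v
    split_ifs with hv
    · exact hg v hv
    · have := hg (v + v0) (by rw [s.addl, zne0.1 hv, h0, z11])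
      rw [smul_add] at this
      rw [← s.acc (g • v) (g • v0), this]; abel
  by_cases hc : g • v0 + v0 = 0
  · exact hf g fun v => by rw [key, hc]; simp
  · exact absurd ⟨g, key⟩ (nt _ φ hc hφ (by rw [s.addl, h.inv.l hg', zaa]))

theorem n16 (hT : ∀ x ψ, s.β x φ = 0 → s.β x ψ = 0 → ∃ g : G, g • φ = φ ∧
    ∀ w, s.β w φ = 0 → g • w = if s.β w ψ = 0 then w else w + x) : Nat.card V = 16 := by
  obtain ⟨v0, h0⟩ := s.dual.ex1 hφ
  replace h0 : s.β v0 φ = 1 := h0
  have cW := s.dual.card_ker hφ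
  have h8 := h.h8
  rw [s.card_eq] at cW
  obtain ⟨x, x1, x0⟩ := exn (A := ⊥) (B := s.dual.ker φ) (by rw [AddSubgroup.card_bot]; omega)
  rw [AddSubgroup.mem_bot] at x0
  replace x1 : s.β x φ = 0 := x1
  obtain ⟨w1, p1, q1⟩ := exn (A := s.sp1 x) (B := s.dual.ker φ) (by rw [s.card_sp1 x0]; omega)
  simp only [Pg.mem_sp1, not_or] at q1
  replace p1 : s.β w1 φ = 0 := p1
  obtain ⟨ψ, r1, r2⟩ := s.sep1 q1.1 q1.2
  obtain ⟨t, t1, t2⟩ := hT x ψ x1 r1
  obtain ⟨c, hc⟩ : ∃ c, t • v0 = v0 + c := ⟨v0 + t • v0, by rw [s.aac]⟩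
  have c1 : s.β c φ = 0 := by
    rw [← s.aac v0 c, ← hc, s.addl, h.inv.l t1, zaa]
  have tt : t * t = 1 := faW h hf nt hφ (fun w hw => by
    rw [mul_smul, t2 w hw]
    split_ifs with a
    · rw [t2 w hw, if_pos a]
    · rw [smul_add, t2 w hw, if_neg a, t2 x x1, if_pos r1, s.acc]) (by rw [mul_smul, t1, t1])
  have c2 : s.β c ψ = 0 := by
    by_contra hn
    have : (t * t) • v0 = v0 := by rw [tt, one_smul]
    rw [mul_smul, hc, smul_add, hc, t2 c c1, if_neg hn, add_assoc, s.aac, add_eq_left] at this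
    exact x0 this
  have c3 : c ∉ s.sp1 x := by
    intro hn
    obtain ⟨χ, a1, a2⟩ : ∃ χ, (∀ w, s.β w φ = 0 → s.β w χ = s.β w ψ) ∧ (s.β v0 χ = 0 ↔ c = 0) := by
      by_cases e : s.β v0 ψ = 0 ↔ c = 0
      · exact ⟨ψ, fun _ _ => rfl, e⟩
      · refine ⟨ψ + φ, fun w hw => by rw [s.addr, hw, add_zero], ?_⟩
        rw [s.addr, h0]
        rcases z01 (s.β v0 ψ) with b | b <;> simp_all [z11]
    refine nt x χ x0 (by rintro rfl; have := a1 w1 p1; simp [r2] at this) ((a1 x x1).trans r1)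
      ⟨t, fun v => ?_⟩
    rcases z01 (s.β v φ) with hv | hv
    · rw [t2 v hv, a1 v hv]
    · have hw : s.β (v0 + v) φ = 0 := by rw [s.addl, hv, h0, z11]
      rw [← s.aac v0 v]
      generalize v0 + v = w at hw
      rw [smul_add, hc, t2 w hw, s.addl, a1 w hw]
      rcases hn with rfl | rfl
      · rw [a2.2 rfl]; split_ifs with b1 b2 b2 <;> simp_all [add_assoc]
      · rw [zne0.1 fun h' => x0 (a2.1 h')]
        rcases z01 (s.β w ψ) with b | b
        · simp only [b, add_zero, if_true, z10, if_false]; abel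
        · simp only [b, z11, if_true, z10, if_false]
          rw [add_add_add_comm, s.aa, add_zero]
  simp only [Pg.mem_sp1, not_or] at c3
  have ψ0 : ψ ≠ 0 := by rintro rfl; simp at r2
  have ψφ : ψ ≠ φ := by rintro rfl; exact z10 (r2.symm.trans p1)
  have c4 := s.dual.card_ker2 hφ ψ0 ψφ
  rw [s.card_eq] at c4
  have hle : s.sp2 x c ≤ s.dual.ker φ ⊓ s.dual.ker ψ := sp2_le' s ⟨x1, r1⟩ ⟨c1, c2⟩
  have c5 := AddSubgroup.card_le_of_le hle
  rw [s.card_sp2 x0 c3.1 c3.2] at c5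
  by_contra hn
  obtain ⟨x', ⟨y1, y2⟩, y3⟩ := exn (A := s.sp2 x c) (B := s.dual.ker φ ⊓ s.dual.ker ψ)
    (by rw [s.card_sp2 x0 c3.1 c3.2]; omega)
  replace y1 : s.β x' φ = 0 := y1
  replace y2 : s.β x' ψ = 0 := y2
  simp only [Pg.mem_sp2, not_or] at y3
  obtain ⟨ψ', z1, z2, z3⟩ := s.sep2 (z := x) (y := x') (x := c) (by
    simp only [Pg.mem_sp2, not_or]
    exact ⟨c3.1, c3.2, Ne.symm y3.2.2.1, fun h' => y3.2.2.2 (by rw [h', s.aac])⟩)
  obtain ⟨g, g1, g2⟩ := hT x' ψ' y1 z2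
  have cm : (t * g)⁻¹ * (g * t) = 1 := faW h hf nt hφ (fun w hw => by
    rw [mul_smul, inv_smul_eq_iff, mul_smul, mul_smul, t2 w hw, g2 w hw]
    split_ifs with a b b
    · rw [t2 w hw, g2 w hw, if_pos a, if_pos b]
    · rw [smul_add, t2 w hw, g2 w hw, if_pos a, if_neg b, t2 x' y1, if_pos y2]
    · rw [smul_add, t2 w hw, g2 w hw, if_neg a, if_pos b, g2 x x1, if_pos z1]
    · rw [smul_add, smul_add, t2 w hw, g2 w hw, if_neg a, if_neg b, g2 x x1, if_pos z1, t2 x' y1,
        if_pos y2, add_right_comm])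
    (by rw [mul_smul, inv_smul_eq_iff, mul_smul, mul_smul, t1, g1, t1])
  obtain ⟨d, hd⟩ : ∃ d, g • v0 = v0 + d := ⟨v0 + g • v0, by rw [s.aac]⟩
  have d1 : s.β d φ = 0 := by
    rw [← s.aac v0 d, ← hd, s.addl, h.inv.l g1, zaa]
  have e : (t * g) • v0 = (g * t) • v0 := by rw [inv_mul_eq_one.1 cm]
  rw [mul_smul, mul_smul, hc, hd, smul_add, smul_add, hc, hd, g2 c c1, z3, if_neg z10,
    t2 d d1, add_assoc, add_assoc, add_right_inj] at e
  split_ifs at e
  · rw [← add_assoc, add_comm d, left_eq_add] at e; exact y3.1 e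
  · rw [← add_assoc, ← add_assoc, add_comm d, add_right_inj] at e; exact y3.2.1 e.symm

theorem nd16 (hN : Nat.card V = 16) : ¬ 16 ∣ Nat.card G := by
  have cW := s.dual.card_ker hφ
  rw [s.card_eq] at cW
  obtain ⟨z, z1, hz⟩ := exn (A := ⊥) (B := s.dual.ker φ) (by rw [AddSubgroup.card_bot]; omega)
  rw [AddSubgroup.mem_bot] at hz
  obtain ⟨y, y1, q1⟩ := exn (A := s.sp1 z) (B := s.dual.ker φ) (by rw [s.card_sp1 hz]; omega)
  simp only [Pg.mem_sp1, not_or] at q1
  have c2 := s.card_sp2 hz q1.1 q1.2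
  obtain ⟨u, u1, u2⟩ := exn (A := s.sp2 z y) (B := s.dual.ker φ) (by omega)
  have i1 := h.idx2 hz q1.1 q1.2
  have i2 := Subgroup.relIndex_mul_index
    (inf_le_left (a := stabilizer G z ⊓ stabilizer G y) (b := stabilizer G φ))
  have c3 := ncard_diff (bot_le (a := s.ker z ⊓ s.ker y))
  have c4 := s.card_ker2 hz q1.1 q1.2
  rw [AddSubgroup.card_bot] at c3
  rw [relIndex_stab, orb_eq (H := stabilizer G z ⊓ stabilizer G y)
    (Y := {v | v ∈ s.ker z ⊓ s.ker y ∧ v ∉ (⊥ : AddSubgroup V')})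
    (fun g hg => ⟨⟨(h.inv.r hg.1 φ).trans z1, (h.inv.r hg.2 φ).trans y1⟩, by simpa using hφ⟩)
    (fun ψ hψ => by
      obtain ⟨g, g1, g2, g3⟩ := h.main hz q1.1 q1.2 hφ z1 y1 hz q1.1 q1.2 (by simpa using hψ.2)
        hψ.1.1 hψ.1.2
      exact ⟨g, ⟨g1, g2⟩, g3⟩), c3, i1, hN] at i2
  set J := stabilizer G z ⊓ stabilizer G y ⊓ stabilizer G φ
  have fx : ∀ g ∈ J, ∀ v ∈ s.sp2 z y, g • v = v := by
    rintro g hg _ (rfl | rfl | rfl | rfl)
    · simp
    · exact hg.1.1
    · exact hg.1.2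
    · rw [smul_add, mem_stabilizer_iff.1 hg.1.1, mem_stabilizer_iff.1 hg.1.2]
  have hle := sp2_le' s z1 y1
  have e1 : J ⊓ stabilizer G u = ⊥ := by
    rw [eq_bot_iff]
    intro g hg
    refine faW h hf nt hφ (fun w hw => ?_) hg.1.2
    by_cases a : w ∈ s.sp2 z y
    · exact fx g hg.1 w a
    · rw [← s.acc w u, smul_add, fx g hg.1 _ (half s hle (by omega) u1 u2 hw a),
        mem_stabilizer_iff.1 hg.2]
  have e2 := relIndex_stab J u
  rw [e1, Subgroup.relIndex_bot_left] at e2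
  have e3 : (orb J u).ncard ≤ 4 := by
    refine (Set.ncard_le_ncard ?_).trans (ncard_diff hle).le |>.trans (by omega)
    rintro _ ⟨g, hg, rfl⟩
    refine ⟨(h.inv.l hg.2 u).trans u1, fun h' => u2 ?_⟩
    have := fx g⁻¹ (J.inv_mem hg) _ h'
    rw [inv_smul_smul] at this
    rwa [this]
  have e4 := J.card_mul_index
  have e5 : 0 < Nat.card J := Nat.card_pos
  rw [← i2, show Nat.card (s.ker z ⊓ s.ker y : AddSubgroup V') = 4 by omega] at e4
  omega

end step

universe u v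

theorem thmT (n : ℕ) : ∀ (G : Type u) (V : Type v) [Group G] [Finite G] [AddCommGroup V] [Finite V]
    [DistribMulAction G V], Nat.card V = n → (∀ v : V, v + v = 0) →
    (∀ g : G, (∀ v : V, g • v = v) → g = 1) → Two G V →
    Full G V ∨ (Nat.card V = 16 ∧ ¬ 16 ∣ Nat.card G) := by
  induction n using Nat.strong_induction_on with
  | _ n ih =>
  intro G V _ _ _ _ _ hn h2 hf ht
  let s := pg h2
  by_cases h8 : Nat.card V < 8
  · exact Or.inl (small s ht h8)
  have h : Hy s G := ⟨pg_inv h2 G, ht, by omega⟩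
  by_cases nt : ∃ x φ, x ≠ 0 ∧ φ ≠ 0 ∧ s.β x φ = 0 ∧ Tv s G x φ
  · left
    obtain ⟨x, φ, a, b, c, t, ht⟩ := nt
    refine full_of_tv s fun x' φ' a' b' c' => ?_
    obtain ⟨g, rfl, rfl⟩ := h.fl a a' b b' (c.trans c'.symm)
    refine ⟨g * t * g⁻¹, fun v => ?_⟩
    rw [mul_smul, mul_smul, ht, ← h.inv g, smul_inv_smul]
    split_ifs <;> simp
  push Not at nt
  right
  obtain ⟨φ, hφ⟩ := h.dual.ex0
  letI := actW h.inv φ
  have cW := s.dual.card_ker hφ
  rw [s.card_eq] at cW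
  have h2' : ∀ v : s.dual.ker φ, v + v = 0 := fun v => Subtype.ext (h2 v)
  rcases ih (Nat.card (s.dual.ker φ)) (by omega) (stabilizer G φ) (s.dual.ker φ) rfl h2'
    (fun g hg => Subtype.ext (faW h hf nt hφ (fun w hw => congrArg Subtype.val (hg ⟨w, hw⟩)) g.2))
    (by
      intro z y z' y' a b c d e f
      obtain ⟨g, g1, g2, g3⟩ := h.main (z := z) (y := y) (z' := z') (y' := y') (by simpa using a)
        (by simpa using b) (by simpa using c) hφ z.2 y.2 (by simpa using d)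
        (by simpa using e) (by simpa using f) hφ z'.2 y'.2
      exact ⟨⟨g, g3⟩, Subtype.ext g1, Subtype.ext g2⟩) with hF | ⟨e1, e2⟩
  · have hN := n16 h hf nt hφ fun x ψ a b => by
      obtain ⟨g, hg⟩ := hF (tvE h2' (fun w => s.β w ψ) (fun u v => s.addl u v ψ) ⟨x, a⟩ b)
      refine ⟨g, g.2, fun w hw => (congrArg Subtype.val (hg ⟨w, hw⟩)).trans ?_⟩
      show ((if s.β w ψ = 0 then ⟨w, hw⟩ else ⟨w, hw⟩ + ⟨x, a⟩ : s.dual.ker φ) : V) = _
      split_ifs <;> rfl
    exact ⟨hN, nd16 h hf nt hφ hN⟩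
  · exfalso
    apply e2
    obtain ⟨v0, h0⟩ := s.dual.ex1 hφ
    have c1 := Hy.card1 (s := s.dual) hφ
    rw [← h.dual.orb1 hφ h0, ← relIndex_stab, s.card_eq] at c1
    rw [show 16 = (stabilizer G φ ⊓ stabilizer G v0).relIndex (stabilizer G φ) by omega]
    exact Subgroup.relIndex_dvd_card _ _

end H20.CK
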