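import Cfsg.Agent.H20.CK.L
import Cfsg.Agent.H1.Fitting
import Cfsg.Agent.S0675

/-! Transitive linear groups when `2 ^ n - 1` is prime. -/

set_option autoImplicit false
set_option linter.unusedSectionVars false

namespace H20.CK
open MulAction

variable {G V : Type*} [Group G] [Finite G] [AddCommGroup V] [Finite V] [DistribMulAction G V]

def One (H : Subgroup G) (V : Type*) [AddCommGroup V] [DistribMulAction G V] : Prop :=
  ∀ v w : V, v ≠ 0 → w ≠ 0 → ∃ g ∈ H, g • v = w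

theorem One.orb {H : Subgroup G} (h : One H V) {v : V} (hv : v ≠ 0) :
    (orb H v).ncard = Nat.card V - 1 := by
  rw [← AddSubgroup.card_bot (G := V), ← AddSubgroup.card_top (G := V), ← ncard_diff le_top]
  congr 1
  exact orb_eq (fun g _ => by simpa using hv) fun y hy => h v y hv (by simpa using hy)

theorem singer (h2 : ∀ v : V, v + v = 0) (hf : ∀ g : G, (∀ v : V, g • v = v) → g = 1)
    (C : Subgroup G) [hC : C.Normal] (hc : ∀ a ∈ C, ∀ b ∈ C, a * b = b * a) (h1 : One C V) {v0 : V}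
    (h0 : v0 ≠ 0) {n : ℕ} (hn : Nat.card V = 2 ^ n) :
    Nat.card C = 2 ^ n - 1 ∧ ∃ m, m ∣ n ∧ Nat.card G = m * (2 ^ n - 1) := by
  let ρ : G →* AddMonoid.End V := DistribMulAction.toAddMonoidEnd G V
  have hρ : ∀ g v, ρ g v = g • v := fun _ _ => rfl
  have z0 : ∀ e : AddMonoid.End V, (∀ c ∈ C, ∀ v, e (c • v) = c • e v) → ∀ v ≠ 0, e v = 0 → e = 0 := by
    intro e he v hv h
    refine DFunLike.ext _ _ fun w => ?_
    by_cases hw : w = 0
    · simp [hw]
    obtain ⟨c, hc, rfl⟩ := h1 v w hv hw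
    rw [he c hc, h, smul_zero]; rfl
  let E : Subring (AddMonoid.End V) :=
    { carrier := {e | ∀ c ∈ C, ∀ v, e (c • v) = c • e v}
      zero_mem' := fun c _ v => (smul_zero c).symm
      one_mem' := fun _ _ _ => rfl
      add_mem' := fun {a b} ha hb c hc v => by
        show a (c • v) + b (c • v) = c • (a v + b v)
        rw [ha c hc, hb c hc, smul_add]
      neg_mem' := fun {a} ha c hc v => by
        show -a (c • v) = c • -a v
        rw [ha c hc, smul_neg]
      mul_mem' := fun {a b} ha hb c hc v => by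
        show a (b (c • v)) = c • a (b v)
        rw [hb c hc, ha c hc] }
  have cE : ∀ c ∈ C, ρ c ∈ E := fun c a d b v => by
    rw [hρ, hρ, ← mul_smul, ← mul_smul, hc c a d b]
  have ev : ∀ a b : E, a.1 v0 = b.1 v0 → a = b := by
    intro a b h
    rw [← sub_eq_zero]
    exact Subtype.ext (z0 _ (a - b).2 v0 h0 (sub_eq_zero.2 h))
  have cl : ∀ a : E, a = 0 ∨ ∃ c, ∃ hc : c ∈ C, a = ⟨ρ c, cE c hc⟩ := by
    intro a
    by_cases h : a.1 v0 = 0
    · exact Or.inl (ev a 0 h)
    · obtain ⟨c, hc, e⟩ := h1 v0 _ h0 h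
      exact Or.inr ⟨c, hc, ev _ _ e.symm⟩
  have hF : IsField E := ⟨⟨1, 0, fun h => h0 (congrArg (fun k : E => k.1 v0) h)⟩, fun a b => by
      rcases cl a with rfl | ⟨c, hc, rfl⟩
      · simp
      · exact Subtype.ext (DFunLike.ext _ _ fun v => (b.2 c hc v).symm), fun {a} ha => by
      obtain ⟨c, hc, rfl⟩ := (cl a).resolve_left ha
      exact ⟨⟨ρ c⁻¹, cE _ (C.inv_mem hc)⟩, Subtype.ext (by
        show ρ c * ρ c⁻¹ = 1
        rw [← map_mul, mul_inv_cancel, map_one])⟩⟩
  have cardE : Nat.card E = 2 ^ n := by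
    rw [← hn]
    refine Nat.card_eq_of_bijective (fun a : E => a.1 v0) ⟨ev, fun v => ?_⟩
    by_cases hv : v = 0
    · exact ⟨0, hv.symm⟩
    · obtain ⟨c, hc, e⟩ := h1 v0 v h0 hv
      exact ⟨⟨ρ c, cE c hc⟩, e⟩
  have fx : ∀ g : G, g • v0 = v0 → (∀ c ∈ C, g * c = c * g) → g = 1 := by
    intro g hg hgc
    refine hf g fun v => ?_
    by_cases hv : v = 0
    · simp [hv]
    obtain ⟨c, hc, rfl⟩ := h1 v0 v h0 hv
    rw [← mul_smul, hgc c hc, mul_smul, hg]
  have o1 := h1.orb h0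
  have o2 := One.orb (H := (⊤ : Subgroup G)) (fun v w a b => by
    obtain ⟨g, -, e⟩ := h1 v w a b
    exact ⟨g, trivial, e⟩) h0
  rw [← relIndex_stab, hn] at o1 o2
  rw [show C ⊓ stabilizer G v0 = ⊥ from eq_bot_iff.2 fun g hg => fx g hg.2 (hc g hg.1),
    Subgroup.relIndex_bot_left] at o1
  rw [top_inf_eq, Subgroup.relIndex_top_right] at o2
  refine ⟨o1, Nat.card (stabilizer G v0), ?_, by rw [← o2, Subgroup.card_mul_index]⟩
  letI := hF.toField
  have i1 : ∀ g : G, ρ g⁻¹ * ρ g = 1 := fun g => by rw [← map_mul, inv_mul_cancel, map_one]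
  letI : MulSemiringAction (stabilizer G v0) E :=
    { smul := fun g a => ⟨ρ g * a.1 * ρ (g : G)⁻¹, fun c hc v => by
        show (g : G) • a.1 ((g : G)⁻¹ • c • v) = c • (g : G) • a.1 ((g : G)⁻¹ • v)
        have := a.2 _ (hC.conj_mem' c hc g) ((g : G)⁻¹ • v)
        rw [mul_smul, mul_smul, smul_inv_smul] at this
        rw [this, mul_smul, mul_smul, smul_inv_smul]⟩
      one_smul := fun a => Subtype.ext (by
        show ρ 1 * a.1 * ρ 1⁻¹ = a.1
        simp)
      mul_smul := fun g h a => Subtype.ext (by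
        show ρ (g * h) * a.1 * ρ (g * h : G)⁻¹ = ρ g * (ρ h * a.1 * ρ (h : G)⁻¹) * ρ (g : G)⁻¹
        simp only [mul_inv_rev, map_mul, mul_assoc])
      smul_zero := fun g => Subtype.ext (by
        show ρ g * 0 * ρ (g : G)⁻¹ = 0
        simp)
      smul_add := fun g a b => Subtype.ext (by
        show ρ g * (a.1 + b.1) * ρ (g : G)⁻¹ = ρ g * a.1 * ρ (g : G)⁻¹ + ρ g * b.1 * ρ (g : G)⁻¹
        rw [mul_add, add_mul])
      smul_one := fun g => Subtype.ext (by
        show ρ g * 1 * ρ (g : G)⁻¹ = 1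
        rw [mul_one, ← map_mul, mul_inv_cancel, map_one])
      smul_mul := fun g a b => Subtype.ext (by
        show ρ g * (a.1 * b.1) * ρ (g : G)⁻¹ = ρ g * a.1 * ρ (g : G)⁻¹ * (ρ g * b.1 * ρ (g : G)⁻¹)
        simp only [mul_assoc]
        rw [← mul_assoc (ρ (g : G)⁻¹) (ρ g), i1, one_mul]) }
  have : FaithfulSMul (stabilizer G v0) E := ⟨fun {g h} e => by
    rw [← mul_inv_eq_one, ← Subtype.coe_inj]
    refine fx _ (g * h⁻¹).2 fun c hc => ?_
    have e1 := e (h⁻¹ • ⟨ρ c, cE c hc⟩)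
    rw [smul_inv_smul, ← mul_smul] at e1
    have e2 : ρ (g * h⁻¹ : stabilizer G v0) * ρ c * ρ ((g * h⁻¹ : stabilizer G v0) : G)⁻¹ = ρ c :=
      congrArg Subtype.val e1
    rw [← mul_inv_eq_iff_eq_mul, ← mul_inv_eq_one]
    refine hf _ fun v => ?_
    rw [mul_smul, ← hρ, map_mul, map_mul, e2, hρ, smul_inv_smul]⟩
  have := Fintype.ofFinite (stabilizer G v0)
  have : Finite (AddMonoid.End V) := DFunLike.finite _
  have e1 := FixedPoints.finrank_eq_card (stabilizer G v0) E
  have e2 := Module.natCard_eq_pow_finrank (K := FixedPoints.subfield (stabilizer G v0) E) (V := E)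
  rw [e1, cardE, ← Nat.card_eq_fintype_card] at e2
  obtain ⟨d, -, hd⟩ := (Nat.dvd_prime_pow Nat.prime_two).1
    (e2 ▸ dvd_pow_self _ (Nat.card_pos (α := stabilizer G v0)).ne' :
      Nat.card (FixedPoints.subfield (stabilizer G v0) E) ∣ 2 ^ n)
  rw [hd, ← pow_mul] at e2
  exact Dvd.intro_left d (Nat.pow_right_injective le_rfl e2).symm

@[reducible] def actNz (G V : Type*) [Group G] [AddCommGroup V] [DistribMulAction G V] :
    MulAction G {v : V // v ≠ 0} where
  smul g v := ⟨g • v.1, by simpa using v.2⟩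
  one_smul v := Subtype.ext (one_smul G v.1)
  mul_smul g h v := Subtype.ext (mul_smul g h v.1)

theorem card_nz (V : Type*) [AddCommGroup V] [Finite V] :
    Nat.card {v : V // v ≠ 0} = Nat.card V - 1 := by
  classical
  have := Fintype.ofFinite V
  simp [Nat.card_eq_fintype_card, Fintype.card_subtype_compl]

theorem one_of_prime (hf : ∀ g : G, (∀ v : V, g • v = v) → g = 1) (hp : (Nat.card V - 1).Prime)
    {C : Subgroup G} (hC : Nat.card C = Nat.card V - 1) : One C V := by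
  have := Fact.mk hp
  have hP : IsPGroup (Nat.card V - 1) C := IsPGroup.of_card (n := 1) (by simpa using hC)
  obtain ⟨c, hc, v, hv⟩ : ∃ c ∈ C, ∃ v : V, c • v ≠ v := by
    by_contra hn
    push Not at hn
    have : C = ⊥ := eq_bot_iff.2 fun c hc => hf c (hn c hc)
    rw [this, Subgroup.card_bot] at hC
    exact hp.one_lt.ne hC
  have v0 : v ≠ 0 := by rintro rfl; simp at hv
  have h1 : Nat.card V - 1 ∣ (orb C v).ncard := by
    by_contra hn; exact hv (pfix hP hn c hc)
  have h2 : orb C v = {w | w ∈ (⊤ : AddSubgroup V) ∧ w ∉ (⊥ : AddSubgroup V)} := by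
    refine Set.eq_of_subset_of_ncard_le (by rintro _ ⟨g, -, rfl⟩; simpa using v0) ?_
    rw [ncard_diff le_top, AddSubgroup.card_top, AddSubgroup.card_bot]
    exact Nat.le_of_dvd ((Set.ncard_pos (Set.toFinite _)).2 ⟨v, 1, one_mem _, one_smul _ _⟩) h1
  intro a b ha hb
  obtain ⟨g, hg, rfl⟩ : a ∈ orb C v := by rw [h2]; simpa using ha
  obtain ⟨k, hk, rfl⟩ : b ∈ orb C v := by rw [h2]; simpa using hb
  exact ⟨k * g⁻¹, mul_mem hk (inv_mem hg), by simp [mul_smul]⟩

theorem mersenne_cases (h2 : ∀ v : V, v + v = 0) (hf : ∀ g : G, (∀ v : V, g • v = v) → g = 1)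
    {n : ℕ} (hn : Nat.card V = 2 ^ n) (hp : (2 ^ n - 1).Prime) (h1 : One (⊤ : Subgroup G) V) :
    Full G V ∨ (Group.IsSolvable G ∧ ∃ C : Subgroup G, C.Normal ∧ Nat.card C = 2 ^ n - 1 ∧
      (Nat.card G = 2 ^ n - 1 ∨ Nat.card G = n * (2 ^ n - 1))) := by
  classical
  letI := actNz G V
  have := Fintype.ofFinite {v : V // v ≠ 0}
  have hc : Nat.card {v : V // v ≠ 0} = 2 ^ n - 1 := by rw [card_nz, hn]
  have tr : IsPretransitive G {v : V // v ≠ 0} := ⟨fun a b => by
    obtain ⟨g, -, e⟩ := h1 a b a.2 b.2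
    exact ⟨g, Subtype.ext e⟩⟩
  have fa : ∀ g : G, (∀ v : {v : V // v ≠ 0}, g • v = v) → g = 1 := fun g hg => hf g fun v => by
    by_cases hv : v = 0
    · simp [hv]
    · exact congrArg Subtype.val (hg ⟨v, hv⟩)
  let f := toPermHom G {v : V // v ≠ 0}
  have : IsPretransitive f.range {v : V // v ≠ 0} := ⟨fun a b => by
    obtain ⟨g, e⟩ := exists_smul_eq G a b
    exact ⟨⟨f g, g, rfl⟩, e⟩⟩
  rcases Cfsg.Agent.S0675.result (by rw [← Nat.card_eq_fintype_card, hc]; exact hp) f.range with h | h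
  · right
    have hs : Group.IsSolvable G := solvable_of_solvable_injective (f := f.rangeRestrict) (by
      rw [injective_iff_map_eq_one]
      intro g hg
      exact fa g fun v => congrArg (fun k : f.range => k.1 v) hg)
    obtain ⟨a, b, hab⟩ := Finite.one_lt_card_iff_nontrivial.1 (hc ▸ hp.one_lt :
      1 < Nat.card {v : V // v ≠ 0})
    obtain ⟨C, -, c1, c2, c3⟩ := H1.exists_abelian_normal_le (⊤ : Subgroup G) (by
      intro h'
      obtain ⟨g, e⟩ := exists_smul_eq G a b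
      have : g = 1 := (h' ▸ Subgroup.mem_top g : g ∈ (⊥ : Subgroup G))
      exact hab (by rw [← e, this, one_smul])) inferInstance
    have pr := IsPreprimitive.of_prime_card (G := G) (hc ▸ hp)
    have tC : IsPretransitive C {v : V // v ≠ 0} :=
      IsQuasiPreprimitive.isPretransitive_of_normal fun h' => c2 (eq_bot_iff.2 fun g hg =>
        fa g fun v => (h' ▸ Set.mem_univ v : v ∈ fixedPoints C _) ⟨g, hg⟩)
    obtain ⟨e1, m, e2, e3⟩ := singer h2 hf C
      (fun a ha b hb => congrArg Subtype.val (c3.is_comm.comm ⟨a, ha⟩ ⟨b, hb⟩))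
      (fun v w hv hw => by
        obtain ⟨g, e⟩ := exists_smul_eq C (⟨v, hv⟩ : {v : V // v ≠ 0}) ⟨w, hw⟩
        exact ⟨g, g.2, congrArg Subtype.val e⟩) a.2 hn
    refine ⟨hs, C, c1, e1, ?_⟩
    have hnp := (Nat.prime_of_pow_sub_one_prime (by rintro rfl; simp [Nat.not_prime_one] at hp) hp).2
    rcases (Nat.dvd_prime hnp).1 e2 with rfl | rfl
    · left; simpa using e3
    · exact Or.inr e3
  · left
    rw [is_two_pretransitive_iff] at h
    refine (thmT _ G V rfl h2 hf fun u v u' v' a b c d e f => ?_).resolve_right fun h' => ?_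
    · obtain ⟨⟨_, g, rfl⟩, g1, g2⟩ := h (a := ⟨u, a⟩) (b := ⟨v, b⟩) (c := ⟨u', d⟩) (d := ⟨v', e⟩)
        (by simpa using c.symm) (by simpa using f.symm)
      exact ⟨g, congrArg Subtype.val g1, congrArg Subtype.val g2⟩
    · rw [← hn, h'.1] at hp; norm_num at hp

end H20.CK
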