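import Cfsg.Agent.H20.CK.M

/-! Transvections and an anisotropic quadratic map. -/

set_option autoImplicit false
set_option linter.unusedSectionVars false

namespace H20.CK
open MulAction

variable {G V V' : Type*} [Group G] [AddCommGroup V] [AddCommGroup V'] [Finite V] [Finite V']
  [DistribMulAction G V]

/-- `g` acts as the transvection with centre `a` and axis `ω` -/
def Tr (s : Pg V V') (g : G) (a : V) (ω : V') : Prop :=
  s.β a ω = 0 ∧ ∀ v, g • v = if s.β v ω = 0 then v else v + a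

namespace Tr
variable {s : Pg V V'} {g g' h : G} {a a' v : V} {ω ω' φ : V'}

theorem fix (t : Tr s g a ω) (e : s.β v ω = 0) : g • v = v := by rw [t.2, if_pos e]
theorem mv (t : Tr s g a ω) (e : s.β v ω = 1) : g • v = v + a := by
  rw [t.2, if_neg (by rw [e]; exact z10)]
theorem cen (t : Tr s g a ω) : g • a = a := t.fix t.1
theorem two (t : Tr s g a ω) (v : V) : g • g • v = v := by
  rcases z01 (s.β v ω) with e | e
  · rw [t.fix e, t.fix e]
  · rw [t.mv e, smul_add, t.mv e, t.cen, s.acc]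
theorem inv_smul (t : Tr s g a ω) (v : V) : g⁻¹ • v = g • v := by
  rw [inv_smul_eq_iff, t.two]
theorem inv (t : Tr s g a ω) : Tr s g⁻¹ a ω := ⟨t.1, fun v => by rw [t.inv_smul, t.2]⟩
theorem cases (t : Tr s g a ω) (v : V) : g • v + v = 0 ∨ g • v + v = a := by
  rcases z01 (s.β v ω) with e | e
  · rw [t.fix e, s.aa]; exact .inl rfl
  · rw [t.mv e, add_comm, s.aac]; exact .inr rfl
theorem zc (t : Tr s g 0 ω) (v : V) : g • v = v := by rw [t.2]; simp
theorem za (t : Tr s g a 0) (v : V) : g • v = v := t.fix (s.zr v)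
theorem same (t : Tr s g a ω) (t' : Tr s g' a ω) (v : V) : g • v = g' • v := by rw [t.2, t'.2]

theorem β_smul [DistribMulAction G V'] (hi : s.Inv G) (g : G) (v : V) (φ : V') : s.β v (g • φ) = s.β (g⁻¹ • v) φ := by
  rw [← hi g (g⁻¹ • v), smul_inv_smul]

theorem fixd [DistribMulAction G V'] (hi : s.Inv G) (t : Tr s g a ω) (e : s.β a φ = 0) : g • φ = φ := by
  refine s.dual.az.1 (s.ndr _ fun v => ?_)
  rw [s.addr, β_smul hi, t.inv_smul]
  rcases z01 (s.β v ω) with f | f
  · rw [t.fix f, zaa]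
  · rw [t.mv f, s.addl, e, add_zero, zaa]
theorem mvd [DistribMulAction G V'] (hi : s.Inv G) (t : Tr s g a ω) (e : s.β a φ = 1) : g • φ = φ + ω := by
  refine s.dual.az.1 (s.ndr _ fun v => ?_)
  rw [s.addr, s.addr, β_smul hi, t.inv_smul]
  rcases z01 (s.β v ω) with f | f
  · rw [t.fix f, f, add_zero, zaa]
  · rw [t.mv f, s.addl, e, f, zaa]
theorem conj [DistribMulAction G V'] (hi : s.Inv G) (t : Tr s g a ω) (h : G) : Tr s (h * g * h⁻¹) (h • a) (h • ω) :=
  ⟨by rw [hi, t.1], fun v => by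
    rw [β_smul hi, mul_smul, mul_smul, t.2]
    split_ifs <;> simp⟩
theorem mulc (t : Tr s g a ω) (t' : Tr s g' a ω') : Tr s (g * g') a (ω + ω') :=
  ⟨by rw [s.addr, t.1, t'.1, add_zero], fun v => by
    rw [mul_smul, s.addr]
    rcases z01 (s.β v ω) with e | e <;> rcases z01 (s.β v ω') with f | f
    · rw [t'.fix f, t.fix e, e, f, add_zero, if_pos rfl]
    · rw [t'.mv f, smul_add, t.fix e, t.cen, e, f, zero_add, if_neg z10]
    · rw [t'.fix f, t.mv e, e, f, add_zero, if_neg z10]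
    · rw [t'.mv f, smul_add, t.mv e, t.cen, e, f, z11, if_pos rfl, s.acc]⟩
theorem mula (t : Tr s g a ω) (t' : Tr s g' a' ω) : Tr s (g * g') (a + a') ω :=
  ⟨by rw [s.addl, t.1, t'.1, add_zero], fun v => by
    rw [mul_smul]
    rcases z01 (s.β v ω) with e | e
    · rw [t'.fix e, t.fix e, if_pos e]
    · rw [t'.mv e, smul_add, t.mv e, t.fix t'.1, e, if_neg z10, add_assoc]⟩
end Tr

def AllT (s : Pg V V') (G : Type*) [Group G] [DistribMulAction G V] : Prop :=
  ∀ a ω, s.β a ω = 0 → ∃ g : G, Tr s g a ω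

theorem Full.allT (s : Pg V V') (h : Full G V) : AllT s G := fun a ω e => by
  obtain ⟨g, hg⟩ := h (tvE s.aa (fun v => s.β v ω) (fun u v => s.addl u v ω) a e)
  exact ⟨g, e, hg⟩

variable {s : Pg V V'}

theorem Pg.both' (s : Pg V V') {u v : V} (hu : u ≠ 0) (hv : v ≠ 0) :
    ∃ φ, s.β u φ = 1 ∧ s.β v φ = 1 := by
  obtain ⟨φ, -, h⟩ := s.both (A := ⊤) ((s.ex1 hu).imp fun _ h => ⟨trivial, h⟩)
    ((s.ex1 hv).imp fun _ h => ⟨trivial, h⟩)
  exact ⟨φ, h⟩

theorem Pg.ex3 (s : Pg V V') (h8 : 8 ≤ Nat.card V) (x a : V) : ∃ z, z ∉ s.sp2 x a := by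
  by_contra h
  push Not at h
  have : (Set.univ : Set V) = {0, x, a, x + a} := by
    ext z; simpa [Pg.mem_sp2] using h z
  have h2 : ({0, x, a, x + a} : Set V).ncard ≤ 4 := by
    refine (Set.ncard_insert_le _ _).trans (Nat.succ_le_succ ?_)
    refine (Set.ncard_insert_le _ _).trans (Nat.succ_le_succ ?_)
    exact (Set.ncard_insert_le _ _).trans (by simp)
  rw [← this, Set.ncard_univ] at h2
  omega

theorem Pg.ex2 (s : Pg V V') (h8 : 8 ≤ Nat.card V) (x a : V) :
    ∃ ω v, s.β x ω = 0 ∧ s.β a ω = 0 ∧ s.β v ω = 1 := by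
  obtain ⟨z, hz⟩ := s.ex3 h8 x a
  obtain ⟨ω, h⟩ := s.sep2 hz
  exact ⟨ω, z, h⟩

theorem AllT.fixE (hT : AllT s G) {x v : V} (hx : x ≠ 0) (h : ∀ (g : G) ω, Tr s g x ω → g • v = v) :
    v = 0 ∨ v = x := by
  by_contra hn
  push Not at hn
  obtain ⟨ω, e1, e2⟩ := s.sep1 hn.1 hn.2
  obtain ⟨g, t⟩ := hT x ω e1
  have := h g ω t
  rw [t.mv e2] at this
  exact hx (by simpa using this)

theorem AllT.trans (hT : AllT s G) {u v : V} (hu : u ≠ 0) (hv : v ≠ 0) : ∃ g : G, g • u = v := by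
  obtain ⟨ω, e1, e2⟩ := s.both' hu hv
  obtain ⟨g, t⟩ := hT (u + v) ω (by rw [s.addl, e1, e2, z11])
  exact ⟨g, by rw [t.mv e1, s.aac]⟩

/-- the commutant of the transvections with a given centre -/
theorem AllT.comm (hT : AllT s G) {x : V} (hx : x ≠ 0) {A : V → V}
    (ha : ∀ u v, A (u + v) = A u + A v) (h : ∀ (g : G) ω v, Tr s g x ω → A (g • v) = g • A v) :
    (A x = 0 ∧ ∀ v, A v = 0 ∨ A v = x) ∨ (∀ v, A v + v = 0 ∨ A v + v = x) := by
  have k : ∀ ω v, s.β x ω = 0 → (s.β v ω = 0 → s.β (A v) ω = 0) ∧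
      (s.β v ω = 1 → A x = if s.β (A v) ω = 0 then 0 else x) := fun ω v e => by
    obtain ⟨g, t⟩ := hT x ω e
    have := h g ω v t
    refine ⟨fun f => ?_, fun f => ?_⟩
    · rw [t.fix f] at this
      by_contra hn
      rw [t.mv (zne0.1 hn)] at this
      exact hx (by simpa using this)
    · rw [t.mv f, ha, t.2] at this
      split_ifs at this ⊢ <;> simpa using this
  have k2 : ∀ w : V, (∀ ω, s.β x ω = 0 → s.β w ω = 0) → w = 0 ∨ w = x := fun w hw => by
    by_contra hn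
    push Not at hn
    obtain ⟨ω, e1, e2⟩ := s.sep1 hn.1 hn.2
    exact z10 (e2.symm.trans (hw ω e1))
  by_cases e : A x = 0
  · refine .inl ⟨e, fun v => k2 _ fun ω f => ?_⟩
    rcases z01 (s.β v ω) with g | g
    · exact (k ω v f).1 g
    · have := (k ω v f).2 g
      by_contra hn
      rw [if_neg hn, e] at this
      exact hx this.symm
  · refine .inr fun v => k2 _ fun ω f => ?_
    rw [s.addl]
    rcases z01 (s.β v ω) with g | g
    · rw [(k ω v f).1 g, g, add_zero]
    · have := (k ω v f).2 g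
      split_ifs at this with c
      · exact absurd this e
      · rw [zne0.1 c, g, z11]

theorem pquo {M : Type*} [AddCommGroup M] [Finite M] [DistribMulAction G M] {H : Subgroup G}
    (hH : IsPGroup 2 H) (m2 : ∀ m : M, m + m = 0) (U : AddSubgroup M)
    (hU : ∀ h ∈ H, ∀ u ∈ U, h • u ∈ U) {m : M} (hm : m ∉ U) :
    ∃ y, y ∉ U ∧ ∀ h ∈ H, h • y + y ∈ U := by
  letI : MulAction H (M ⧸ U) :=
    { smul := fun h => QuotientAddGroup.map U U (DistribSMul.toAddMonoidHom M (h : G))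
        fun u hu => hU h h.2 u hu
      one_smul := fun q => QuotientAddGroup.induction_on q fun y =>
        congrArg QuotientAddGroup.mk (one_smul G y)
      mul_smul := fun a b q => QuotientAddGroup.induction_on q fun y =>
        congrArg QuotientAddGroup.mk (mul_smul (a : G) b y) }
  have hd : 2 ∣ Nat.card (M ⧸ U) := by
    have h1 : ((m : M ⧸ U)) ≠ 0 := by rwa [Ne, QuotientAddGroup.eq_zero_iff]
    have : addOrderOf (m : M ⧸ U) = 2 :=
      addOrderOf_eq_prime (by rw [two_nsmul, ← QuotientAddGroup.mk_add, m2]; rfl) h1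
    exact this ▸ addOrderOf_dvd_natCard _
  obtain ⟨b, hb, h0⟩ := hH.exists_fixed_point_of_prime_dvd_card_of_fixed_point (M ⧸ U) hd
    (a := 0) (fun h => map_zero (QuotientAddGroup.map U U (DistribSMul.toAddMonoidHom M (h : G))
        fun u hu => hU h h.2 u hu))
  obtain ⟨y, rfl⟩ := QuotientAddGroup.mk_surjective b
  refine ⟨y, fun hy => h0 ((QuotientAddGroup.eq_zero_iff y).2 hy).symm, fun h hh => ?_⟩
  have : ((h • y : M) : M ⧸ U) = y := hb ⟨h, hh⟩
  rw [QuotientAddGroup.eq] at this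
  rwa [neg_eq_of_add_eq_zero_left (m2 _)] at this

/-- the unipotent radical of the stabilizer of a flag -/
def Dg (s : Pg V V') (G : Type*) [Group G] [DistribMulAction G V] (x : V) (φ : V') : Subgroup G where
  carrier := {g | g • x = x ∧ (∀ v, s.β (g • v) φ = s.β v φ) ∧
      ∀ v, s.β v φ = 0 → g • v + v ∈ s.sp1 x}
  one_mem' := by simp [s.aa]
  mul_mem' := by
    rintro a b ⟨a1, a2, a3⟩ ⟨b1, b2, b3⟩
    refine ⟨by rw [mul_smul, b1, a1], fun v => by rw [mul_smul, a2, b2], fun v e => ?_⟩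
    have := add_mem (a3 (b • v) (by rw [b2, e])) (b3 v e)
    rwa [add_assoc, s.aac, ← mul_smul] at this
  inv_mem' := by
    rintro a ⟨a1, a2, a3⟩
    have b : ∀ v, s.β (a⁻¹ • v) φ = s.β v φ := fun v => by rw [← a2, smul_inv_smul]
    refine ⟨by rw [inv_smul_eq_iff, a1], b, fun v e => ?_⟩
    have := a3 (a⁻¹ • v) (by rw [b, e])
    rwa [smul_inv_smul, add_comm] at this

def Eg (s : Pg V V') (G : Type*) [Group G] [DistribMulAction G V] (x : V) : Subgroup G where
  carrier := {g | ∃ ω, Tr s g x ω}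
  one_mem' := ⟨0, s.zr x, fun v => by simp⟩
  mul_mem' := fun ⟨_, a⟩ ⟨_, b⟩ => ⟨_, a.mulc b⟩
  inv_mem' := fun ⟨_, a⟩ => ⟨_, a.inv⟩

/-- the kernel of the action is a 2-group -/
def K2 (G V : Type*) [Group G] [AddCommGroup V] [DistribMulAction G V] : Prop :=
  ∀ g : G, (∀ v : V, g • v = v) → ∃ k, g ^ 2 ^ k = 1

theorem K2.pg (h : K2 G V) {H : Subgroup G} (hH : ∀ g ∈ H, ∀ v : V, g • g • g • g • v = v) :
    IsPGroup 2 H := fun g => by
  obtain ⟨k, hk⟩ := h (g.1 ^ 2 ^ 2) fun v => by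
    have := hH g g.2 v
    simpa [pow_succ, mul_smul] using this
  exact ⟨2 + k, Subtype.ext (by simpa [pow_add, ← pow_mul] using hk)⟩

theorem K2.pE (h : K2 G V) (x : V) : IsPGroup 2 (Eg s G x) :=
  h.pg fun _ ⟨_, t⟩ v => by rw [t.two, t.two]

theorem K2.pD (h : K2 G V) (x : V) (φ : V') : IsPGroup 2 (Dg s G x φ) :=
  h.pg fun g ⟨a1, a2, a3⟩ v => by
    have f : ∀ w, s.β w φ = 0 → g • g • w = w := fun w e => by
      rcases a3 w e with c | c
      · rw [s.az.1 c, s.az.1 c]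
      · have : g • w = w + x := by rw [← c, add_comm (g • w), s.aac]
        rw [this, smul_add, this, a1, s.acc]
    have e1 : s.β (g • v + v) φ = 0 := by rw [s.addl, a2, zaa]
    have := f _ e1
    have e2 := congrArg (g • ·) this
    simp only [smul_add] at this e2
    rw [← s.acc (g • g • g • g • v) (g • g • g • v), e2, ← s.acc (g • g • g • v) (g • g • v), this]
    simp only [← add_assoc]
    rw [s.acc, add_right_comm, s.aa, zero_add]

end H20.CK
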