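import Cfsg.Agent.H20.CK.N

/-! An equivariant anisotropic quadratic map to the natural module is additive. -/

set_option autoImplicit false
set_option linter.unusedSectionVars false

namespace H20.CK
open MulAction

variable {G V V' M : Type*} [Group G] [AddCommGroup V] [AddCommGroup V'] [Finite V] [Finite V']
  [DistribMulAction G V] [DistribMulAction G V'] [AddCommGroup M] [Finite M] [DistribMulAction G M]

def Bq (Q : M → V) (a b : M) : V := Q (a + b) + Q a + Q b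

structure QD (s : Pg V V') (G : Type*) [Group G] [DistribMulAction G V] [DistribMulAction G V']
    [DistribMulAction G M] (Q : M → V) : Prop where
  hi : s.Inv G
  hT : AllT s G
  h8 : 8 ≤ Nat.card V
  k2 : K2 G V
  ker : ∀ g : G, (∀ v : V, g • v = v) → ∀ m : M, g • m = m
  m2 : ∀ m : M, m + m = 0
  eq : ∀ (g : G) m, Q (g • m) = g • Q m
  an : ∀ m, Q m = 0 → m = 0
  bl : ∀ a b c, Bq Q (a + b) c = Bq Q a c + Bq Q b c

def EF (s : Pg V V') (G : Type*) [Group G] [DistribMulAction G V] [DistribMulAction G M] (x : V)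
    (m : M) : Prop := ∀ (g : G) ω, Tr s g x ω → g • m = m
def AF (s : Pg V V') (G : Type*) [Group G] [DistribMulAction G V] [DistribMulAction G M] (φ : V')
    (m : M) : Prop := ∀ (g : G) a, Tr s g a φ → g • m = m
def Gd (s : Pg V V') (G : Type*) [Group G] [DistribMulAction G V] [DistribMulAction G M] (x : V)
    (m : M) : Prop := ∀ (g : G) a ω, Tr s g a ω → s.β x ω = 0 → g • m = m

variable {s : Pg V V'} {Q : M → V}

theorem Bq_comm (a b : M) : Bq Q a b = Bq Q b a := by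
  rw [Bq, Bq, add_comm a, add_right_comm]

theorem EF.conj (hi : s.Inv G) {x : V} {m : M} (e : EF s G x m) (h : G) :
    EF s G (h • x) (h • m) := fun g ω t => by
  have := e _ _ (by simpa using t.conj hi h⁻¹)
  rwa [mul_smul, mul_smul, inv_smul_eq_iff] at this

theorem AF.conj (hi : s.Inv G) {φ : V'} {m : M} (e : AF s G φ m) (h : G) :
    AF s G (h • φ) (h • m) := fun g ω t => by
  have := e _ _ (by simpa using t.conj hi h⁻¹)
  rwa [mul_smul, mul_smul, inv_smul_eq_iff] at this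

theorem Gd.conj (hi : s.Inv G) {x : V} {m : M} (e : Gd s G x m) (h : G) :
    Gd s G (h • x) (h • m) := fun g a ω t f => by
  have := e _ _ _ (t.conj hi h⁻¹) (by rw [← hi h, smul_inv_smul, f])
  rwa [inv_inv, mul_smul, mul_smul, inv_smul_eq_iff] at this

theorem EF.add {x : V} {a b : M} (e : EF s G x a) (f : EF s G x b) : EF s G x (a + b) :=
  fun g ω t => by rw [smul_add, e g ω t, f g ω t]

namespace QD
variable (h : QD s G Q)
include h

theorem az {a b : M} : a + b = 0 ↔ a = b :=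
  ⟨fun e => by rw [← add_zero a, ← h.m2 b, ← add_assoc, e, zero_add], fun e => e ▸ h.m2 a⟩
theorem aac (a b : M) : a + (a + b) = b := by rw [← add_assoc, h.m2, zero_add]
theorem br (a b c : M) : Bq Q a (b + c) = Bq Q a b + Bq Q a c := by
  rw [Bq_comm, h.bl, Bq_comm b, Bq_comm c]
theorem b0 (a : M) : Bq Q 0 a = 0 := by simpa using h.bl 0 0 a
theorem q0 : Q 0 = 0 := by
  have := h.b0 0
  rwa [Bq, add_zero, s.aa, zero_add] at this
theorem qadd (a b : M) : Q (a + b) = Q a + Q b + Bq Q a b := by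
  rw [Bq, add_assoc (Q (a + b)), add_comm (Q (a + b)), s.aac]
theorem beq (g : G) (a b : M) : Bq Q (g • a) (g • b) = g • Bq Q a b := by
  simp only [Bq, ← smul_add, h.eq]

theorem q1 {x : V} {m : M} (hx : x ≠ 0) (e : EF s G x m) (hm : m ≠ 0) : Q m = x :=
  (h.hT.fixE hx fun g ω t => by rw [← h.eq, e g ω t]).resolve_left fun c => hm (h.an m c)

theorem q2 {x : V} {a b : M} (hx : x ≠ 0) (e : EF s G x a) (f : EF s G x b) (ha : a ≠ 0)
    (hb : b ≠ 0) (hab : a ≠ b) : Bq Q a b = x := by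
  rw [Bq, h.q1 hx e ha, h.q1 hx f hb, h.q1 hx (e.add f) (mt h.az.1 hab), s.acc]

theorem q3 {x : V} {a b c : M} (hx : x ≠ 0) (e : EF s G x a) (f : EF s G x b) (ha : a ≠ 0)
    (hb : b ≠ 0) (hab : a ≠ b) (k : EF s G x c) (hc : c ≠ 0) : c = a ∨ c = b ∨ c = a + b := by
  by_contra hn
  push Not at hn
  have := h.q2 hx k (e.add f) hc (mt h.az.1 hab) hn.2.2
  rw [h.br, h.q2 hx k e hc ha hn.1, h.q2 hx k f hc hb hn.2.1, s.aa] at this
  exact hx this.symm

theorem q4 {m : M} (hm : m ≠ 0) {x : V} {φ : V'} (e : s.β x φ = 0) :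
    ∃ y : M, y ≠ 0 ∧ EF s G x y ∧ AF s G φ y := by
  obtain ⟨y, h1, h2⟩ := pquo (h.k2.pD (s := s) x φ) h.m2 ⊥ (by simp) (m := m) (by simpa using hm)
  refine ⟨y, by simpa using h1, fun g ω t => h.az.1 (h2 g ⟨t.cen, fun v => ?_, fun v _ => t.cases v⟩),
    fun g a t => h.az.1 (h2 g ⟨t.fix e, fun v => ?_, fun v f => ?_⟩)⟩
  · rw [t.2]; split_ifs <;> simp [s.addl, e]
  · rw [t.2]; split_ifs <;> simp [s.addl, t.1]
  · rw [t.fix f, s.aa]; exact zero_mem _

theorem ls {ν : V → M} {x y : V} (hx : x ≠ 0) (hy : y ≠ 0) (hxy : x ≠ y)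
    (e : ∀ (g : G) a ψ, Tr s g a ψ → a = x ∨ a = y → ∀ z, z = x ∨ z = y ∨ z = x + y →
      g • ν z = ν (g • z)) : ν x + ν y + ν (x + y) = 0 := by
  have k : ∀ (g : G) a ψ, Tr s g a ψ → a = x ∨ a = y →
      g • (ν x + ν y + ν (x + y)) = ν x + ν y + ν (x + y) := fun g a ψ t ha => by
    rw [smul_add, smul_add, e g a ψ t ha x (by simp), e g a ψ t ha y (by simp),
      e g a ψ t ha (x + y) (by simp), smul_add]
    rcases ha with rfl | rfl
    · rw [t.cen]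
      rcases z01 (s.β y ψ) with f | f
      · rw [t.fix f]
      · rw [t.mv f, add_comm y, s.aac, add_right_comm]
    · rw [t.cen]
      rcases z01 (s.β x ψ) with f | f
      · rw [t.fix f]
      · rw [t.mv f, s.acc]; abel
  refine h.an _ ?_
  have k1 := h.hT.fixE hx fun g ω t => by rw [← h.eq, k g x ω t (.inl rfl)]
  have k2 := h.hT.fixE hy fun g ω t => by rw [← h.eq, k g y ω t (.inr rfl)]
  rcases k1 with c | c
  · exact c
  · exact k2.resolve_right fun d => hxy (c.symm.trans d)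

theorem q5 {m : M} (hm : m ≠ 0) : ∃ (x : V) (y : M), x ≠ 0 ∧ y ≠ 0 ∧ Gd s G x y := by
  by_contra hn
  push Not at hn
  have hi := h.hi
  have U : ∀ x φ (a b : M), x ≠ 0 → φ ≠ 0 → s.β x φ = 0 → EF s G x a → AF s G φ a → EF s G x b →
      AF s G φ b → a ≠ 0 → b ≠ 0 → a = b := fun x φ a b hx hφ e a1 a2 b1 b2 ha hb => by
    by_contra hab
    refine hn x a hx ha fun g c ω t f => ?_
    by_cases h0 : ω = 0
    · exact h.ker g (h0 ▸ t).za a
    obtain ⟨d, d1, d2⟩ := s.dual.both' hφ h0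
    obtain ⟨k, tk⟩ := h.hT d (φ + ω) (by rw [s.addr]; exact (congrArg₂ _ d1 d2).trans z11)
    have k1 : k • ω = φ := by rw [tk.mvd hi d2, add_comm φ, s.dual.aac]
    have k2 : k • x = x := tk.fix (by rw [s.addr, e, f, add_zero])
    have k3 := a1.conj hi k
    rw [k2] at k3
    have k4 : AF s G φ (k • a) := fun g' a' t' => by
      rcases h.q3 hx a1 b1 ha hb hab k3 (by simpa using ha) with c | c | c <;> rw [c]
      · exact a2 _ _ t'
      · exact b2 _ _ t'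
      · rw [smul_add, a2 _ _ t', b2 _ _ t']
    have := k4 _ _ (k1 ▸ t.conj hi k)
    simpa [mul_smul] using this
  choose! μ μ0 μ1 μ2 using fun x φ (e : s.β x φ = 0) => h.q4 hm e
  have μe : ∀ (k : G) x φ, x ≠ 0 → φ ≠ 0 → s.β x φ = 0 → k • μ x φ = μ (k • x) (k • φ) :=
    fun k x φ hx hφ e => by
      have e' : s.β (k • x) (k • φ) = 0 := by rw [hi, e]
      exact U _ _ _ _ (by simpa using hx) (by simpa using hφ) e' ((μ1 x φ e).conj hi k)
        ((μ2 x φ e).conj hi k) (μ1 _ _ e') (μ2 _ _ e') (by simpa using μ0 x φ e) (μ0 _ _ e')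
  have P : ∀ x φ ψ, x ≠ 0 → φ ≠ 0 → ψ ≠ 0 → s.β x φ = 0 → s.β x ψ = 0 → μ x φ ≠ μ x ψ →
      μ x (φ + ψ) = μ x φ + μ x ψ := fun x φ ψ hx hφ hψ e f ne => by
    obtain ⟨d, d1, d2⟩ := s.dual.both' hφ hψ
    obtain ⟨k, tk⟩ := h.hT d (φ + ψ) (by rw [s.addr]; exact (congrArg₂ _ d1 d2).trans z11)
    have e' : s.β x (φ + ψ) = 0 := by rw [s.addr, e, f, add_zero]
    have k0 := μ2 _ _ e' k d tk
    have k1 := μe k x φ hx hφ e
    have k2 := μe k x ψ hx hψ f
    rw [tk.fix e', tk.mvd hi d1, s.dual.aac] at k1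
    rw [tk.fix e', tk.mvd hi d2, add_comm φ, s.dual.aac] at k2
    rcases h.q3 hx (μ1 _ _ e) (μ1 _ _ f) (μ0 _ _ e) (μ0 _ _ f) ne (μ1 _ _ e') (μ0 _ _ e') with
      c | c | c
    · rw [c, k1] at k0; exact absurd k0.symm ne
    · rw [c, k2] at k0; exact absurd k0 ne
    · exact c
  obtain ⟨χ, y', -, -, c1⟩ := s.ex2 h.h8 0 0
  have hχ : χ ≠ 0 := by rintro rfl; exact z10 (c1.symm.trans (s.zr _))
  obtain ⟨y, φ', yχ, -, c2⟩ := s.dual.ex2 (s.card_eq ▸ h.h8) χ χ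
  have hy : y ≠ 0 := by rintro rfl; exact z10 (c2.symm.trans (s.dual.zr _))
  replace yχ : s.β y χ = 0 := yχ
  have := hn y _ hy (μ0 y χ yχ)
  simp only [Gd, not_forall] at this
  obtain ⟨g0, c, ψ, t0, yψ, ne⟩ := this
  have hψ : ψ ≠ 0 := by rintro rfl; exact ne (h.ker g0 t0.za _)
  have n1 : μ y χ ≠ μ y ψ := fun e => ne (by rw [e, μ2 _ _ yψ g0 c t0])
  obtain ⟨x, xχ, xψ⟩ := s.dual.sep1 hψ (z := χ) (by rintro rfl; exact n1 rfl)
  replace xχ : s.β x χ = 0 := xχ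
  replace xψ : s.β x ψ = 1 := xψ
  have hx : x ≠ 0 := by rintro rfl; exact z10 (xψ.symm.trans (s.zl _))
  have hxy : x ≠ y := by rintro rfl; exact z10 (xψ.symm.trans yψ)
  obtain ⟨ω, xω, yω⟩ := s.both' hx hy
  obtain ⟨k, tk⟩ := h.hT (x + y) ω (by rw [s.addl, xω, yω, z11])
  have k1 := μe k y χ hy hχ yχ
  have k2 := μe k y ψ hy hψ yψ
  have ky : k • y = x := by rw [tk.mv yω, add_comm x, s.aac]
  rw [ky, tk.fixd hi (by rw [s.addl, xχ, yχ, add_zero])] at k1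
  rw [ky, tk.mvd hi (by rw [s.addl, xψ, yψ, add_zero])] at k2
  set φ := ψ + ω with hφ
  have xφ : s.β x φ = 0 := by rw [hφ, s.addr, xψ, xω, z11]
  have yφ : s.β y φ = 1 := by rw [hφ, s.addr, yψ, yω, zero_add]
  have φ0 : φ ≠ 0 := fun e => z10 (by rw [← yφ, e, s.zr])
  have n2 : μ x φ ≠ μ x χ := fun e => n1 (by rw [← k1, ← k2] at e; simpa using e.symm)
  have p := P x φ χ hx φ0 hχ xφ xχ n2
  obtain ⟨g, t⟩ := h.hT y χ yχ
  obtain ⟨g', t'⟩ := h.hT y ψ yψ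
  have b1 := t.cases (Bq Q (μ x φ) (μ y ψ))
  rw [← h.beq, μe g x φ hx φ0 xφ, μ1 _ _ yψ g χ t, t.fix xχ, t.mvd hi yφ, p, h.bl, add_right_comm,
    s.aa, zero_add] at b1
  have b2 : g' • Bq Q (μ x χ) (μ y ψ) = Bq Q (μ x χ) (μ y ψ) := by
    rcases b1 with c | c <;> rw [c]
    · exact smul_zero _
    · exact t'.cen
  rw [← h.beq, μe g' x χ hx hχ xχ, μ1 _ _ yψ g' ψ t', t'.mv xψ, t'.fixd hi yχ] at b2
  have l := h.ls (ν := fun z => μ z χ) hx hy hxy fun g a ψ t ha z hz => by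
    have a1 : s.β a χ = 0 := by rcases ha with rfl | rfl <;> assumption
    have := μe g z χ (by
      rcases hz with rfl | rfl | rfl
      exacts [hx, hy, mt s.az.1 hxy]) hχ (by
      rcases hz with rfl | rfl | rfl
      exacts [xχ, yχ, by rw [s.addl, xχ, yχ, add_zero]])
    rwa [t.fixd hi a1] at this
  rw [← h.az.1 l, h.bl, h.q2 hy (μ1 _ _ yχ) (μ1 _ _ yψ) (μ0 _ _ yχ) (μ0 _ _ yψ) n1] at b2
  exact hy (by simpa using b2)

theorem q6 {m : M} (hm : m ≠ 0) : ∃ μ : V → M, (∀ u v, μ (u + v) = μ u + μ v) ∧ (∀ v, Q (μ v) = v) ∧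
    ∀ (g : G) a ψ, Tr s g a ψ → ∀ v, g • μ v = μ (g • v) := by
  obtain ⟨x, m0, hx, h0, gd⟩ := h.q5 hm
  have hi := h.hi
  let R : V → M → Prop := fun y m => ∃ (g : G) (ω : V'), Tr s g (x + y) ω ∧ s.β x ω = 1 ∧ m = g • m0
  have R1 : ∀ y, y ≠ 0 → ∃ m, R y m := fun y hy => by
    obtain ⟨ω, e, f⟩ := s.both' hx hy
    obtain ⟨g, t⟩ := h.hT (x + y) ω (by rw [s.addl, e, f, z11])
    exact ⟨_, g, ω, t, e, rfl⟩
  have R2 : ∀ y a b, R y a → R y b → a = b := by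
    rintro y _ _ ⟨g, ω, t, e, rfl⟩ ⟨g', ω', t', e', rfl⟩
    have := gd _ _ _ (t.inv.mulc t') (by rw [s.addr, e, e', z11])
    rw [mul_smul, inv_smul_eq_iff] at this
    exact this.symm
  have R3 : ∀ y a, R y a → Gd s G y a ∧ a ≠ 0 := by
    rintro y _ ⟨g, ω, t, e, rfl⟩
    have := gd.conj hi g
    rw [t.mv e, s.aac] at this
    exact ⟨this, by simpa using h0⟩
  have R4 : ∀ (σ : G) a ψ y m, Tr s σ a ψ → R y m → R (σ • y) (σ • m) := fun σ a ψ y m tσ r => by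
    rcases z01 (s.β x ψ) with e | e
    · obtain ⟨g, ω, t, f, rfl⟩ := r
      have := t.conj hi σ
      rw [smul_add, tσ.fix e] at this
      refine ⟨_, _, this, by rw [← tσ.fix e, hi, f], ?_⟩
      rw [mul_smul, mul_smul, gd _ _ _ tσ.inv e]
    rcases z01 (s.β y ψ) with f | f
    · rwa [tσ.fix f, (R3 y m r).1 _ _ _ tσ f]
    · obtain ⟨g, t⟩ := h.hT (x + y) ψ (by rw [s.addl, e, f, z11])
      rw [R2 y m _ r ⟨g, ψ, t, e, rfl⟩, tσ.mv f]
      exact ⟨_, ψ, by simpa [add_comm, add_left_comm] using tσ.mula t, e, (mul_smul _ _ _).symm⟩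
  classical
  choose! μ' hμ using R1
  let μ : V → M := fun y => if y = 0 then 0 else μ' y
  have μ0 : μ 0 = 0 := if_pos rfl
  have μ1 : ∀ y, y ≠ 0 → R y (μ y) := fun y hy => by simpa [μ, hy] using hμ y hy
  have μe : ∀ (g : G) a ψ, Tr s g a ψ → ∀ v, g • μ v = μ (g • v) := fun g a ψ t v => by
    by_cases e : v = 0
    · simp [e, μ0]
    · exact R2 _ _ _ (R4 g a ψ v _ t (μ1 v e)) (μ1 _ (by simpa using e))
  refine ⟨μ, fun u v => ?_, fun v => ?_, μe⟩
  · by_cases e : u = 0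
    · simp [e, μ0]
    by_cases f : v = 0
    · simp [f, μ0]
    by_cases c : u = v
    · rw [c, s.aa, h.m2, μ0]
    exact (h.az.1 (h.ls e f c fun g a ψ t _ z _ => μe g a ψ t z)).symm
  · by_cases e : v = 0
    · rw [e, μ0, h.q0]
    · exact h.q1 e (fun g ω t => (R3 _ _ (μ1 v e)).1 g v ω t t.1) (R3 _ _ (μ1 v e)).2

theorem main (a b : M) : Bq Q a b = 0 := by
  by_cases hm : a = 0
  · rw [hm, h.b0]
  obtain ⟨μ, μa, μq, μe⟩ := h.q6 hm
  have hi := h.hi
  have bμ : ∀ u v, Bq Q (μ u) (μ v) = 0 := fun u v => by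
    rw [Bq, ← μa, μq, μq, μq, add_assoc, s.aa]
  let U := (AddMonoidHom.mk' μ μa).range
  suffices H : ∀ m, m ∈ U by
    obtain ⟨u, rfl⟩ := H a
    obtain ⟨v, rfl⟩ := H b
    exact bμ u v
  by_contra hn
  push Not at hn
  obtain ⟨m, hm⟩ := hn
  have Ui : ∀ (g : G) a ψ, Tr s g a ψ → ∀ u ∈ U, g • u ∈ U := by
    rintro g a ψ t _ ⟨v, rfl⟩; exact ⟨g • v, (μe g a ψ t v).symm⟩
  obtain ⟨ω0, x, -, -, c⟩ := s.ex2 h.h8 0 0
  have hx : x ≠ 0 := by rintro rfl; exact z10 (c.symm.trans (s.zl _))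
  let P : M → Prop := fun y => y ∉ U ∧ ∀ (g : G) ω, Tr s g x ω → g • y + y ∈ U
  obtain ⟨y, Py⟩ : ∃ y, P y := by
    obtain ⟨y, y1, y2⟩ := pquo (h.k2.pE (s := s) x) h.m2 U (fun g ⟨ω, t⟩ => Ui g x ω t) hm
    exact ⟨y, y1, fun g ω t => y2 g ⟨ω, t⟩⟩
  have bU : ∀ y z, y + z ∈ U → ∀ v, Bq Q y (μ v) = Bq Q z (μ v) := by
    rintro y z ⟨u, hu⟩ v
    have : Bq Q (y + z) (μ v) = 0 := hu ▸ bμ u v
    rw [h.bl] at this
    exact s.az.1 this
  have cm : ∀ y (g : G) a ψ, Tr s g a ψ → g • y + y ∈ U → ∀ v,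
      Bq Q y (μ (g • v)) = g • Bq Q y (μ v) := fun y g a ψ t e v => by
    rw [← h.beq, μe g a ψ t, bU _ _ e]
  have an : ∀ y v, v + Bq Q y (μ v) = Q y → y ∈ U := fun y v e =>
    ⟨v, (h.az.1 (h.an (y + μ v) (by rw [h.qadd, μq, add_assoc, e, s.aa]))).symm⟩
  have c1 : ∀ y, P y → ∀ v, Bq Q y (μ v) + v = 0 ∨ Bq Q y (μ v) + v = x := fun y hy => by
    refine (h.hT.comm hx (A := fun v => Bq Q y (μ v)) (fun u v => by rw [μa, h.br])
      fun g ω v t => cm y g x ω t (hy.2 g ω t) v).resolve_left fun ⟨e, f⟩ => hy.1 ?_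
    refine an y (Q y + Bq Q y (μ (Q y))) ?_
    rw [μa, h.br]
    rcases f (Q y) with c | c
    · rw [c, show μ 0 = 0 by simpa using μa 0 0, Bq_comm, h.b0]; simp
    · rw [c, e, add_zero, s.acc]
  have un : ∀ y z, P y → P z → y + z ∈ U := fun y z hy hz => by
    by_contra hn
    have p : P (y + z) := ⟨hn, fun g ω t => by
      rw [smul_add, add_add_add_comm]; exact add_mem (hy.2 g ω t) (hz.2 g ω t)⟩
    obtain ⟨v, hv⟩ := s.ex3 h.h8 x x
    have a1 : _ ∈ s.sp1 x := c1 y hy v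
    have a2 : _ ∈ s.sp1 x := c1 z hz v
    have a3 : _ ∈ s.sp1 x := c1 _ p v
    have := add_mem (add_mem a1 a2) a3
    rw [h.bl, add_add_add_comm _ v, s.aa, add_zero, s.aac] at this
    rcases this with c | c <;> simp [c] at hv
    exact hv (.inr (.inl rfl))
  have fx : ∀ (σ : G) a ω, Tr s σ a ω → s.β x ω = 0 → σ • y + y ∈ U := fun σ a ω t e => by
    refine un _ _ ⟨fun c => Py.1 (by simpa using Ui _ _ _ t.inv _ c), fun g ψ t' => ?_⟩ Py
    have t2 := t'.conj hi σ⁻¹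
    rw [t.inv.fix e] at t2
    simpa [mul_smul] using Ui _ _ _ t _ (Py.2 _ _ t2)
  have id : ∀ a, Bq Q y (μ a) = a := fun a => by
    obtain ⟨ω, v, e1, e2, e3⟩ := s.ex2 h.h8 x a
    obtain ⟨σ, t⟩ := h.hT a ω e2
    have k := cm y σ a ω t (fx σ a ω t e1) v
    have k2 : σ • (Bq Q y (μ v) + v) = Bq Q y (μ v) + v := by
      rcases c1 y Py v with c | c <;> rw [c]
      · exact smul_zero _
      · exact t.fix e1
    rw [smul_add, ← k, t.mv e3, μa, h.br, add_add_add_comm] at k2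
    exact s.az.1 (by simpa using k2)
  have fq : ∀ (σ : G) a ω, Tr s σ a ω → σ • Q y = Q y := fun σ a ω t => by
    have k : ∀ v, Bq Q (y + σ • y) (μ v) = 0 := fun v => by
      rw [h.bl, id, ← t.two v, ← μe σ a ω t, h.beq, id, s.aa]
    obtain ⟨v, hv⟩ := an (y + σ • y) (Q (y + σ • y)) (by rw [k, add_zero])
    replace hv : μ v = y + σ • y := hv
    rw [← h.eq, ← h.aac y (σ • y), ← hv, h.qadd, μq, id, s.acc]
  obtain ⟨z, hz⟩ := s.ex3 h.h8 x x
  have z0 : z ≠ 0 := by rintro rfl; exact hz (zero_mem _)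
  refine Py.1 (h.an y ?_ ▸ zero_mem _)
  rcases h.hT.fixE hx fun g ω t => fq g x ω t with c | c
  · exact c
  · refine (h.hT.fixE z0 fun g ω t => fq g z ω t).resolve_right fun d => hz ?_
    exact .inr (.inl (d.symm.trans c))

end QD

end H20.CK
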