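import Cfsg.Agent.H20.CK.O

/-! Homocyclic modules: the norm of a four-group of transvections vanishes. -/

set_option autoImplicit false
set_option linter.unusedSectionVars false

namespace H20.CK
open MulAction

variable {G V V' A : Type*} [Group G] [AddCommGroup V] [AddCommGroup V'] [Finite V] [Finite V']
  [DistribMulAction G V] [DistribMulAction G V'] [AddCommGroup A] [Finite A] [DistribMulAction G A]

structure AD (s : Pg V V') (G : Type*) [Group G] [DistribMulAction G V] [DistribMulAction G V']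
    [DistribMulAction G A] (j : V → A) : Prop where
  hi : s.Inv G
  hT : AllT s G
  ker : ∀ g : G, (∀ v : V, g • v = v) → ∀ m : A, g • m = m
  add : ∀ u v, j (u + v) = j u + j v
  inj : Function.Injective j
  sm : ∀ (g : G) v, g • j v = j (g • v)
  tor : ∀ a, a + a = 0 → ∃ v, j v = a
  p2 : ∀ a : A, ∃ k, 2 ^ k • a = 0

variable {s : Pg V V'} {j : V → A}

namespace AD
variable (h : AD s G j)
include h

theorem j0 : j 0 = 0 := by simpa using h.add 0 0
theorem same {g g' : G} (e : ∀ v : V, g • v = g' • v) (a : A) : g • a = g' • a := by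
  have := h.ker (g'⁻¹ * g) (fun v => by rw [mul_smul, e, inv_smul_smul]) a
  rwa [mul_smul, inv_smul_eq_iff] at this

theorem exp : ∃ k, ∀ a : A, 2 ^ k • a = 0 := by
  choose k hk using h.p2
  obtain ⟨n, hn⟩ := (Set.finite_range k).bddAbove
  refine ⟨n, fun a => ?_⟩
  obtain ⟨d, hd⟩ := Nat.exists_eq_add_of_le (hn ⟨a, rfl⟩)
  rw [hd, add_comm, pow_add, mul_nsmul', hk, nsmul_zero]

theorem hom {x : V} (hx : x ≠ 0) : ∃ e : ℕ, (∀ a : A, ∃ v, j v = 2 ^ e • a) ∧
    (∀ v, ∃ a : A, j v = 2 ^ e • a) ∧ ∀ a : A, 2 ^ e • a = 0 → ∃ b, a = b + b := by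
  classical
  have k1 := Nat.find_spec h.exp
  obtain ⟨e, he⟩ : ∃ e, Nat.find h.exp = e + 1 := Nat.exists_eq_succ_of_ne_zero fun c => by
    rw [c] at k1
    exact hx (h.inj (by simpa [h.j0] using k1 (j x)))
  have k2 := Nat.find_min h.exp (m := e) (by omega)
  push Not at k2
  obtain ⟨a0, ha0⟩ := k2
  rw [he] at k1
  have a : ∀ a : A, ∃ v, j v = 2 ^ e • a := fun a => h.tor _ (by
    rw [← two_nsmul, ← mul_nsmul', ← pow_succ', k1])
  have b : ∀ v, ∃ a : A, j v = 2 ^ e • a := fun v => by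
    by_cases c : v = 0
    · exact ⟨0, by simp [c, h.j0]⟩
    obtain ⟨u, hu⟩ := a a0
    obtain ⟨g, hg⟩ := h.hT.trans (u := u) (fun d => ha0 (by rw [← hu, d, h.j0])) c
    exact ⟨g • a0, by rw [← hg, ← h.sm, hu, smul_comm]⟩
  refine ⟨e, a, b, ?_⟩
  let f1 : A →+ A := nsmulAddMonoidHom (2 ^ e)
  let f2 : A →+ A := nsmulAddMonoidHom 2
  have r : f1.range = f2.ker := by
    ext z
    constructor
    · rintro ⟨y, rfl⟩
      show 2 • 2 ^ e • y = 0
      rw [← mul_nsmul', ← pow_succ', k1]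
    · intro hz
      obtain ⟨v, rfl⟩ := h.tor z (by rw [← two_nsmul]; exact hz)
      exact (b v).imp fun _ c => c.symm
  have c1 := f1.ker.card_mul_index
  have c2 := f2.ker.card_mul_index
  rw [AddSubgroup.index_ker] at c1 c2
  rw [r, ← c2, mul_comm] at c1
  have c3 := Nat.eq_of_mul_eq_mul_left Nat.card_pos c1
  have l : f2.range ≤ f1.ker := by
    rintro _ ⟨y, rfl⟩
    show 2 ^ e • 2 • y = 0
    rw [← mul_nsmul', ← pow_succ, k1]
  intro z hz
  obtain ⟨y, hy⟩ : z ∈ f2.range := by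
    rw [AddSubgroup.eq_of_le_of_card_ge l c3.le]; exact hz
  exact ⟨y, by rw [← hy, ← two_nsmul]; rfl⟩

theorem lam {x : V} {φ ψ : V'} (hx : x ≠ 0) (hφ : φ ≠ 0) (hψ : ψ ≠ 0) (ne : ψ ≠ φ) {t : G}
    (tt : Tr s t x φ) (xψ : s.β x ψ = 0) {l : A → A} (la : ∀ a b, l (a + b) = l a + l b)
    (l2 : ∀ a, l a + l a = 0)
    (lc : ∀ (g : G) a ω, Tr s g a ω → a = x ∨ ω = φ ∨ ω = ψ → ∀ z, l (g • z) = g • l z)
    (lt : ∀ z, l (t • z) = l z) (z : A) : l z = 0 := by
  obtain ⟨e, h1, h2, h3⟩ := h.hom hx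
  choose σ hσ using h2
  choose L hL using fun v => h.tor _ (l2 (σ v))
  have key : ∀ a v, j v = 2 ^ e • a → j (L v) = l a := fun a v c => by
    obtain ⟨b, hb⟩ := h3 (σ v - a) (by rw [nsmul_sub, ← hσ, c, sub_self])
    rw [hL, ← sub_add_cancel (σ v) a, hb, la, la, l2, zero_add]
  have La : ∀ u v, L (u + v) = L u + L v := fun u v => h.inj (by
    rw [key (σ u + σ v) _ (by rw [h.add, nsmul_add, hσ, hσ]), h.add, hL, hL, la])
  have Lc : ∀ (g : G) v, j (L (g • v)) = l (g • σ v) := fun g v =>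
    key _ _ (by rw [← h.sm, hσ, smul_comm])
  have Lc' : ∀ (g : G) a ω, Tr s g a ω → a = x ∨ ω = φ ∨ ω = ψ → ∀ v, L (g • v) = g • L v :=
    fun g a ω tg c v => h.inj (by rw [Lc, lc g a ω tg c, ← h.sm, hL])
  have Lx : L x = 0 := by
    obtain ⟨v, hv⟩ := s.dual.ex1 hφ
    have : L (t • v) = L v := h.inj (by rw [Lc, lt, hL])
    rw [tt.mv hv, La] at this
    simpa using this
  have L1 : ∀ v, L v = 0 ∨ L v = x := by
    intro v
    by_contra hn
    obtain ⟨ω, o1, o2⟩ := s.sep1 (z := x) (fun d => hn (.inl d)) fun d => hn (.inr d)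
    obtain ⟨g, tg⟩ := h.hT x ω o1
    have := Lc' g x ω tg (.inl rfl) v
    rw [tg.mv o2] at this
    rcases z01 (s.β v ω) with d | d
    · rw [tg.fix d] at this; exact hx (by simpa using this)
    · rw [tg.mv d, La, Lx] at this; exact hx (by simpa using this)
  have L2 : ∀ ω, ω ≠ 0 → s.β x ω = 0 → ω = φ ∨ ω = ψ → ∀ a, s.β a ω = 0 → L a = 0 :=
    fun ω o1 o2 o3 a o4 => by
      obtain ⟨v, hv⟩ := s.dual.ex1 o1
      obtain ⟨g, tg⟩ := h.hT a ω o4
      have := Lc' g a ω tg (.inr o3) v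
      rw [tg.mv hv, La] at this
      rcases L1 v with c | c
      · simpa [c] using this
      · rw [c, tg.fix o2] at this; simpa using this
  obtain ⟨v, hv⟩ := h1 z
  rw [← key z v hv, ← h.j0]
  congr 1
  rcases z01 (s.β v ψ) with c | c
  · exact L2 ψ hψ xψ (.inr rfl) v c
  obtain ⟨a, a1, a2⟩ := s.dual.sep1 hψ ne
  rw [← s.aac a v, La, L2 φ hφ tt.1 (.inl rfl) a a1, L2 ψ hψ xψ (.inr rfl), add_zero]
  rw [s.addl, c]
  exact (congrArg (· + 1) a2).trans z11

theorem nf {x : V} {φ ψ : V'} (hx : x ≠ 0) (hφ : φ ≠ 0) (hψ : ψ ≠ 0) (ne : ψ ≠ φ) {t u : G}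
    (tt : Tr s t x φ) (tu : Tr s u x ψ) (z : A) : z + t • z + u • (z + t • z) = 0 := by
  have cc : ∀ {g g' : G} {ω ω'}, Tr s g x ω → Tr s g' x ω' → ∀ z : A, g • g' • z = g' • g • z :=
    fun {_ _ ω ω'} a b z => by
      rw [← mul_smul, ← mul_smul]
      exact h.same ((a.mulc b).same (add_comm ω ω' ▸ b.mulc a)) z
  have t2 : ∀ {g : G} {a ω}, Tr s g a ω → ∀ z : A, g • g • z = z := fun a z => by
    rw [← mul_smul]; exact h.ker _ (fun v => by rw [mul_smul, a.two]) z
  have k : ∀ {t u : G} {φ ψ}, Tr s t x φ → Tr s u x ψ → ∀ (g : G) a, Tr s g a φ → ∀ z : A,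
      g • z + t • g • z + u • (g • z + t • g • z) = g • (z + t • z + u • (z + t • z)) := by
    intro t u φ ψ tt tu g a tg z
    have e1 : ∀ z : A, t • g • z = g • t • z := fun z => by
      rw [← mul_smul, ← mul_smul]
      exact h.same ((tt.mula tg).same (add_comm a x ▸ tg.mula tt)) z
    have e2 := tu.conj h.hi g
    rw [tg.fix tt.1] at e2
    have e3 : ∀ z : A, g • u • z = (g * u * g⁻¹) • g • z := fun z => by simp [mul_smul]
    rw [smul_add g, e3, smul_add g, ← e1]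
    rcases z01 (s.β a ψ) with c | c
    · rw [tg.fixd h.hi c] at e2
      rw [h.same (e2.same tu)]
    · rw [tg.mvd h.hi c] at e2
      rw [h.same (e2.same (tu.mulc tt)), mul_smul, smul_add t, t2 tt, add_comm (t • g • z)]
  obtain ⟨n, hn⟩ := h.exp
  suffices H : ∀ i, (∀ z : A, 2 ^ i • (z + t • z + u • (z + t • z)) = 0) →
      ∀ z : A, z + t • z + u • (z + t • z) = 0 from H n (fun _ => hn _) z
  intro i
  induction i with
  | zero => simp
  | succ i ih =>
    refine fun H => ih (h.lam hx hφ hψ ne tt tu.1 (fun a b => ?_) (fun a => ?_)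
      (fun g a ω tg c z => ?_) fun z => ?_)
    · simp only [smul_add]; abel
    · rw [← two_nsmul, ← mul_nsmul', ← pow_succ', H]
    · rw [smul_comm g]
      congr 1
      rcases c with rfl | rfl | rfl
      · simp only [smul_add, cc tg tt, cc tg tu]
      · exact k tt tu g a tg z
      · have := k tu tt g a tg z
        simp only [smul_add, cc tt tu] at this ⊢
        rw [add_add_add_comm, this, add_add_add_comm]
    · rw [t2 tt, add_comm (t • z)]

end AD

end H20.CK
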