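import Cfsg.Agent.H20.CK.P
import Cfsg.Agent.H4.SuzK
import Cfsg.Agent.H4.Crit2

/-! Groups whose involutions lie in a normal elementary abelian subgroup. -/

set_option autoImplicit false
set_option linter.unusedSectionVars false

namespace H20.CK
open MulAction

variable {G V V' : Type*} [Group G] [AddCommGroup V] [AddCommGroup V'] [Finite V] [Finite V']

structure Py0 (ι : V → G) : Prop where
  add : ∀ u v, ι (u + v) = ι u * ι v
  inj : Function.Injective ι
  h2 : ∀ v : V, v + v = 0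
  inv : ∀ x : G, x * x = 1 → ∃ v, ι v = x

namespace Py0
variable {ι : V → G} (h : Py0 ι)
include h
theorem z : ι 0 = 1 := by simpa using h.add 0 0
theorem sq (v : V) : ι v * ι v = 1 := by rw [← h.add, h.h2, h.z]
theorem ne {v : V} (e : v ≠ 0) : ι v ≠ 1 := fun c => e (h.inj (c.trans h.z.symm))
theorem cj (g : G) (v : V) : ∃ w, ι w = g * ι v * g⁻¹ :=
  h.inv _ (by rw [conj_mul, h.sq]; simp)

noncomputable def ac (g : G) (v : V) : V := (h.cj g v).choose
theorem ac_spec (g : G) (v : V) : ι (h.ac g v) = g * ι v * g⁻¹ := (h.cj g v).choose_spec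

@[reducible] noncomputable def act : DistribMulAction G V where
  smul := h.ac
  one_smul v := h.inj ((h.ac_spec 1 v).trans (by simp))
  mul_smul a b v := show h.ac _ _ = h.ac a (h.ac b v) from h.inj (by simp only [h.ac_spec]; group)
  smul_zero g := h.inj ((h.ac_spec g 0).trans (by simp [h.z]))
  smul_add g u v := show h.ac _ _ = h.ac g u + h.ac g v from
    h.inj (by simp only [h.ac_spec, h.add]; group)

def W : Subgroup G where
  carrier := Set.range ι
  one_mem' := ⟨0, h.z⟩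
  mul_mem' := by rintro _ _ ⟨u, rfl⟩ ⟨v, rfl⟩; exact ⟨_, h.add u v⟩
  inv_mem' := by rintro _ ⟨u, rfl⟩; exact ⟨u, eq_inv_of_mul_eq_one_left (h.sq u)⟩

theorem Wn : h.W.Normal := ⟨by rintro _ ⟨v, rfl⟩ g; exact h.cj g v⟩
theorem Wc : Nat.card h.W = Nat.card V := (Nat.card_congr (Equiv.ofInjective ι h.inj)).symm
theorem Wp : IsPGroup 2 h.W := fun ⟨_, v, e⟩ => ⟨1, Subtype.ext (by simpa [← e, pow_two] using h.sq v)⟩

theorem exr {x : G} (h1 : x ≠ 1) {k : ℕ} (hk : x ^ 2 ^ k = 1) : ∃ i r, r ≠ 0 ∧ x ^ i = ι r := by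
  induction k with
  | zero => exact absurd (by simpa using hk) h1
  | succ k ih =>
    by_cases c : x ^ 2 ^ k = 1
    · exact ih c
    obtain ⟨r, hr⟩ := h.inv (x ^ 2 ^ k) (by rw [← pow_two, ← pow_mul, ← pow_succ, hk])
    exact ⟨_, r, fun e => c (by rw [← hr, e, h.z]), hr.symm⟩
end Py0

variable [DistribMulAction G V]

structure Py (ι : V → G) : Prop extends Py0 ι where
  sm : ∀ (g : G) v, ι (g • v) = g * ι v * g⁻¹

theorem Py0.py {G V : Type*} [Group G] [AddCommGroup V] [Finite V] {ι : V → G} (h : Py0 ι) :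
    letI := h.act; Py ι :=
  letI := h.act
  ⟨h, h.ac_spec⟩

def Cv (G V : Type*) [Group G] [AddCommGroup V] [DistribMulAction G V] : Subgroup G :=
  (toPermHom G V).ker

instance : (Cv G V).Normal := inferInstanceAs (toPermHom G V).ker.Normal

theorem mem_Cv {g : G} : g ∈ Cv G V ↔ ∀ v : V, g • v = v := by
  simp [Cv, MonoidHom.mem_ker, Equiv.ext_iff]

namespace Py
variable {ι : V → G} (h : Py ι)
include h

theorem fix {g : G} {v : V} : g • v = v ↔ g * ι v = ι v * g := by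
  rw [← h.inj.eq_iff, h.sm, mul_inv_eq_iff_eq_mul]
theorem com {c : G} (hc : c ∈ Cv G V) (v : V) : c * ι v = ι v * c := h.fix.1 (mem_Cv.1 hc v)
theorem mem (v : V) : ι v ∈ Cv G V := mem_Cv.2 fun u => h.fix.2 (by rw [← h.add, ← h.add, add_comm])
theorem WC : h.W ≤ Cv G V := by rintro _ ⟨v, rfl⟩; exact h.mem v

theorem sp [Finite G] [DistribMulAction G V'] {s : Pg V V'} (hi : s.Inv G) (hT : AllT s G)
    (k2 : K2 G V) {x : V} {φ : V'} (hx : x ≠ 0) (hφ : φ ≠ 0) (e : s.β x φ = 0) :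
    ∃ (t : G) (k : ℕ) (r : V), Tr s t x φ ∧ (t * t) ^ k = ι r ∧ r ≠ 0 ∧ r ≠ x := by
  haveI : Fact (Nat.Prime 3) := ⟨Nat.prime_three⟩
  obtain ⟨q, hq⟩ := s.dual.ex1 hφ
  replace hq : s.β q φ = 1 := hq
  have xq : x ≠ q := by rintro rfl; exact z10 (hq.symm.trans e)
  obtain ⟨ψ, qψ, xψ⟩ := s.sep1 hx xq
  obtain ⟨t, tt⟩ := hT x φ e
  obtain ⟨u, tu⟩ := hT q ψ qψ
  let f := toPermHom G V
  have t2 : f t * f t = 1 := Equiv.ext tt.two
  have u2 : f u * f u = 1 := Equiv.ext tu.two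
  have br : f t * f u * (f t)⁻¹ = f u * f t * (f u)⁻¹ := by
    have a := tu.conj hi t
    have b := tt.conj hi u
    rw [tt.mv hq, tt.mvd hi xψ] at a
    rw [tu.mv xψ, tu.mvd hi hq, add_comm x, add_comm φ] at b
    simp only [← map_inv, ← map_mul]
    exact Equiv.ext (a.same b)
  rw [inv_eq_of_mul_eq_one_left t2, inv_eq_of_mul_eq_one_left u2] at br
  set ρ := f t * f u with hρ
  have ρx : ρ x = q := by
    show t • u • x = q
    rw [tu.mv xψ, smul_add, tt.cen, tt.mv hq, add_comm q, s.aac]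
  have ρ3 : orderOf ρ = 3 := orderOf_eq_prime (by
    calc ρ ^ 3 = (ρ * f t) * (f u * f t * f u) := by simp [hρ, pow_succ, mul_assoc]
      _ = 1 := by rw [← br]; simp only [hρ, mul_assoc, ← mul_assoc (f t) (f t), t2, one_mul, u2,
          ← mul_assoc (f u) (f u)]) (fun c => xq (by rw [← ρx, c]; rfl))
  let H := (Subgroup.zpowers ρ).comap f
  have tuH : t * u ∈ H := ⟨1, by simp [hρ]⟩
  obtain ⟨P, PH, P1, P2⟩ := exSyl 3 H
  have PC : ∀ a ∈ P, a ∈ Cv G V → a = 1 := fun a a1 a2 => by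
    obtain ⟨i, hi⟩ := k2 a (mem_Cv.1 a2)
    obtain ⟨j, hj⟩ := P1 ⟨a, a1⟩
    have := (pow_gcd_eq_one.2 ⟨hi, congrArg Subtype.val hj⟩ :)
    rwa [Nat.Coprime.pow i j (by norm_num : Nat.Coprime 2 3), pow_one] at this
  obtain ⟨a, aP, a1⟩ : ∃ a ∈ P, f a ≠ 1 := by
    by_contra hn
    push Not at hn
    have : P = ⊥ := (Subgroup.eq_bot_iff_forall _).2 fun a ha => PC a ha (hn a ha)
    rw [this, Subgroup.relIndex_bot_left] at P2
    have d := orderOf_map_dvd f (t * u)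
    rw [map_mul, ρ3] at d
    exact P2 (d.trans (Subgroup.orderOf_dvd_natCard H tuH))
  have gen : ∀ b ∈ H, ∃ i : ℤ, f (a ^ i) = f b := fun b hb => by
    obtain ⟨i, hi⟩ := mem_zpowers_of_prime_card (G := Subgroup.zpowers ρ) (p := 3)
      (by rw [Nat.card_zpowers, ρ3]) (g := ⟨f a, PH aP⟩) (g' := ⟨f b, hb⟩)
      (fun c => a1 (congrArg Subtype.val c))
    exact ⟨i, by simpa using congrArg Subtype.val hi⟩
  obtain ⟨c, cH, cN⟩ := witt P1 P2 (g := t) fun b hb => by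
    obtain ⟨i, hi⟩ : f b ∈ Subgroup.zpowers ρ := PH hb
    refine ⟨-i, ?_⟩
    simp only [map_mul, map_inv] at hi ⊢
    rw [← hi, ← conj_zpow, zpow_neg, ← inv_zpow]
    congr 1
    rw [hρ, mul_inv_rev, inv_eq_of_mul_eq_one_left t2, inv_eq_of_mul_eq_one_left u2, ← mul_assoc, t2,
      one_mul]
  obtain ⟨i, hi'⟩ := gen c cH
  let t' := (a ^ i)⁻¹ * (c * t)
  have tN : t' ∈ Subgroup.normalizer (P : Set G) :=
    mul_mem (Subgroup.le_normalizer (inv_mem (zpow_mem aP i))) cN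
  have ft : f t' = f t := by simp only [t', map_mul, map_inv, hi', inv_mul_cancel_left]
  have tt' : Tr s t' x φ := ⟨e, fun v => (Equiv.ext_iff.1 ft v).trans (tt.2 v)⟩
  have sC : t' * t' ∈ Cv G V := mem_Cv.2 fun v => by rw [mul_smul, tt'.two]
  obtain ⟨k, hk⟩ := k2 _ (mem_Cv.1 sC)
  obtain ⟨m, r, r0, hr⟩ := h.exr (fun c => by
    obtain ⟨v, hv⟩ := h.inv _ c
    have := mem_Cv.1 (hv ▸ h.mem v) q
    rw [tt'.mv hq] at this
    exact hx (by simpa using this)) hk
  refine ⟨t', m, r, tt', hr, r0, ?_⟩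
  rintro rfl
  have cm : ∀ b ∈ P, Commute b (t' * t') := fun b hb => by
    have := PC (b * (t' * t' * b⁻¹ * (t' * t')⁻¹))
      (mul_mem hb ((Subgroup.mem_normalizer_iff.1 (mul_mem tN tN) _).1 (inv_mem hb)))
      (by simpa [mul_assoc] using mul_mem (Subgroup.Normal.conj_mem inferInstance _ sC b) (inv_mem sC))
    rw [Commute, SemiconjBy, ← mul_inv_eq_one, ← this]; group
  obtain ⟨j, hj⟩ := gen (t * u) tuH
  have := h.fix.2 (hr ▸ ((cm _ (zpow_mem aP j)).pow_right m).eq)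
  exact xq (this.symm.trans ((Equiv.ext_iff.1 hj r).trans (by rw [map_mul, ρx])))

end Py

end H20.CK
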