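import Cfsg.Agent.H20.CK.Q

/-! The Sylow 2-subgroup of the centralizer of the involutions. -/

set_option autoImplicit false
set_option linter.unusedSectionVars false

namespace H20.CK
open MulAction

section
variable {G X : Type*} [Group G] [Finite G] [MulAction G X] [Finite X]

theorem dvd_ncard (H : Subgroup G) {d : ℕ} (n : ℕ) : ∀ S : Set X, S.ncard = n →
    (∀ h ∈ H, ∀ x ∈ S, h • x ∈ S) → (∀ x ∈ S, d ∣ (orb H x).ncard) → d ∣ n := by
  induction n using Nat.strong_induction_on with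
  | _ n ih =>
    intro S hn h1 h2
    rcases S.eq_empty_or_nonempty with rfl | ⟨x, hx⟩
    · simp [← hn]
    have l : orb H x ⊆ S := by rintro _ ⟨g, hg, rfl⟩; exact h1 g hg x hx
    have e := Set.ncard_sdiff_add_ncard_of_subset l
    have p : 0 < (orb H x).ncard :=
      (Set.ncard_pos (Set.toFinite _)).2 ⟨x, 1, one_mem _, one_smul _ _⟩
    rw [← hn, ← e]
    refine dvd_add (ih _ (by omega) _ rfl (fun g hg y hy => ⟨h1 g hg y hy.1, ?_⟩)
      fun y hy => h2 y hy.1) (h2 x hx)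
    rintro ⟨a, ha, e⟩
    exact hy.2 ⟨g⁻¹ * a, mul_mem (inv_mem hg) ha, by rw [mul_smul, e, inv_smul_smul]⟩

theorem pow_fix {k : G} {x : X} {n : ℕ} :
    k ^ n • x = x ↔ (orb (Subgroup.zpowers k) x).ncard ∣ n := by
  letI := Fintype.ofFinite (orbit (Subgroup.zpowers k) x)
  rw [pow_smul_eq_iff_minimalPeriod_dvd, minimalPeriod_eq_card, ← Nat.card_eq_fintype_card,
    Nat.card_coe_set_eq]
  congr! 2
  ext y
  exact ⟨fun ⟨a, e⟩ => ⟨a, a.2, e⟩, fun ⟨a, ha, e⟩ => ⟨⟨a, ha⟩, e⟩⟩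

theorem cyc' {p : ℕ} [hp : Fact p.Prime] {H : Subgroup G} {x : X} (h : (orb H x).ncard = p) :
    ∃ c ∈ H, IsPGroup p (Subgroup.zpowers c) ∧ orb (Subgroup.zpowers c) x = orb H x := by
  obtain ⟨J, hJ, j1, j2⟩ := exSyl p H
  have d := orb_dvd hJ x
  rw [h] at d
  have d2 := (hp.out.dvd_mul.1 d).resolve_right j2
  have e : orb J x = orb H x := Set.eq_of_subset_of_ncard_le
    (by rintro _ ⟨g, hg, rfl⟩; exact ⟨g, hJ hg, rfl⟩) (h ▸ Nat.le_of_dvd
      ((Set.ncard_pos (Set.toFinite _)).2 ⟨x, 1, one_mem _, one_smul _ _⟩) d2)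
  obtain ⟨c, hc, e2⟩ := cyc (H := J) (x := x) (e ▸ h)
  exact ⟨c, hJ hc, j1.to_le (Subgroup.zpowers_le.2 hc), e2.trans e⟩

theorem arith_tv {p m a : ℕ} (hp : p.Prime) (h2 : p ≠ 2) (h1 : 2 ^ m ≠ 1) (hl : 2 ^ m ≤ (p + 1) ^ 2)
    (hd : p ^ 2 ∣ 2 ^ a * 2 ^ m - 2 ^ a) : False := by
  rw [← Nat.mul_sub_one] at hd
  obtain ⟨t, ht⟩ := (Nat.Coprime.pow 2 a ((Nat.coprime_primes hp Nat.prime_two).2 h2)).dvd_of_dvd_mul_left hd
  have p3 : 3 ≤ p := by have := hp.two_le; omega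
  have : 0 < 2 ^ m := by positivity
  have e : 2 ^ m = p ^ 2 * t + 1 := by omega
  have t1 : t = 1 := by
    rcases t with _ | _ | t
    · omega
    · rfl
    · nlinarith
  obtain ⟨b, rfl⟩ := hp.odd_of_ne_two h2
  rcases m with _ | _ | m
  · omega
  · have : (2 * b + 1) ^ 2 = 4 * (b ^ 2) + 4 * b + 1 := by ring
    rw [t1] at e; omega
  · have : 2 ^ (m + 1 + 1) = 4 * 2 ^ m := by ring
    have : (2 * b + 1) ^ 2 = 4 * (b ^ 2 + b) + 1 := by ring
    rw [t1] at e; omega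

theorem exSyl' {p : ℕ} [Fact p.Prime] {P H : Subgroup G} (hP : IsPGroup p P) (h : P ≤ H) :
    ∃ J, P ≤ J ∧ J ≤ H ∧ IsPGroup p J ∧ ¬ p ∣ J.relIndex H := by
  obtain ⟨Q, hQ⟩ := (hP.comap_subtype (K := H)).exists_le_sylow
  refine ⟨(Q : Subgroup H).map H.subtype, fun x hx => ⟨⟨x, h hx⟩, hQ hx, rfl⟩,
    Subgroup.map_subtype_le _, Q.2.map _, ?_⟩
  rw [Subgroup.relIndex, Subgroup.subgroupOf, Subgroup.comap_map_eq_self_of_injective
    H.subtype_injective]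
  exact Q.not_dvd_index

/-- a `p`-automorphism of a 2-group with few involutions -/
theorem aut_free {p : ℕ} (hp : p.Prime) (h2 : p ≠ 2) (hG : IsPGroup 2 G) {k : MulAut G}
    (hk : IsPGroup p (Subgroup.zpowers k)) (Z : Subgroup G) (hZ : ∀ x, x ∈ Z ↔ x * x = 1)
    (hc : Z ≤ Subgroup.center G) (hq : Nat.card Z ≤ p + 1) (hf : ∀ z ∈ Z, (k ^ p) z = z) :
    k ^ p = 1 := by
  haveI := Fact.mk hp
  obtain ⟨D, d1, d2, -, -, d3⟩ := H4.exists_critical_pp hG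
  refine d3 _ ?_ ?_
  · obtain ⟨i, hi⟩ := IsPGroup.iff_orderOf.1 hk ⟨k ^ p, pow_mem (Subgroup.mem_zpowers k) p⟩
    rw [Subgroup.orderOf_mk] at hi
    rw [hi]
    exact Nat.Coprime.pow_left i ((Nat.coprime_primes hp Nat.prime_two).2 h2)
  let F := ((k ^ p).toMonoidHom.eqLocus (MonoidHom.id G)).subgroupOf D
  suffices F = ⊤ from fun x hx => (this ▸ Subgroup.mem_top (⟨x, hx⟩ : D) : ⟨x, hx⟩ ∈ F)
  by_contra hn
  have i1 := H4.index_le_sq (P := D) (Z := Z.subgroupOf D)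
    (fun x hx => Subgroup.mem_center_iff.2 fun y => Subtype.ext (Subgroup.mem_center_iff.1 (hc hx) y))
    (fun x => (hZ _).2 (by simpa [H4.pp, pow_succ, mul_assoc] using d2 x x.2))
    fun x => (hZ x).trans (Subtype.ext_iff (a1 := x * x) (a2 := 1)).symm
  have i2 : Nat.card (Z.subgroupOf D) ≤ Nat.card Z :=
    Nat.card_le_card_of_injective (fun x => (⟨x.1.1, x.2⟩ : Z)) fun a b e =>
      Subtype.ext (Subtype.ext (congrArg (Subtype.val : Z → G) e))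
  have i3 : F.index ≤ (Z.subgroupOf D).index :=
    Nat.le_of_dvd (Nat.pos_of_ne_zero Subgroup.index_ne_zero_of_finite)
      (Subgroup.index_dvd_of_le fun x hx => hf x hx)
  obtain ⟨m, hm⟩ := (hG.to_subgroup D).index F
  obtain ⟨a, ha⟩ := ((hG.to_subgroup D).to_subgroup F).exists_card_eq
  refine arith_tv (m := m) (a := a) hp h2 (by rwa [← hm, Ne, Subgroup.index_eq_one])
    (hm ▸ i3.trans (i1.trans (Nat.pow_le_pow_left (i2.trans hq) 2))) ?_
  refine dvd_ncard (Subgroup.zpowers k) _ {x | x ∈ D ∧ (k ^ p) x ≠ x} ?_ ?_ ?_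
  · rw [← ha, ← hm, F.card_mul_index, show {x | x ∈ D ∧ (k ^ p) x ≠ x} = Subtype.val '' (F : Set D)ᶜ
      from Set.ext fun x => ⟨fun ⟨a, b⟩ => ⟨⟨x, a⟩, b, rfl⟩, by rintro ⟨y, b, rfl⟩; exact ⟨y.2, b⟩⟩,
      Set.ncard_image_of_injective _ Subtype.val_injective, Set.ncard_compl]
    rfl
  · rintro _ ⟨i, rfl⟩ x ⟨x1, x2⟩
    refine ⟨Subgroup.characteristic_iff_map_le.1 d1 _ ⟨x, x1, rfl⟩, fun e => x2 ?_⟩
    have : (k ^ p * k ^ i) x = (k ^ i) x := e
    rw [(((Commute.refl k).zpow_right i).pow_left p).eq] at this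
    exact (k ^ i).injective this
  · rintro x ⟨-, x2⟩
    obtain ⟨n, hn⟩ := orb_pow hk x
    rw [hn]
    refine pow_dvd_pow _ (not_lt.1 fun l => x2 ((pow_fix (k := k) (x := x)).2 ?_))
    rw [hn]
    exact (pow_dvd_pow _ (Nat.lt_succ_iff.1 l)).trans (pow_one p).dvd

end

variable {G V : Type*} [Group G] [Finite G] [AddCommGroup V] [Finite V] [DistribMulAction G V]
  {ι : V → G}

theorem Py.tv (h : Py ι) (hp : (Nat.card V - 1).Prime)
    (tr : ∀ u v : V, u ≠ 0 → v ≠ 0 → ∃ g : G, g • u = v) {T : Subgroup G} (T1 : IsPGroup 2 T)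
    (T2 : T ≤ Cv G V) (T3 : ¬ 2 ∣ T.relIndex (Cv G V)) (T4 : ∀ v, ι v ∈ T) :
    (∀ a ∈ T, ∀ b ∈ T, a * b = b * a) ∨ ∀ a ∈ T, ∃ v, ι v = a * a := by
  haveI := Fact.mk hp
  obtain ⟨n, hn⟩ := (pg h.h2).card_pow
  have p2 : Nat.card V - 1 ≠ 2 := by
    rcases n with _ | n
    · omega
    · rw [pow_succ] at hn; omega
  have c4 : 4 ≤ Nat.card V := by have := hp.two_le; omega
  haveI : Nontrivial V := Finite.one_lt_card_iff_nontrivial.1 (by omega)
  obtain ⟨v0, h0⟩ := exists_ne (0 : V)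
  have o1 : orb (Subgroup.normalizer (T : Set G)) v0 = {v | v ≠ 0} :=
    orb_eq (fun g _ => by simpa using h0) fun v hv => by
      obtain ⟨g, hg⟩ := tr v0 v h0 hv
      obtain ⟨c, c1, c2⟩ := witt T1 T3 (g := g) fun q hq =>
        Subgroup.Normal.conj_mem inferInstance _ (T2 hq) g
      exact ⟨_, c2, by rw [mul_smul, hg, mem_Cv.1 c1]⟩
  have o2 : {v : V | v ≠ 0}.ncard = Nat.card V - 1 := card_nz V
  obtain ⟨c, cN, c1, c2⟩ := cyc' (o1 ▸ o2)
  rw [o1] at c2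
  have tc : ∀ u v : V, u ≠ 0 → v ≠ 0 → ∃ g ∈ Subgroup.zpowers c, g • u = v := fun u v hu hv => by
    obtain ⟨a, ha, rfl⟩ : u ∈ orb (Subgroup.zpowers c) v0 := c2 ▸ hu
    obtain ⟨b, hb, rfl⟩ : v ∈ orb (Subgroup.zpowers c) v0 := c2 ▸ hv
    exact ⟨b * a⁻¹, mul_mem hb (inv_mem ha), by simp [mul_smul]⟩
  have oc : ∀ u : V, u ≠ 0 → ∀ j, c ^ j • u = u ↔ Nat.card V - 1 ∣ j := fun u hu j => by
    rw [pow_fix, orb_eq (Y := {v | v ≠ 0}) (fun g _ => by simpa using hu) fun v hv => tc u v hu hv, o2]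
  let k := T.normalizerMonoidHom ⟨c, cN⟩
  have ek : ∀ (j : ℕ) (x : T), ((k ^ j) x : G) = c ^ j * x * (c ^ j)⁻¹ :=
    fun j x => by rw [← map_pow]; rfl
  have kp : k ^ (Nat.card V - 1) = 1 := by
    refine aut_free hp p2 T1 (fun ⟨_, i, hi⟩ => ?_) (h.W.subgroupOf T)
      (fun x => ⟨fun ⟨v, e⟩ => Subtype.ext (show (x : G) * x = 1 by rw [show (x : G) = ι v from e.symm, h.sq]),
        fun e => h.inv _ (congrArg Subtype.val e)⟩)
      (fun x ⟨v, e⟩ => Subgroup.mem_center_iff.2 fun y => Subtype.ext (show (y : G) * x = x * y by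
        rw [show (x : G) = ι v from e.symm, h.com (T2 y.2) v])) ?_ fun z ⟨v, e⟩ => Subtype.ext ?_
    · obtain ⟨m, hm⟩ := c1 ⟨c, Subgroup.mem_zpowers c⟩
      refine ⟨m, Subtype.ext ?_⟩
      have : k ^ (Nat.card V - 1) ^ m = 1 := by
        rw [← map_pow, show (⟨c, cN⟩ : Subgroup.normalizer (T : Set G)) ^ _ = 1 from
          Subtype.ext (by simpa using congrArg Subtype.val hm), map_one]
      simp only [← hi, SubmonoidClass.mk_pow, OneMemClass.coe_one]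
      rw [← zpow_natCast, ← zpow_mul, mul_comm, zpow_mul, zpow_natCast, this, one_zpow]
    · rw [Nat.card_congr (Subgroup.subgroupOfEquivOfLe (by rintro _ ⟨v, rfl⟩; exact T4 v)).toEquiv,
        h.Wc]
      omega
    · rw [ek, show (z : G) = ι v from e.symm, ← h.sm]
      by_cases f : v = 0
      · simp [f]
      · rw [(oc v f _).2 dvd_rfl]
  have S := H4.suz_of_ambient T1 cN (by
      obtain ⟨z, hz⟩ : ∃ z, z ∉ ({0, v0} : Set V) := by
        by_contra hn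
        push Not at hn
        have := Set.ncard_le_ncard (s := Set.univ) (fun z _ => hn z)
        rw [Set.ncard_univ, Set.ncard_pair h0.symm] at this
        omega
      simp only [Set.mem_insert_iff, Set.mem_singleton_iff, not_or] at hz
      exact ⟨_, T4 z, _, T4 v0, h.inj.ne hz.2, h.ne hz.1, h.sq _, h.ne h0, h.sq _⟩)
    (fun x _ y _ x1 x2 y1 y2 => by
      obtain ⟨u, rfl⟩ := h.inv x x2
      obtain ⟨v, rfl⟩ := h.inv y y2
      obtain ⟨g, hg, e⟩ := tc u v (by rintro rfl; exact x1 h.z) (by rintro rfl; exact y1 h.z)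
      obtain ⟨j, rfl⟩ := mem_powers_iff_mem_zpowers.2 hg
      exact ⟨j, by rw [← h.sm, e]⟩)
    fun j x _ x1 x2 e => by
      obtain ⟨u, rfl⟩ := h.inv x x2
      obtain ⟨i, rfl⟩ := (oc u (by rintro rfl; exact x1 h.z) j).1 (h.fix.2 e)
      intro y hy
      have := ek ((Nat.card V - 1) * i) ⟨y, hy⟩
      rw [pow_mul k, kp, one_pow] at this
      exact eq_mul_inv_iff_mul_eq.1 this
  by_cases ab : H4.Cm (⊤ : Subgroup T)
  · exact .inl fun a ha b hb => congrArg Subtype.val (ab ⟨a, ha⟩ trivial ⟨b, hb⟩ trivial)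
  · exact .inr fun a ha => h.inv _ (congrArg Subtype.val (S.mem_Om.1 (S.sq_mem_Om ab ⟨a, ha⟩)))

end H20.CK
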