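import Cfsg.Agent.H20.CK.R

/-! The full linear group is not induced on a normal subgroup containing all involutions. -/

set_option autoImplicit false
set_option linter.unusedSectionVars false

namespace H20.CK
open MulAction

section
variable {G : Type*} [Group G] {C : Subgroup G}

def AbC (C : Subgroup G) (_ : ∀ a ∈ C, ∀ b ∈ C, a * b = b * a) := Additive C

variable {hab : ∀ a ∈ C, ∀ b ∈ C, a * b = b * a}

instance : AddCommGroup (AbC C hab) :=
  { (inferInstance : AddGroup (Additive C)) with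
    add_comm := fun a b => Subtype.ext (hab _ a.toMul.2 _ b.toMul.2) }
instance [Finite G] : Finite (AbC C hab) := inferInstanceAs (Finite C)
def AbC.val (a : AbC C hab) : G := a.toMul.1
def AbC.mk (hab : ∀ a ∈ C, ∀ b ∈ C, a * b = b * a) (c : G) (h : c ∈ C) : AbC C hab :=
  Additive.ofMul ⟨c, h⟩
theorem AbC.ext {a b : AbC C hab} (h : a.val = b.val) : a = b := Subtype.ext h
theorem AbC.mem (a : AbC C hab) : a.val ∈ C := a.toMul.2
@[simp] theorem AbC.val_mk (c : G) (h : c ∈ C) : (AbC.mk hab c h).val = c := rfl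
@[simp] theorem AbC.val_add (a b : AbC C hab) : (a + b).val = a.val * b.val := rfl
@[simp] theorem AbC.val_neg (a : AbC C hab) : (-a).val = a.val⁻¹ := rfl
@[simp] theorem AbC.val_zero : (0 : AbC C hab).val = 1 := rfl
@[simp] theorem AbC.val_nsmul (n : ℕ) (a : AbC C hab) : (n • a).val = a.val ^ n := rfl
instance [h : C.Normal] : DistribMulAction G (AbC C hab) where
  smul g a := AbC.mk hab (g * a.val * g⁻¹) (h.conj_mem _ a.mem g)
  one_smul a := AbC.ext (show 1 * a.val * 1⁻¹ = _ by simp)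
  mul_smul g k a := AbC.ext (show g * k * a.val * (g * k)⁻¹ = g * (k * a.val * k⁻¹) * g⁻¹ by group)
  smul_zero g := AbC.ext (show g * 1 * g⁻¹ = 1 by simp)
  smul_add g a b := AbC.ext (show g * (a.val * b.val) * g⁻¹ = g * a.val * g⁻¹ * (g * b.val * g⁻¹) by
    group)
@[simp] theorem AbC.val_smul [C.Normal] (g : G) (a : AbC C hab) :
    (g • a).val = g * a.val * g⁻¹ := rfl
end

variable {G V V' : Type*} [Group G] [Finite G] [AddCommGroup V] [Finite V] [DistribMulAction G V]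
  [AddCommGroup V'] [Finite V'] [DistribMulAction G V'] {ι : V → G} {s : Pg V V'}

namespace Py
variable (h : Py ι) (hi : s.Inv G) (hT : AllT s G) (k2 : K2 G V)
include h hi hT k2

theorem sp' {x : V} {φ ψ : V'} (hx : x ≠ 0) (hφ : φ ≠ 0) (hψ : ψ ≠ 0) (ne : ψ ≠ φ)
    (e : s.β x φ = 0) (f : s.β x ψ = 0) :
    ∃ (t : G) (k : ℕ) (r : V), Tr s t x φ ∧ (t * t) ^ k = ι r ∧ s.β r ψ = 1 := by
  obtain ⟨t, k, r, tt, h1, r0, rx⟩ := h.sp hi hT k2 hx hφ e
  rcases z01 (s.β r ψ) with c | c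
  swap
  · exact ⟨t, k, r, tt, h1, c⟩
  obtain ⟨a, a1, a2⟩ := s.dual.sep1 hψ ne
  replace a1 : s.β a φ = 0 := a1
  replace a2 : s.β a ψ = 1 := a2
  obtain ⟨ω, o1, o2, o3⟩ := s.sep2 (z := x) (y := a) (x := r) (by
    rintro (d | d | d | d)
    exacts [r0 d, rx d, z10 (by rw [← a2, ← d, c]), z10 (by rw [← c, d, s.addl, f, a2, zero_add])])
  obtain ⟨g, tg⟩ := hT a ω o2
  have := tt.conj hi g
  rw [tg.fix o1, tg.fixd hi a1] at this
  exact ⟨_, k, g • r, this, by rw [conj_mul, conj_pow, h1, h.sm],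
    by rw [tg.mv o3, s.addl, c, a2, zero_add]⟩

theorem eight (h4 : 4 ≤ Nat.card V) : 8 ≤ Nat.card V := by
  haveI : Nontrivial V := Finite.one_lt_card_iff_nontrivial.1 (by omega)
  obtain ⟨x, hx⟩ := exists_ne (0 : V)
  have c := s.card_ker hx
  haveI : Nontrivial (s.ker x) := Finite.one_lt_card_iff_nontrivial.1 (by omega)
  obtain ⟨⟨φ, e⟩, hφ⟩ := exists_ne (0 : s.ker x)
  replace hφ : φ ≠ 0 := fun c => hφ (Subtype.ext c)
  obtain ⟨t, k, r, tt, h1, r0, rx⟩ := h.sp hi hT k2 hx hφ e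
  have : t • r = r := h.fix.2 (by rw [← h1]; exact ((Commute.refl t).mul_right (.refl t)).pow_right k)
  have e2 : s.β r φ = 0 := by
    by_contra hn
    rw [tt.mv (zne0.1 hn)] at this
    exact hx (by simpa using this)
  have l := AddSubgroup.card_le_of_le (sp2_le' s (A := s.dual.ker φ) e e2)
  have c2 := s.dual.card_ker hφ
  rw [s.card_sp2 hx r0 rx] at l
  have := s.card_eq
  omega

theorem ab (h8 : 8 ≤ Nat.card V) (hab : ∀ a ∈ Cv G V, ∀ b ∈ Cv G V, a * b = b * a) : False := by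
  let j : V → AbC _ hab := fun v => AbC.mk hab (ι v) (h.mem v)
  have D : AD s G j := ⟨hi, hT, fun g hg m => AbC.ext (by
      rw [AbC.val_smul, hab g (mem_Cv.2 hg) _ m.mem, mul_inv_cancel_right]),
    fun u v => AbC.ext (h.add u v), fun u v e => h.inj (congrArg AbC.val e),
    fun g v => AbC.ext (h.sm g v).symm,
    fun a e => (h.inv _ (congrArg AbC.val e)).imp fun _ c => AbC.ext c,
    fun a => (k2 _ (mem_Cv.1 a.mem)).imp fun _ c => AbC.ext c⟩
  have sq : ∀ {t : G} {a ω}, Tr s t a ω → t * t ∈ Cv G V := fun tt =>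
    mem_Cv.2 fun v => by rw [mul_smul, tt.two]
  obtain ⟨ω0, x, -, -, c⟩ := s.ex2 h8 0 0
  have hx : x ≠ 0 := by rintro rfl; exact z10 (c.symm.trans (s.zl _))
  have key : ∀ {t u : G} {φ ψ} (tt : Tr s t x φ), Tr s u x ψ → φ ≠ 0 → ψ ≠ 0 → ψ ≠ φ →
      AbC.mk hab _ (sq tt) + u • AbC.mk hab _ (sq tt) = j x := by
    intro t u φ ψ tt tu hφ hψ ne
    have d1 : ∀ {t' : G} (tt' : Tr s t' x φ), AbC.mk hab _ (sq tt') + u • AbC.mk hab _ (sq tt') =
        AbC.mk hab _ (sq tt) + u • AbC.mk hab _ (sq tt) := fun {t'} tt' => by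
      have m : t' * t⁻¹ ∈ Cv G V := mem_Cv.2 fun v => by rw [mul_smul, tt'.same tt, smul_inv_smul]
      have : AbC.mk hab _ (sq tt') = (AbC.mk hab _ m + t • AbC.mk hab _ m) + AbC.mk hab _ (sq tt) :=
        AbC.ext (by simp [mul_assoc])
      rw [this, smul_add, add_add_add_comm, D.nf hx hφ hψ ne tt tu, zero_add]
    have n := D.nf hx hφ hψ ne tt tu (AbC.mk hab _ (sq tt))
    rw [show t • AbC.mk hab _ (sq tt) = AbC.mk hab _ (sq tt) from AbC.ext (by simp [mul_assoc]), smul_add,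
      add_add_add_comm] at n
    obtain ⟨v, hv⟩ := D.tor _ n
    have fx := hT.fixE hx (v := v) fun g ω tg => D.inj (by
      have a := tt.conj hi g
      have b := tu.conj hi g
      rw [tg.cen, tg.fixd hi tt.1] at a
      rw [tg.cen, tg.fixd hi tu.1] at b
      rw [← D.sm, hv]
      refine Eq.trans ?_ (d1 a)
      rw [← D.same (b.same tu) (AbC.mk hab _ (sq a))]
      exact AbC.ext (by simp [mul_assoc]))
    rcases fx with rfl | rfl
    · obtain ⟨t', k, r, tt', h1, h2⟩ := h.sp' hi hT k2 hx hφ hψ ne tt.1 tu.1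
      have := congrArg (k • ·) (hv.trans (d1 tt').symm)
      simp only [D.j0, nsmul_zero, nsmul_add] at this
      rw [smul_comm k u, show k • AbC.mk hab _ (sq tt') = j r from AbC.ext h1, D.sm, tu.mv h2, ← D.add,
        s.aac, ← D.j0] at this
      exact absurd (D.inj this).symm hx
    · exact hv.symm
  obtain ⟨φ, v, xφ, -, vφ⟩ := s.ex2 h8 x x
  obtain ⟨ψ, w, xψ, vψ, wψ⟩ := s.ex2 h8 x v
  have hφ : φ ≠ 0 := by rintro rfl; exact z10 (vφ.symm.trans (s.zr _))
  have hψ : ψ ≠ 0 := by rintro rfl; exact z10 (wψ.symm.trans (s.zr _))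
  have ne : ψ ≠ φ := by rintro rfl; exact z10 (vφ.symm.trans vψ)
  obtain ⟨t, tt⟩ := hT x φ xφ
  obtain ⟨u, tu⟩ := hT x ψ xψ
  have k1 := key tt tu hφ hψ ne
  have k3 := key tu tt hψ hφ ne.symm
  have k4 := key (tt.mulc tu) tt (mt s.dual.az.1 ne.symm) hφ (by simpa using hψ)
  have m : t * u * t⁻¹ * u⁻¹ ∈ Cv G V := mem_Cv.2 fun y => by
    rw [mul_assoc, ← mul_inv_rev, mul_smul, (tt.mulc tu).same (add_comm φ ψ ▸ tu.mulc tt), smul_inv_smul]
  have e1 : AbC.mk hab _ (sq (tt.mulc tu)) =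
      AbC.mk hab _ m + u • AbC.mk hab _ (sq tt) + AbC.mk hab _ (sq tu) := AbC.ext (by simp [mul_assoc])
  have e2 : t • AbC.mk hab _ m = AbC.mk hab _ (sq tt) + -(u • AbC.mk hab _ (sq tt)) + -AbC.mk hab _ m :=
    AbC.ext (by simp [mul_assoc])
  have e3 : t • u • AbC.mk hab _ (sq tt) = u • AbC.mk hab _ (sq tt) := by
    rw [← mul_smul, D.same ((tt.mulc tu).same (add_comm φ ψ ▸ tu.mulc tt)), mul_smul]
    congr 1
    exact AbC.ext (by simp [mul_assoc])
  rw [e1, smul_add, smul_add, e2, e3] at k4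
  refine hx (D.inj ?_)
  rw [D.j0, ← k4, ← D.j0, ← s.aa x, D.add]
  nth_rw 1 [← k1]
  rw [← k3]
  abel

theorem nab (h8 : 8 ≤ Nat.card V) (hs : ∀ a ∈ Cv G V, ∃ v, ι v = a * a) :
    ∀ a ∈ Cv G V, ∀ b ∈ Cv G V, a * b = b * a := by
  haveI := h.Wn
  let K := h.W.subgroupOf (Cv G V)
  have sq : ∀ m : Cv G V ⧸ K, m * m = 1 := fun m => QuotientGroup.induction_on m fun a =>
    (QuotientGroup.eq_one_iff (a * a)).2 (hs a a.2)
  have cm : ∀ a b : Cv G V ⧸ K, a * b = b * a := fun a b => by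
    rw [← inv_eq_of_mul_eq_one_left (sq (a * b)), mul_inv_rev, inv_eq_of_mul_eq_one_left (sq a),
      inv_eq_of_mul_eq_one_left (sq b)]
  letI : AddCommGroup (Additive (Cv G V ⧸ K)) :=
    { (inferInstance : AddGroup (Additive (Cv G V ⧸ K))) with add_comm := cm }
  let f : G → Cv G V ⧸ K →* Cv G V ⧸ K := fun g =>
    QuotientGroup.map K K (MulAut.conjNormal g : MulAut (Cv G V)).toMonoidHom fun a ha => h.Wn.conj_mem _ ha g
  letI : DistribMulAction G (Additive (Cv G V ⧸ K)) :=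
    { smul := fun g m => f g m
      one_smul := fun m => QuotientGroup.induction_on m fun a =>
        congrArg QuotientGroup.mk (Subtype.ext (show 1 * a.1 * 1⁻¹ = a by simp))
      mul_smul := fun g k m => QuotientGroup.induction_on m fun a => congrArg QuotientGroup.mk
        (Subtype.ext (show g * k * a.1 * (g * k)⁻¹ = g * (k * a.1 * k⁻¹) * g⁻¹ by group))
      smul_zero := fun g => map_one (f g)
      smul_add := fun g => map_mul (f g) }
  choose q hq using fun a : Cv G V => hs a a.2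
  let Q : Additive (Cv G V ⧸ K) → V := Quotient.lift q fun a b e => h.inj (by
    obtain ⟨v, hv⟩ := QuotientGroup.leftRel_apply.1 e
    have : (b : G) = a * ι v := by rw [hv]; simp
    rw [hq, hq, this, mul_assoc, ← mul_assoc (ι v), ← h.com a.2, mul_assoc, h.sq, mul_one])
  let π : Cv G V → Additive (Cv G V ⧸ K) := fun a => Additive.ofMul (a : Cv G V ⧸ K)
  have πs : ∀ m, ∃ a, π a = m := QuotientGroup.mk_surjective
  have B : ∀ a b : Cv G V, ι (Bq Q (π a) (π b)) = (a : G)⁻¹ * b * a * b⁻¹ :=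
    fun a b => by
      show ι (q (a * b) + q a + q b) = _
      rw [add_comm (q (a * b)), h.add, h.add, eq_inv_of_mul_eq_one_left (h.sq (q a)),
        eq_inv_of_mul_eq_one_left (h.sq (q b)), hq, hq, hq]
      simp [mul_assoc]
  have D : QD s G Q := by
    refine ⟨hi, hT, h8, k2, fun g hg m => ?_, sq, fun g m => ?_, fun m e => ?_, fun a b c => ?_⟩
    · obtain ⟨a, rfl⟩ := πs m
      let c : Cv G V := ⟨g, mem_Cv.2 hg⟩
      show ((c * a * c⁻¹ : Cv G V) : Cv G V ⧸ K) = a
      rw [QuotientGroup.mk_mul, QuotientGroup.mk_mul, cm c, QuotientGroup.mk_inv, mul_inv_cancel_right]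
    · obtain ⟨a, rfl⟩ := πs m
      refine h.inj ((hq (MulAut.conjNormal g a)).trans ?_)
      rw [h.sm]
      exact conj_mul.trans (by rw [← hq]; rfl)
    · obtain ⟨a, rfl⟩ := πs m
      exact (QuotientGroup.eq_one_iff a).2 (h.inv _ ((hq a).symm.trans (by rw [show q a = 0 from e, h.z])))
    · obtain ⟨a, rfl⟩ := πs a
      obtain ⟨b, rfl⟩ := πs b
      obtain ⟨c, rfl⟩ := πs c
      refine h.inj ((B (a * b) c).trans ?_)
      rw [h.add, B b, ← mul_assoc, ← mul_assoc, ← mul_assoc, ← h.com (inv_mem b.2), B]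
      simp [mul_assoc]
  intro a ha b hb
  have := B ⟨a, ha⟩ ⟨b, hb⟩
  rw [D.main, h.z] at this
  simp only [Subgroup.coe_inv] at this
  rw [eq_mul_inv_iff_mul_eq, one_mul, mul_assoc, eq_inv_mul_iff_mul_eq] at this
  exact this

end Py

universe u

theorem noFull {V : Type*} [AddCommGroup V] [Finite V] (hp : (Nat.card V - 1).Prime) (n : ℕ) :
    ∀ (G : Type u) [Group G] [Finite G] (ι : V → G), Nat.card G = n → Py0 ι →
      (∀ e : V ≃+ V, ∃ g : G, ∀ v, ι (e v) = g * ι v * g⁻¹) → False := by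
  induction n using Nat.strong_induction_on with
  | _ n ih =>
  intro G _ _ ι hn h0 hF
  letI := h0.act
  have h : Py ι := h0.py
  have F : Full G V := fun e => (hF e).imp fun g c v => h.inj (by rw [h.sm, c])
  have hT := F.allT (pg h.h2)
  have hi := pg_inv h.h2 G
  have k2 : K2 G V := by
    intro g hg
    by_contra hg2
    obtain ⟨r, hr, d, r2⟩ : ∃ r : ℕ, r.Prime ∧ r ∣ orderOf g ∧ r ≠ 2 := by
      by_contra hn
      push Not at hn
      exact hg2 ⟨_, orderOf_dvd_iff_pow_eq_one.1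
        (Nat.eq_prime_pow_of_unique_prime_dvd (orderOf_pos g).ne' fun a b => hn _ a b).dvd⟩
    haveI := Fact.mk hr
    obtain ⟨R, R1, R2, R3⟩ := exSyl r (Cv G V)
    have R0 : R ≠ ⊥ := by
      rintro rfl
      exact R3 (by
        rw [Subgroup.relIndex_bot_left]
        exact d.trans (Subgroup.orderOf_dvd_natCard _ (mem_Cv.2 hg)))
    by_cases hN : Subgroup.normalizer (R : Set G) = ⊤
    · haveI := Subgroup.normalizer_eq_top_iff.1 hN
      have od : ∀ x ∈ R, ∃ m, x ^ (2 * m + 1) = 1 := fun x hx => by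
        obtain ⟨k, hk⟩ := R2 ⟨x, hx⟩
        obtain ⟨m, hm⟩ := (hr.odd_of_ne_two r2).pow (n := k)
        exact ⟨m, hm ▸ congrArg Subtype.val hk⟩
      refine ih _ ?_ (G ⧸ R) (fun v => ι v) rfl ⟨fun u v => by rw [h.add]; rfl, fun u v e => ?_,
        h.h2, fun x => QuotientGroup.induction_on x fun y e => ?_⟩
        fun e => (hF e).elim fun g c => ⟨g, fun v => by rw [c]; rfl⟩
      · rw [← hn, Subgroup.card_eq_card_quotient_mul_card_subgroup R]
        exact lt_mul_of_one_lt_right Nat.card_pos ((Subgroup.one_lt_card_iff_ne_bot _).2 R0)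
      · obtain ⟨m, hm⟩ := od _ (QuotientGroup.eq.1 e)
        rw [inv_eq_of_mul_eq_one_left (h.sq u), ← h.add, pow_succ, pow_mul, pow_two, h.sq, one_pow,
          one_mul, ← h.z] at hm
        exact (pg h.h2).az.1 (h.inj hm)
      · obtain ⟨m, hm⟩ := od _ ((QuotientGroup.eq_one_iff (y * y)).1 e)
        obtain ⟨v, hv⟩ := h.inv (y ^ (2 * m + 1)) (by rw [← (Commute.refl y).mul_pow, hm])
        exact ⟨v, by rw [hv, QuotientGroup.mk_pow, pow_succ, pow_mul, pow_two, e, one_pow, one_mul]⟩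
    · have m : ∀ v, ι v ∈ Subgroup.normalizer (R : Set G) := fun v =>
        Subgroup.centralizer_le_normalizer _ fun a ha => h.com (R1 ha) v
      refine ih _ ?_ (Subgroup.normalizer (R : Set G)) (fun v => ⟨ι v, m v⟩) rfl
        ⟨fun u v => Subtype.ext (h.add u v), fun u v e => h.inj (congrArg Subtype.val e), h.h2,
          fun x e => (h.inv x (congrArg Subtype.val e)).imp fun _ => Subtype.ext⟩ fun e => ?_
      · rw [← hn]
        exact Finite.card_subtype_lt (x := ((SetLike.exists_of_lt (lt_top_iff_ne_top.2 hN)).choose))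
          (SetLike.exists_of_lt (lt_top_iff_ne_top.2 hN)).choose_spec.2
      · obtain ⟨g, hg⟩ := F e
        obtain ⟨c, c1, c2⟩ := witt R2 R3 (g := g) fun q hq =>
          Subgroup.Normal.conj_mem inferInstance _ (R1 hq) g
        exact ⟨⟨_, c2⟩, fun v => Subtype.ext (by
          rw [← hg, ← mem_Cv.1 c1 (g • v), ← mul_smul]; exact h.sm _ _)⟩
  have h4 : 4 ≤ Nat.card V := by
    obtain ⟨n, hn⟩ := (pg h.h2).card_pow
    have := hp.two_le
    rcases n with _ | n
    · omega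
    · rw [pow_succ] at hn; omega
  have h8 := h.eight hi hT k2 h4
  refine h.ab hi hT k2 h8 ((h.tv hp (fun _ _ => hT.trans) (T := Cv G V) (fun g => ?_) le_rfl
    (by simp) h.mem).elim id (h.nab hi hT k2 h8))
  exact (k2 g (mem_Cv.1 g.2)).imp fun _ => Subtype.ext

end H20.CK
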