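import Cfsg.Agent.H20.CK.T
import Cfsg.Agent.S0144

/-! Groups in which distinct involutions do not commute. -/

set_option autoImplicit false
set_option linter.unusedSectionVars false

namespace H20.CK
open MulAction Subgroup

theorem lin_sq {r : ℕ} [Fact r.Prime] (r2 : r ≠ 2) {M : Type*} [AddCommGroup M] [Module (ZMod r) M]
    [Finite M] (T A B : M →ₗ[ZMod r] M) (hT : ∀ v, T (T v) = v) (hA : Function.Injective A)
    (hB : Function.Injective B) (h1 : ∀ v, A (T v) = T (A v)) (h2 : ∀ v, B (T v) = T (B v))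
    (h3 : ∀ v, A (B v) = T (B (A v))) :
    ∃ m, Nat.card M = Nat.card (T - LinearMap.id).ker * m ^ 2 := by
  let N := (T - LinearMap.id).range
  have a : ∀ v ∈ N, A v ∈ N := by rintro _ ⟨v, rfl⟩; exact ⟨A v, by simp [h1]⟩
  have b : ∀ v ∈ N, B v ∈ N := by rintro _ ⟨v, rfl⟩; exact ⟨B v, by simp [h2]⟩
  have t : ∀ v ∈ N, T v = -v := by rintro _ ⟨v, rfl⟩; simp [hT]
  have e : A.restrict a * B.restrict b = (-1 : ZMod r) • (B.restrict b * A.restrict a) :=
    LinearMap.ext fun v => Subtype.ext (by simpa using (h3 v).trans (t _ (b _ (a _ v.2))))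
  have d := congrArg LinearMap.det e
  have u : ∀ {C : M →ₗ[ZMod r] M} (c : ∀ v ∈ N, C v ∈ N), Function.Injective C →
      LinearMap.det (C.restrict c) ≠ 0 := fun c h =>
    mt LinearMap.det_eq_zero_iff_ker_ne_bot.1 (not_not.2 (LinearMap.ker_eq_bot.2 fun x y e =>
      Subtype.ext (h (congrArg Subtype.val e))))
  rw [LinearMap.det_smul, map_mul, map_mul, mul_comm (LinearMap.det (B.restrict b)),
    right_eq_mul₀ (mul_ne_zero (u a hA) (u b hB))] at d
  haveI : Fact (2 < r) := ⟨lt_of_le_of_ne (Fact.out : r.Prime).two_le r2.symm⟩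
  obtain ⟨k, hk⟩ := (neg_one_pow_eq_one_iff_even ZMod.neg_one_ne_one).1 d
  refine ⟨r ^ k, ?_⟩
  rw [← pow_mul, mul_two, ← hk, Submodule.card_eq_card_quotient_mul_card (T - LinearMap.id).ker,
    Nat.card_congr (α := M ⧸ _) (T - LinearMap.id).quotKerEquivRange.toEquiv,
    Module.natCard_eq_pow_finrank (K := ZMod r) (V := N), Nat.card_zmod]

theorem lin_sq' {r : ℕ} [Fact r.Prime] (r2 : r ≠ 2) {G M : Type*} [Group G] [AddCommGroup M]
    [Finite M] [DistribMulAction G M] (hr : ∀ v : M, r • v = 0) {x y t : G} (h0 : t * t = 1)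
    (h1 : x * t = t * x) (h2 : y * t = t * y) (h3 : x * y = t * (y * x)) :
    ∃ m, Nat.card M = Nat.card {v : M // t • v = v} * m ^ 2 := by
  obtain ⟨_⟩ : Nonempty (Module (ZMod r) M) := ⟨AddCommGroup.zmodModule hr⟩
  let L : G → M →ₗ[ZMod r] M := fun g => (DistribSMul.toAddMonoidHom _ g).toZModLinearMap r
  have Le : ∀ (g : G) (v : M), L g v = g • v := fun _ _ => rfl
  obtain ⟨m1, e1⟩ := lin_sq r2 (L t) (L x) (L y) (fun v => by rw [Le, Le, ← mul_smul, h0, one_smul])
    (MulAction.injective x) (MulAction.injective y)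
    (fun v => by simp only [Le, ← mul_smul, h1]) (fun v => by simp only [Le, ← mul_smul, h2])
    fun v => by simp only [Le, ← mul_smul, h3]
  exact ⟨m1, e1.trans (congrArg (· * _) (Nat.card_congr (Equiv.subtypeEquivRight fun v => sub_eq_zero)))⟩

universe u

theorem odd_half {G : Type*} [Group G] {w : G} {m : ℕ} (hm : Odd m) (h : w ^ m = 1) :
    ∃ i : ℕ, w ^ i * w ^ i = w := by
  obtain ⟨k, rfl⟩ := hm
  exact ⟨k + 1, by rw [← pow_add, show k + 1 + (k + 1) = 2 * k + 1 + 1 by ring, pow_succ, h, one_mul]⟩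

theorem card_map_ker {G H : Type*} [Group G] [Group H] [Finite G] (f : G →* H) (K : Subgroup G) :
    Nat.card K = Nat.card (K ⊓ f.ker : Subgroup G) * Nat.card (K.map f) := by
  rw [← relIndex_ker, ← inf_relIndex_left, card_mul_relIndex inf_le_left]

theorem grp_sq (n : ℕ) : ∀ (G : Type u) [Group G] [Finite G] (O : Subgroup G) [O.Normal] (x y t : G),
    Nat.card O = n → Odd n → t * t = 1 → x * t = t * x → y * t = t * y → x * y = t * (y * x) →
    ∃ m, n = Nat.card (O ⊓ centralizer {t} : Subgroup G) * m ^ 2 := by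
  induction n using Nat.strong_induction_on with
  | _ n ih =>
  intro G _ _ O _ x y t hn od h0 h1 h2 h3
  by_cases c : O = ⊥
  · exact ⟨1, by simp [← hn, c]⟩
  obtain ⟨A, A1, A2, A3, A4⟩ := H1.exists_abelian_normal_le O c (ft O (hn ▸ od))
  have ab : ∀ a ∈ A, ∀ b ∈ A, a * b = b * a := fun a ha b hb =>
    congrArg Subtype.val (A4.1.1 ⟨a, ha⟩ ⟨b, hb⟩)
  obtain ⟨r, hr, d⟩ := Nat.exists_prime_and_dvd ((one_lt_card_iff_ne_bot _).2 A3).ne'
  haveI := Fact.mk hr
  have r2 : r ≠ 2 := by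
    rintro rfl
    exact (Nat.not_even_iff_odd.2 od) (even_iff_two_dvd.2 (hn ▸ d.trans (card_dvd_of_le A1)))
  let W : Subgroup G :=
    { carrier := {a | a ∈ A ∧ a ^ r = 1}
      one_mem' := ⟨one_mem _, one_pow _⟩
      inv_mem' := fun ⟨a, b⟩ => ⟨inv_mem a, by simp [b]⟩
      mul_mem' := fun {a b} ⟨a1, a2⟩ ⟨b1, b2⟩ =>
        ⟨mul_mem a1 b1, by rw [Commute.mul_pow (ab a a1 b b1), a2, b2, mul_one]⟩ }
  haveI : W.Normal := ⟨fun a ⟨a1, a2⟩ g => ⟨A2.conj_mem a a1 g, by simp [a2]⟩⟩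
  have WO : W ≤ O := fun a ha => A1 ha.1
  have W1 : 1 < Nat.card W := (one_lt_card_iff_ne_bot _).2 (by
    obtain ⟨a, ha⟩ := exists_prime_orderOf_dvd_card' r d
    refine (ne_bot_iff_exists_ne_one).2 ⟨⟨a, a.2, congrArg Subtype.val (ha ▸ pow_orderOf_eq_one a)⟩,
      fun e => hr.one_lt.ne' ?_⟩
    rw [← ha, show a = 1 from Subtype.ext (congrArg (Subtype.val : W → G) e), orderOf_one])
  have hab : ∀ a ∈ W, ∀ b ∈ W, a * b = b * a := fun a ha b hb => ab a ha.1 b hb.1
  obtain ⟨m1, e1⟩ := lin_sq' r2 (M := AbC W hab) (fun a => AbC.ext a.mem.2) h0 h1 h2 h3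
  have e2 : Nat.card {v : AbC W hab // t • v = v} = Nat.card (W ⊓ centralizer {t} : Subgroup G) := by
    refine Nat.card_congr ⟨fun a => ⟨a.1.val, a.1.mem, mem_centralizer_singleton_iff.2 ?_⟩,
      fun a => ⟨AbC.mk hab a a.2.1, AbC.ext ?_⟩, fun _ => rfl, fun _ => rfl⟩
    · exact (mul_inv_eq_iff_eq_mul.1 (congrArg AbC.val a.2)).symm
    · exact mul_inv_eq_iff_eq_mul.2 (mem_centralizer_singleton_iff.1 a.2.2).symm
  let π := QuotientGroup.mk' W
  have c1 := card_map_ker π O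
  rw [QuotientGroup.ker_mk', inf_eq_right.2 WO, hn] at c1
  obtain ⟨m2, e3⟩ := ih (Nat.card (O.map π))
    (by rw [c1]; exact lt_mul_of_one_lt_left Nat.card_pos W1) (G ⧸ W) (O.map π) (π x) (π y) (π t) rfl
    (od.of_dvd_nat (Dvd.intro_left _ c1.symm)) (by rw [← map_mul, h0, map_one])
    (by rw [← map_mul, h1, map_mul]) (by rw [← map_mul, h2, map_mul]) (by simp only [← map_mul, h3])
  have c2 := card_map_ker π (O ⊓ centralizer {t})
  rw [QuotientGroup.ker_mk', inf_right_comm, inf_eq_right.2 WO,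
    show (O ⊓ centralizer {t}).map π = O.map π ⊓ centralizer {π t} from ?_] at c2
  · refine ⟨m1 * m2, ?_⟩
    rw [c1, c2, e3, show Nat.card W = _ from e1, e2]
    ring
  refine le_antisymm ?_ ?_
  · rintro _ ⟨a, ⟨a1, a2⟩, rfl⟩
    exact ⟨⟨a, a1, rfl⟩, mem_centralizer_singleton_iff.2 (by
      rw [← map_mul, mem_centralizer_singleton_iff.1 a2, map_mul])⟩
  · rintro _ ⟨⟨a, a1, rfl⟩, a2⟩
    have w : (a * t)⁻¹ * (t * a) ∈ W := QuotientGroup.eq.1 (mem_centralizer_singleton_iff.1 a2)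
    have ti : t⁻¹ = t := inv_eq_of_mul_eq_one_left h0
    obtain ⟨i, hi⟩ := odd_half (hr.odd_of_ne_two r2) w.2
    set z := (a * t)⁻¹ * (t * a) with hz
    have z1 : t * z = z⁻¹ * t := by simp [hz, ti, mul_assoc, ← mul_assoc t t, h0]
    have z2 : t * z ^ i = (z ^ i)⁻¹ * t := by
      rw [← inv_pow]; exact SemiconjBy.pow_right z1 i
    refine ⟨a * (z ^ i)⁻¹, ⟨mul_mem a1 (WO (inv_mem (pow_mem w i))),
      mem_centralizer_singleton_iff.2 ?_⟩, ?_⟩
    · rw [mul_assoc, ← z2, ← mul_assoc t, eq_mul_inv_iff_mul_eq, mul_assoc, mul_assoc, hi, hz]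
      simp [mul_assoc]
    · rw [map_mul, show π (z ^ i)⁻¹ = 1 from (QuotientGroup.eq_one_iff _).2 (inv_mem (pow_mem w i)),
        mul_one]

variable {G : Type u} [Group G] [Finite G]

abbrev Iv (G : Type*) [Group G] := {x : G // orderOf x = 2}

instance : MulAction G (Iv G) where
  smul g x := ⟨g * x * g⁻¹, ((MulAut.conj g).orderOf_eq x).trans x.2⟩
  one_smul x := Subtype.ext (show 1 * x.1 * 1⁻¹ = x by simp)
  mul_smul g h x := Subtype.ext (show g * h * x.1 * (g * h)⁻¹ = g * (h * x.1 * h⁻¹) * g⁻¹ by group)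

theorem Iv.fix {g : G} {x : Iv G} : g • x = x ↔ g * x = x * g :=
  Subtype.ext_iff.trans mul_inv_eq_iff_eq_mul
theorem Iv.sq (x : Iv G) : x.1 * x = 1 := by
  have := pow_orderOf_eq_one x.1
  rwa [x.2, _root_.sq] at this
theorem Iv.ne (x : Iv G) : x.1 ≠ 1 := fun e => by simpa [e] using x.2

theorem card_Iv (H : Subgroup G) (t : Iv G) (h : ∀ s : Iv G, ∃ g ∈ H, g • t = s) :
    Nat.card (Iv G) = (centralizer {t.1}).relIndex H := by
  rw [← Set.ncard_univ, ← orb_eq (H := H) (x := t) (Y := Set.univ) (fun _ _ => trivial) fun s _ => h s,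
    ← relIndex_stab, inf_relIndex_left]
  congr 1
  ext g
  rw [mem_stabilizer_iff, Iv.fix, mem_centralizer_singleton_iff]

def Uq (G : Type*) [Group G] : Prop := ∀ s t : Iv G, s.1 * t = t * s → s = t

theorem Uq.ab (h : Uq G) (S : Sylow 2 G) (ab : ∀ a b : S, a * b = b * a) : Group.IsSolvable G := by
  have hP : normalizer (S : Set G) ≤ centralizer (S : Set G) := fun g hg x hx => by
    let a := (S : Subgroup G).normalizerMonoidHom ⟨g, hg⟩
    have o : Nat.Coprime (orderOf a) 2 := by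
      have : a ^ (S : Subgroup G).relIndex (normalizer (S : Set G)) = 1 := by
        rw [← map_pow]
        haveI : ((S : Subgroup G).subgroupOf (normalizer (S : Set G))).Normal := normal_in_normalizer
        have m := pow_index_mem (H := (S : Subgroup G).subgroupOf (normalizer (S : Set G))) ⟨g, hg⟩
        exact MulEquiv.ext fun y => Subtype.ext (mul_inv_eq_iff_eq_mul.2
          (congrArg Subtype.val (ab ⟨_, m⟩ y)))
      refine Nat.Coprime.coprime_dvd_left (orderOf_dvd_of_pow_eq_one this) ?_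
      exact ((Nat.prime_two.coprime_iff_not_dvd).2 fun d => S.not_dvd_index
        (d.trans (relIndex_dvd_index_of_le le_normalizer))).symm
    have := H4.mulAut_fix_of_pow_mul (H := ⊤) (S.2.to_subgroup ⊤) o (fun _ _ => trivial)
      (fun x _ y _ => Commute.mul_pow (ab x y) 2) (fun x _ e => ?_) ⟨x, hx⟩ trivial
    · exact (mul_inv_eq_iff_eq_mul.1 (congrArg Subtype.val this)).symm
    by_cases c : x = 1
    · rw [c, map_one]
    let s : Iv G := ⟨x, (orderOf_coe x).trans (orderOf_eq_prime e c)⟩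
    exact Subtype.ext (congrArg (Subtype.val : Iv G → G) (h (g • s) s (congrArg Subtype.val (ab (a x) x))))
  haveI : IsMulCommutative (S : Subgroup G) := ⟨⟨ab⟩⟩
  haveI := ft _ (Nat.odd_iff.2 (Nat.two_dvd_ne_zero.1
    (MonoidHom.not_dvd_card_ker_transferSylow S hP)))
  haveI : Group.IsSolvable S := Group.isSolvable_of_comm ab
  exact Group.isSolvable_of_ker_le_range (MonoidHom.transferSylow S hP).ker.subtype
    (MonoidHom.transferSylow S hP) (by simp)

theorem exists_xyt {S : Type*} [Group S] [Finite S] (hS : IsPGroup 2 S)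
    (h : ¬ ∀ a b : S, a * b = b * a) :
    ∃ x y t : S, orderOf t = 2 ∧ t ∈ center S ∧ x * y = t * (y * x) := by
  haveI : Nontrivial (S ⧸ center S) := by
    by_contra hn
    rw [not_nontrivial_iff_subsingleton] at hn
    exact h fun a b => (mem_center_iff.1 ((QuotientGroup.eq_one_iff b).1 (Subsingleton.elim _ _)) a)
  have p := hS.to_quotient (center S)
  haveI := p.center_nontrivial
  obtain ⟨n, n0, hn⟩ := (p.to_subgroup (center _)).nontrivial_iff_card.1 inferInstance
  obtain ⟨⟨z, z1⟩, hz⟩ := exists_prime_orderOf_dvd_card' (G := center (S ⧸ center S)) 2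
    (hn ▸ dvd_pow_self 2 n0.ne')
  obtain ⟨x, rfl⟩ := QuotientGroup.mk_surjective z
  rw [orderOf_mk] at hz
  have x2 : x * x ∈ center S := (QuotientGroup.eq_one_iff _).1 (by
    rw [QuotientGroup.mk_mul, ← sq, ← hz, pow_orderOf_eq_one])
  obtain ⟨y, hy⟩ : ∃ y, y * x ≠ x * y := by
    by_contra hn
    push Not at hn
    rw [(QuotientGroup.eq_one_iff x).2 (mem_center_iff.2 hn)] at hz
    simp at hz
  have c : x * y * (y * x)⁻¹ ∈ center S := (QuotientGroup.eq_one_iff _).1 (by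
    rw [QuotientGroup.mk_mul, QuotientGroup.mk_inv, QuotientGroup.mk_mul, QuotientGroup.mk_mul,
      mem_center_iff.1 z1, mul_inv_cancel])
  refine ⟨x, y, _, orderOf_eq_prime ?_ fun e => hy (mul_inv_eq_one.1 e).symm, c, by group⟩
  calc _ = x * (x * y * (y * x)⁻¹) * y * (y * x)⁻¹ := by
        rw [sq, mem_center_iff.1 c x]; simp only [mul_assoc]
    _ = (x * x * y) * (x * x)⁻¹ * y⁻¹ := by group
    _ = 1 := by rw [← mem_center_iff.1 x2 y]; group

theorem Uq.nine (h : Uq G) (h9 : Nat.card (Iv G) = 9)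
    (tr : ∀ s t : Iv G, ∃ g : G, g • s = t) : Group.IsSolvable G := by
  let K := (toPermHom G (Iv G)).ker
  refine sol_ext K (ft K ?_) ?_
  · rw [← Nat.not_even_iff_odd, even_iff_two_dvd]
    intro d
    obtain ⟨x, hx⟩ := exists_prime_orderOf_dvd_card' 2 d
    have : ∀ s : Iv G, ⟨x, (orderOf_coe x).trans hx⟩ = s := fun s =>
      h _ s (Iv.fix.1 (Equiv.ext_iff.1 x.2 s))
    haveI : Subsingleton (Iv G) := ⟨fun a b => (this a).symm.trans (this b)⟩
    have := Finite.card_le_one_iff_subsingleton.2 this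
    omega
  obtain ⟨a, m, h2, e1⟩ := Nat.exists_eq_pow_mul_and_not_dvd (Nat.card_pos (α := G ⧸ K)).ne' 2 (by norm_num)
  obtain ⟨b, m', h3, e2⟩ := Nat.exists_eq_pow_mul_and_not_dvd (n := m) (by rintro rfl; simp at h2) 3
    (by norm_num)
  suffices m' = 1 from Cfsg.Agent.S0144.result 2 3 a b Nat.prime_two Nat.prime_three (by
    rw [e1, e2, this, mul_one])
  by_contra hn
  obtain ⟨r, hr, d⟩ := Nat.exists_prime_and_dvd hn
  have r5 : 5 ≤ r := by
    have := hr.two_le
    by_contra hl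
    have : r = 2 ∨ r = 3 ∨ r = 4 := by omega
    rcases this with rfl | rfl | rfl
    exacts [h2 (e2 ▸ d.mul_left _), h3 d, absurd hr (by norm_num)]
  haveI := Fact.mk hr
  obtain ⟨q, hq⟩ := exists_prime_orderOf_dvd_card' (G := G ⧸ K) r
    (e1 ▸ (e2 ▸ d.mul_left _ : r ∣ m).mul_left _)
  obtain ⟨g, rfl⟩ := QuotientGroup.mk_surjective q
  have g1 : g ^ r ∈ K := (QuotientGroup.eq_one_iff _).1 (by
    rw [QuotientGroup.mk_pow, ← hq, pow_orderOf_eq_one])
  let M := {u : Iv G | g • u ≠ u}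
  have m1 : r ∣ M.ncard := dvd_ncard (zpowers g) _ M rfl (by
    rintro _ ⟨i, rfl⟩ u hu e
    rw [← mul_smul, ((Commute.refl g).zpow_right i).eq, mul_smul] at e
    exact hu (MulAction.injective _ e)) fun u hu => by
    rcases (Nat.dvd_prime hr).1 ((pow_fix (k := g) (x := u)).1 (Equiv.ext_iff.1 g1 u)) with c | c
    · exact absurd (by simpa using (pow_fix (k := g) (x := u) (n := 1)).2 c.dvd) hu
    · exact c.symm.dvd
  have m2 : 0 < M.ncard := (Set.ncard_pos (Set.toFinite _)).2 (by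
    by_contra hn
    have : g ∈ K := Equiv.ext fun u => not_not.1 fun c => hn ⟨u, c⟩
    rw [(QuotientGroup.eq_one_iff g).2 this, orderOf_one] at hq
    omega)
  have m3 : M.ncard ≤ 9 := h9 ▸ Set.ncard_le_card M
  have m4 : M.ncard = r := by
    obtain ⟨c, hc⟩ := m1
    rcases c with _ | _ | c
    · omega
    · omega
    · nlinarith
  obtain ⟨s, hs⟩ : ∃ s, s ∉ M := by
    by_contra hn
    push Not at hn
    rw [Set.eq_univ_of_forall hn, Set.ncard_univ, h9] at m4
    exact absurd (m4 ▸ hr) (by norm_num)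
  have hs' := Iv.fix.1 (not_not.1 hs)
  have m5 : 2 ∣ M.ncard := dvd_ncard (zpowers s.1) _ M rfl (by
    rintro _ ⟨i, rfl⟩ u hu e
    rw [← mul_smul, (Commute.zpow_right hs' i).eq, mul_smul] at e
    exact hu (MulAction.injective _ e)) fun u hu => by
    rcases (Nat.dvd_prime Nat.prime_two).1 ((pow_fix (k := s.1) (x := u)).1
      (by rw [sq, s.sq, one_smul])) with c | c
    · have := h s u (Iv.fix.1 (by simpa using (pow_fix (k := s.1) (x := u) (n := 1)).2 c.dvd))
      exact absurd (this ▸ hu) hs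
    · exact c.symm.dvd
  rw [m4, Nat.prime_dvd_prime_iff_eq Nat.prime_two hr] at m5
  omega

end H20.CK
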