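import Cfsg.Agent.H20.CK.U
import Cfsg.Agent.S4037

/-! Groups with one class of involutions of prime power size. -/

set_option autoImplicit false
set_option linter.unusedSectionVars false

namespace H20.CK
open MulAction Subgroup

universe u
variable {G : Type u} [Group G] [Finite G]

theorem exO (G : Type u) [Group G] [Finite G] :
    ∃ O : Subgroup G, ∃ _ : O.Normal, Odd (Nat.card O) ∧ NoO (G ⧸ O) := by
  obtain ⟨O, ⟨h1, h2⟩, h3⟩ := Set.exists_max_image {O : Subgroup G | O.Normal ∧ Odd (Nat.card O)}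
    (fun O => Nat.card O) (Set.toFinite _) ⟨⊥, inferInstance, by simp⟩
  refine ⟨O, h1, h2, fun N n1 n2 => ?_⟩
  have c := card_map_ker (QuotientGroup.mk' O) (N.comap (QuotientGroup.mk' O))
  rw [map_comap_eq_self_of_surjective (QuotientGroup.mk'_surjective _),
    inf_eq_right.2 (ker_le_comap _ _), QuotientGroup.ker_mk'] at c
  have := h3 _ ⟨n1.comap _, c ▸ h2.mul n2⟩
  rw [c] at this
  exact eq_bot_of_card_le _ (le_of_mul_le_mul_left (this.trans (mul_one _).ge) Nat.card_pos)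

theorem mers_exp {p j n : ℕ} (hp : p.Prime) (h2 : p ≠ 2) (hj : j ≠ 0) (h : 2 ^ n = p ^ j + 1) :
    p ^ j = p := by
  obtain ⟨b, rfl⟩ := hp.odd_of_ne_two h2
  have b0 : b ≠ 0 := by rintro rfl; exact absurd hp (by norm_num)
  have k : ∀ i, ∃ t, (2 * b + 1) ^ (2 * i) = 4 * (b + 1) * t + 1 := fun i => by
    induction i with
    | zero => exact ⟨0, rfl⟩
    | succ i ih =>
      obtain ⟨t, ht⟩ := ih
      exact ⟨t * (2 * b + 1) ^ 2 + b, by rw [mul_add, pow_add, ht]; ring⟩
  obtain ⟨i, rfl | rfl⟩ := Nat.even_or_odd' j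
  · obtain ⟨t, ht⟩ := k i
    have : 1 < (2 * b + 1) ^ (2 * i) := Nat.one_lt_pow hj hp.one_lt
    rw [ht, mul_assoc] at h this
    rcases n with _ | _ | n
    · omega
    · omega
    · rw [pow_succ, pow_succ] at h; omega
  · obtain ⟨t, ht⟩ := k i
    have d : 2 * (t * (2 * b + 1)) + 1 ∣ 2 ^ n := ⟨2 * b + 2, by rw [h, pow_succ, ht]; ring⟩
    have := (Nat.coprime_two_right.2 ⟨_, rfl⟩).pow_right n |>.eq_one_of_dvd d
    have t0 : t = 0 := by simpa using this
    rw [pow_succ, ht, t0]; simp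

theorem back {p k : ℕ} (hp : p.Prime) (h2 : p ≠ 2) (hk : Odd k ∨ p ^ k = 9)
    (hc : Nat.card (Iv G) = p ^ k) (tr : ∀ s t : Iv G, ∃ g : G, g • s = t) : Group.IsSolvable G := by
  obtain ⟨O, _, od, hO⟩ := exO G
  let π := QuotientGroup.mk' O
  have o1 : ∀ x ∈ O, x ^ Nat.card O = 1 := fun x hx =>
    congrArg Subtype.val (pow_card_eq_one' (x := (⟨x, hx⟩ : O)))
  have o2 : ∀ x ∈ O, x * x = 1 → x = 1 := fun x hx e => by
    obtain ⟨m, hm⟩ := od
    simpa [hm, pow_succ, pow_mul, sq, e] using o1 x hx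
  let f : Iv G → Iv (G ⧸ O) := fun t => ⟨π t, orderOf_eq_prime (by rw [sq, ← map_mul, t.sq, map_one])
    fun e => t.ne (o2 _ ((QuotientGroup.eq_one_iff _).1 e) t.sq)⟩
  have fs : Function.Surjective f := fun ⟨x, hx⟩ => by
    obtain ⟨y, rfl⟩ := QuotientGroup.mk_surjective x
    have e : (y : G ⧸ O) * y = 1 := Iv.sq ⟨_, hx⟩
    obtain ⟨m, hm⟩ := od
    have e2 : π (y ^ Nat.card O) = y := by
      rw [map_pow, hm, pow_succ, pow_mul, sq]; exact by rw [show π y * π y = 1 from e]; simp [π]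
    refine ⟨⟨y ^ Nat.card O, orderOf_eq_prime ?_ fun c => ?_⟩, Subtype.ext e2⟩
    · rw [← pow_mul, mul_comm, pow_mul, sq, o1 _ ((QuotientGroup.eq_one_iff (y * y)).1 e)]
    · rw [c, map_one] at e2; exact Iv.ne ⟨_, hx⟩ e2.symm
  have tr' : ∀ s t : Iv (G ⧸ O), ∃ g : G ⧸ O, g • s = t := fun s t => by
    obtain ⟨s, rfl⟩ := fs s
    obtain ⟨t, rfl⟩ := fs t
    obtain ⟨g, rfl⟩ := tr s t
    exact ⟨π g, rfl⟩
  obtain ⟨t⟩ : Nonempty (Iv G) := (Nat.card_pos_iff.1 (hc ▸ pow_pos hp.pos k)).1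
  obtain ⟨j, -, hj⟩ : ∃ j ≤ k, Nat.card (Iv (G ⧸ O)) = p ^ j := by
    rw [← Nat.dvd_prime_pow hp, ← hc, card_Iv ⊤ t fun s => (tr t s).imp fun _ e => ⟨trivial, e⟩,
      card_Iv ⊤ (f t) fun s => (tr' _ s).imp fun _ e => ⟨trivial, e⟩, relIndex_top_right,
      relIndex_top_right, ← index_comap_of_surjective _ (QuotientGroup.mk'_surjective O)]
    exact index_dvd_of_le fun g hg => mem_centralizer_singleton_iff.2
      (congrArg π (mem_centralizer_singleton_iff.1 hg))
  by_cases j0 : j = 0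
  · rw [j0, pow_zero, Nat.card_eq_one_iff_unique] at hj
    have e : ∀ s t : Iv G, s.1 * t ∈ O := fun s t => by
      have := QuotientGroup.eq.1 (congrArg Subtype.val (hj.1.1 (f s) (f t)))
      rwa [inv_eq_of_mul_eq_one_left s.sq] at this
    have U : Uq G := fun s t c => Subtype.ext (by
      have := o2 _ (e s t) (by rw [Commute.mul_mul_mul_comm c.symm, s.sq, t.sq, mul_one])
      rw [← inv_eq_of_mul_eq_one_left t.sq, eq_inv_of_mul_eq_one_left this])
    obtain ⟨S⟩ : Nonempty (Sylow 2 G) := inferInstance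
    by_cases ab : ∀ a b : S, a * b = b * a
    · exact U.ab S ab
    obtain ⟨x, y, z, z1, z2, z3⟩ := exists_xyt S.2 ab
    let t : Iv G := ⟨z, (orderOf_coe z).trans z1⟩
    obtain ⟨m, hm⟩ := grp_sq _ G O x y z rfl od t.sq (congrArg Subtype.val (mem_center_iff.1 z2 x))
      (congrArg Subtype.val (mem_center_iff.1 z2 y)) (congrArg Subtype.val z3)
    have c := card_Iv O t fun s => by
      obtain ⟨i, hi⟩ := odd_half od (o1 _ (e s t))
      refine ⟨_, pow_mem (e s t) i, Subtype.ext ?_⟩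
      have z1 : t.1 * (s.1 * t)⁻¹ = (s.1 * t) * t := by
        rw [mul_inv_rev, inv_eq_of_mul_eq_one_left t.sq, inv_eq_of_mul_eq_one_left s.sq, ← mul_assoc,
          t.sq, mul_assoc, t.sq, one_mul, mul_one]
      show (s.1 * t) ^ i * t * ((s.1 * t) ^ i)⁻¹ = s
      rw [← inv_pow, mul_assoc, (SemiconjBy.pow_right z1 i).eq, ← mul_assoc, hi, mul_assoc, t.sq,
        mul_one]
    rw [← inf_relIndex_left] at c
    rw [← card_mul_relIndex (inf_le_left (b := centralizer {(z : G)})), ← c, hc,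
      Nat.mul_right_inj Nat.card_pos.ne'] at hm
    refine U.nine (hc.trans (hk.resolve_left fun o => ?_)) tr
    have := congrArg (·.factorization p) hm
    simp only [Nat.factorization_pow, Finsupp.smul_apply, hp.factorization_self, smul_eq_mul] at this
    obtain ⟨l, hl⟩ := o
    omega
  refine sol_ext O (ft O od) ?_
  haveI := Cfsg.Agent.S4037.result t.1 hp k (by
    rw [← hc, ← Set.ncard_univ, ← Set.ncard_image_of_injective _ Subtype.val_injective]
    congr 1
    ext x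
    rw [ConjClasses.mem_carrier_iff_mk_eq, eq_comm, ConjClasses.mk_eq_mk_iff_isConj, isConj_iff]
    exact ⟨fun ⟨g, e⟩ => ⟨g • t, trivial, e⟩, fun ⟨s, _, e⟩ => (tr t s).imp fun g c =>
      (congrArg Subtype.val c).trans e⟩)
  haveI := (normalClosure_normal (s := {t.1})).map π (QuotientGroup.mk'_surjective _)
  obtain ⟨A, -, A2, A3, A4⟩ := H1.exists_abelian_normal_le ((normalClosure {t.1}).map π)
    (fun e => (f t).ne ((eq_bot_iff_forall _).1 e _ ⟨_, subset_normalClosure rfl, rfl⟩))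
    (Group.isSolvable_of_surjective (π.subgroupMap_surjective _))
  obtain ⟨a, ha⟩ := exists_prime_orderOf_dvd_card' (G := A) 2
    (even_iff_two_dvd.1 (Nat.not_odd_iff_even.1 fun o => A3 (hO A A2 o)))
  have mA : ∀ x : G ⧸ O, x * x = 1 → x ∈ A := fun x hx => by
    by_cases c : x = 1
    · exact c ▸ one_mem _
    obtain ⟨g, hg⟩ := tr' ⟨a, (orderOf_coe a).trans ha⟩ ⟨x, orderOf_eq_prime (by rw [sq, hx]) c⟩
    have e : g * a * g⁻¹ = x := congrArg Subtype.val hg
    exact e ▸ A2.conj_mem _ a.2 g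
  have ab : ∀ x y : G ⧸ O, x * x = 1 → y * y = 1 → x * y = y * x := fun x y hx hy =>
    congrArg Subtype.val (A4.1.1 ⟨x, mA x hx⟩ ⟨y, mA y hy⟩)
  let W : Subgroup (G ⧸ O) :=
    { carrier := {x | x * x = 1}
      one_mem' := mul_one 1
      inv_mem' := fun {x} (h : x * x = 1) => show x⁻¹ * x⁻¹ = 1 by rw [← mul_inv_rev, h, inv_one]
      mul_mem' := fun {x y} (hx : x * x = 1) (hy : y * y = 1) => show x * y * (x * y) = 1 by
        rw [Commute.mul_mul_mul_comm (ab y x hy hx), hx, hy, mul_one] }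
  haveI : W.Normal := ⟨fun x (hx : x * x = 1) g => show _ * _ = _ by rw [conj_mul, hx]; simp⟩
  have hab : ∀ x ∈ W, ∀ y ∈ W, x * y = y * x := fun x hx y hy => ab x y hx hy
  have P : Py (AbC.val : AbC W hab → G ⧸ O) := ⟨⟨fun _ _ => rfl, fun _ _ => AbC.ext,
    fun v => AbC.ext v.mem, fun x hx => ⟨AbC.mk hab x hx, rfl⟩⟩, fun _ _ => rfl⟩
  let ε : {v : AbC W hab // v ≠ 0} ≃ Iv (G ⧸ O) :=
    ⟨fun v => ⟨v.1.val, orderOf_eq_prime (by rw [sq]; exact v.1.mem) (P.ne v.2)⟩,
      fun x => ⟨AbC.mk hab x x.sq, fun e => x.ne (congrArg AbC.val e)⟩, fun _ => rfl, fun _ => rfl⟩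
  have c := (card_nz _).symm.trans ((Nat.card_congr ε).trans hj)
  obtain ⟨n, hn⟩ := (pg P.h2).card_pow
  have := mers_exp (n := n) hp h2 j0 (by rw [← c, ← hn, Nat.sub_add_cancel Nat.card_pos])
  refine P.mers (by rwa [c, this]) (fun u v hu hv => ?_) hO
  exact (tr' (ε ⟨u, hu⟩) (ε ⟨v, hv⟩)).imp fun g e => AbC.ext (congrArg (Subtype.val : Iv _ → _) e)

open Matrix MatrixGroups

theorem sl2_sq {F : Type*} [Field F] (h2 : (2 : F) ≠ 0) {A : SL(2, F)} (h : A * A = 1) :
    A = 1 ∨ A = -1 := by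
  have d := A.det_coe
  rw [det_fin_two] at d
  have e := fun i j => congrFun (congrFun (congrArg Subtype.val h) i) j
  have e1 := e 0 0
  have e2 := e 0 1
  have e3 := e 1 0
  simp [mul_apply, Fin.sum_univ_two] at e1 e2 e3
  have t : A 0 0 + A 1 1 ≠ 0 := fun c => h2 (by linear_combination (A 0 0) * c - e1 - d)
  have b : A 0 1 = 0 := (mul_eq_zero.1 (by linear_combination e2)).resolve_left t
  have c : A 1 0 = 0 := (mul_eq_zero.1 (by linear_combination e3)).resolve_left t
  rw [b] at e1 d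
  rcases mul_self_eq_one_iff.1 (by linear_combination e1 : A 0 0 * A 0 0 = 1) with a | a
  · refine .inl (Matrix.SpecialLinearGroup.ext _ _ fun i j => ?_)
    fin_cases i <;> fin_cases j <;> simp [a, b, c]
    simpa [a] using d
  · refine .inr (Matrix.SpecialLinearGroup.ext _ _ fun i j => ?_)
    fin_cases i <;> fin_cases j <;> simp [a, b, c]
    rw [a] at d
    linear_combination -d

theorem forw {F : Type} [Field F] [Finite F] (h2 : (2 : F) ≠ 0) {a : F} (ha : a ≠ 0) (h1 : a ^ 2 ≠ 1) :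
    ∃ (G : Type) (_ : Group G) (_ : Finite G), Nat.card (Iv G) = Nat.card F ^ 2 ∧
      (∀ s t : Iv G, ∃ g : G, g • s = t) ∧ ¬ Group.IsSolvable G := by
  let φ : SL(2, F) →* MulAut (Multiplicative (Fin 2 → F)) :=
    { toFun := fun A => AddEquiv.toMultiplicative (SpecialLinearGroup.toLin' A).toAddEquiv
      map_one' := by rw [map_one]; rfl
      map_mul' := fun A B => by rw [map_mul]; rfl }
  have φn : ∀ v, φ (-1) v = v⁻¹ := fun v => by
    show Multiplicative.ofAdd (SpecialLinearGroup.toLin' (-1 : SL(2, F)) v.toAdd) = _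
    simp [SpecialLinearGroup.toLin'_apply]
  have n1 : (-1 : SL(2, F)) ≠ 1 := fun e => h2 (by
    have := congrFun (congrFun (congrArg Subtype.val e) 0) 0
    simp at this
    linear_combination -this)
  have k : ∀ s : Iv (Multiplicative (Fin 2 → F) ⋊[φ] SL(2, F)), s.1.right = -1 := fun s =>
    (sl2_sq h2 (congrArg SemidirectProduct.right s.sq)).resolve_left fun e => s.ne (by
      have := congrArg SemidirectProduct.left s.sq
      rw [SemidirectProduct.mul_left, e, map_one] at this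
      have e2 : (2 : F) • s.1.left.toAdd = 0 := by rw [two_smul]; exact this
      exact SemidirectProduct.ext ((smul_eq_zero.1 e2).resolve_left h2) e)
  refine ⟨Multiplicative (Fin 2 → F) ⋊[φ] SL(2, F), inferInstance,
    Finite.of_equiv _ SemidirectProduct.equivProd.symm, ?_, fun s t => ?_, fun h => ?_⟩
  · rw [show Nat.card F ^ 2 = Nat.card (Fin 2 → F) by rw [Nat.card_fun, Nat.card_fin]]
    exact Nat.card_congr (β := Multiplicative (Fin 2 → F)) ⟨fun s => s.1.left, fun v => ⟨⟨v, -1⟩, orderOf_eq_prime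
      (SemidirectProduct.ext (by simp [sq, φn]) (by simp [sq]))
      fun e => n1 (congrArg SemidirectProduct.right e)⟩,
      fun s => Subtype.ext (SemidirectProduct.ext rfl (k s).symm), fun _ => rfl⟩
  · refine ⟨.inl (.ofAdd ((2 : F)⁻¹ • (t.1.left.toAdd - s.1.left.toAdd))),
      Subtype.ext (SemidirectProduct.ext ?_ ((k _).trans (k t).symm))⟩
    show (_ * s.1 * _).left = _
    simp only [← map_inv, SemidirectProduct.mul_left, SemidirectProduct.left_inl,
      SemidirectProduct.right_inl, SemidirectProduct.mul_right, map_one, one_mul, k, φn, inv_inv,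
      MulAut.one_apply]
    refine Multiplicative.toAdd.injective ?_
    simp only [toAdd_mul, toAdd_ofAdd]
    rw [add_right_comm, ← two_smul F, smul_smul, mul_inv_cancel₀ h2, one_smul, sub_add_cancel]
  · haveI := Group.isSolvable_of_surjective (SemidirectProduct.rightHom_surjective (φ := φ))
    haveI : Nontrivial SL(2, F) := ⟨_, _, n1⟩
    exact (Group.IsSolvable.commutator_lt_top_of_nontrivial _).ne (SL2.commutator_eq_top ha h1)

theorem pyr (p k : ℕ) (hp : p.Prime) (hp2 : p ≠ 2) (hk : 1 ≤ k) :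
    (∀ (G : Type) [Group G] [Finite G], Nat.card {x : G // orderOf x = 2} = p ^ k →
      (∀ x y : G, orderOf x = 2 → orderOf y = 2 → ∃ g : G, g * x * g⁻¹ = y) → Group.IsSolvable G) ↔
      (Odd k ∨ p ^ k = 9) := by
  refine ⟨fun h => ?_, fun h G _ _ h1 h2 => back hp hp2 h h1 fun s t =>
    (h2 s t s.2 t.2).imp fun _ => Subtype.ext⟩
  by_contra hn
  push Not at hn
  obtain ⟨j, rfl⟩ := Nat.not_odd_iff_even.1 hn.1
  haveI := Fact.mk hp
  have c := GaloisField.card p j (by omega)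
  have q : 3 < p ^ j := by
    have : 3 ≤ p ^ j := (by have := hp.two_le; omega : 3 ≤ p).trans (Nat.le_self_pow (by omega) p)
    exact lt_of_le_of_ne this fun e => hn.2 (by rw [pow_add, ← e]; rfl)
  obtain ⟨a, ha⟩ : ∃ a, a ∉ ({0, 1, -1} : Set (GaloisField p j)) := by
    by_contra hn
    push Not at hn
    have := Set.ncard_le_ncard (s := Set.univ) fun z _ => hn z
    have l : ({0, 1, -1} : Set (GaloisField p j)).ncard ≤ 3 :=
      (Set.ncard_insert_le _ _).trans (Nat.succ_le_succ ((Set.ncard_insert_le _ _).trans (by simp)))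
    rw [Set.ncard_univ, c] at this
    omega
  simp only [Set.mem_insert_iff, Set.mem_singleton_iff, not_or] at ha
  obtain ⟨G, _, _, g1, g2, g3⟩ := forw (F := GaloisField p j) (Ring.two_ne_zero (by
    rwa [ringChar.eq _ p])) ha.1 (mt sq_eq_one_iff.1 (not_or.2 ha.2))
  exact g3 (h G (by rw [g1, c, sq, pow_add]) fun x y hx hy =>
    (g2 ⟨x, hx⟩ ⟨y, hy⟩).imp fun _ => congrArg Subtype.val)

end H20.CK
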